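/-
Ideal sheaves of a sheaf of rings on a space: local generation, products, inverse images, invertibility.
-/
import Groth.Prelude.Def_FBlow

set_option autoImplicit false
set_option linter.style.haveILetI false

universe u

open CategoryTheory CategoryTheory.Limits TopologicalSpace Opposite FBlow

namespace Groth.Agent.FormBlow

variable {T : TopCat.{u}} {O : Sheaf (Opens.grothendieckTopology T) CommRingCat.{u}}

variable (O) in
/-- sections over an open -/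
abbrev sec (U : Opens T) : CommRingCat.{u} := O.obj.obj (op U)

/-- restriction -/
def rs {U V : Opens T} (i : V ≤ U) : sec O U →+* sec O V := (O.obj.map (homOfLE i).op).hom

theorem rs_rs {U V W : Opens T} (i : V ≤ U) (j : W ≤ V) (s : sec O U) :
    rs j (rs i s) = rs (j.trans i) s :=
  IdealSh.map_comp_apply i j s

theorem rs_self {U : Opens T} (i : U ≤ U) (s : sec O U) : rs i s = s :=
  IdealSh.map_id_apply i s

theorem rs_mem (J : IdealSh O) {U V : Opens T} (i : V ≤ U) {s : sec O U} (hs : s ∈ J.sect U) :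
    rs i s ∈ J.sect V :=
  J.map_mem i hs

theorem idealSh_antisymm {J K : IdealSh O} (h₁ : J ≤ K) (h₂ : K ≤ J) : J = K :=
  IdealSh.ext (funext fun U => le_antisymm (h₁ U) (h₂ U))

theorem sec_ext {U : Opens T} {s t : sec O U}
    (h : ∀ x ∈ U, ∃ (W : Opens T) (i : W ≤ U), x ∈ W ∧ rs i s = rs i t) : s = t := by
  choose W i hxW hW using h
  exact TopCat.Sheaf.eq_of_locally_eq' O (fun x : U => W x.1 x.2) U (fun x => homOfLE (i x.1 x.2))
    (fun x hx => Opens.mem_iSup.mpr ⟨⟨x, hx⟩, hxW x hx⟩) s t fun x => hW x.1 x.2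

/-- multiplication by `g` is injective on all opens inside `U` -/
def NzdOn (U : Opens T) (g : sec O U) : Prop :=
  ∀ (V : Opens T) (i : V ≤ U) (t : sec O V), t * rs i g = 0 → t = 0

theorem NzdOn.res {U V : Opens T} {g : sec O U} (h : NzdOn U g) (i : V ≤ U) : NzdOn V (rs i g) := by
  intro W j t ht
  rw [rs_rs] at ht
  exact h W _ t ht

theorem NzdOn.cancel {U V : Opens T} {g : sec O U} (h : NzdOn U g) (i : V ≤ U) {a b : sec O V}
    (e : a * rs i g = b * rs i g) : a = b :=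
  sub_eq_zero.1 (h V i _ (by rw [sub_mul, e, sub_self]))

theorem NzdOn.mul {U : Opens T} {g g' : sec O U} (h : NzdOn U g) (h' : NzdOn U g') : NzdOn U (g * g') := by
  intro V i t ht
  rw [map_mul, ← mul_assoc] at ht
  exact h V i _ (h' V i _ ht)

theorem NzdOn.of_mul_left {U : Opens T} {g g' : sec O U} (h : NzdOn U (g * g')) : NzdOn U g := by
  intro V i t ht
  exact h V i t (by rw [map_mul, ← mul_assoc, ht, zero_mul])

theorem NzdOn.of_local {U : Opens T} {g : sec O U}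
    (h : ∀ x ∈ U, ∃ (W : Opens T) (i : W ≤ U), x ∈ W ∧ NzdOn W (rs i g)) : NzdOn U g := by
  intro V i t ht
  refine sec_ext fun x hx => ?_
  obtain ⟨W, j, hxW, hW⟩ := h x (i hx)
  refine ⟨V ⊓ W, inf_le_left, ⟨hx, hxW⟩, ?_⟩
  rw [map_zero]
  refine hW (V ⊓ W) inf_le_right _ ?_
  have h' := congrArg (rs (inf_le_left : V ⊓ W ≤ V)) ht
  rw [map_mul, map_zero, rs_rs] at h'
  rw [rs_rs]
  exact h'

variable {ι : Type*}

/-- sections lying, on `U`, locally in the span of the family `f` -/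
def relGen (U : Opens T) (f : ι → sec O U) : IdealSh O where
  sect V :=
    { carrier := {s | ∀ x ∈ V ⊓ U, ∃ (W : Opens T) (i : W ≤ V) (j : W ≤ U),
        x ∈ W ∧ rs i s ∈ Ideal.span (Set.range fun k => rs j (f k))}
      add_mem' := fun {s t} hs ht x hx => by
        obtain ⟨W₁, i₁, j₁, hx₁, h₁⟩ := hs x hx
        obtain ⟨W₂, i₂, j₂, hx₂, h₂⟩ := ht x hx
        refine ⟨W₁ ⊓ W₂, inf_le_left.trans i₁, inf_le_left.trans j₁, ⟨hx₁, hx₂⟩, ?_⟩
        rw [map_add]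
        refine Ideal.add_mem _ ?_ ?_
        · have h := Ideal.mem_map_of_mem (rs (O := O) (inf_le_left : W₁ ⊓ W₂ ≤ W₁)) h₁
          rw [Ideal.map_span, ← Set.range_comp] at h
          simpa only [Function.comp_def, rs_rs] using h
        · have h := Ideal.mem_map_of_mem (rs (O := O) (inf_le_right : W₁ ⊓ W₂ ≤ W₂)) h₂
          rw [Ideal.map_span, ← Set.range_comp] at h
          simpa only [Function.comp_def, rs_rs] using h
      zero_mem' := fun x hx => ⟨V ⊓ U, inf_le_left, inf_le_right, hx, by rw [map_zero]; exact Ideal.zero_mem _⟩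
      smul_mem' := fun c {s} hs x hx => by
        obtain ⟨W, i, j, hxW, hW⟩ := hs x hx
        refine ⟨W, i, j, hxW, ?_⟩
        rw [smul_eq_mul, map_mul]
        exact Ideal.mul_mem_left _ _ hW }
  map_mem {V V'} k s hs x hx := by
    obtain ⟨W, i, j, hxW, hW⟩ := hs x ⟨k hx.1, hx.2⟩
    refine ⟨W ⊓ V', inf_le_right, inf_le_left.trans j, ⟨hxW, hx.1⟩, ?_⟩
    have h := Ideal.mem_map_of_mem (rs (O := O) (inf_le_left : W ⊓ V' ≤ W)) hW
    rw [Ideal.map_span, ← Set.range_comp] at h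
    simp only [Function.comp_def, rs_rs] at h
    show rs _ (rs k s) ∈ _
    rw [rs_rs]
    exact h
  mem_of_local {V s} hs x hx := by
    obtain ⟨V', k, hxV', hV'⟩ := hs x hx.1
    obtain ⟨W, i, j, hxW, hW⟩ := hV' x ⟨hxV', hx.2⟩
    exact ⟨W, i.trans k, j, hxW, by rw [← rs_rs k i]; exact hW⟩

theorem mem_relGen_iff {U V : Opens T} {f : ι → sec O U} {s : sec O V} :
    s ∈ (relGen U f).sect V ↔ ∀ x ∈ V ⊓ U, ∃ (W : Opens T) (i : W ≤ V) (j : W ≤ U),
      x ∈ W ∧ rs i s ∈ Ideal.span (Set.range fun k => rs j (f k)) :=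
  Iff.rfl

theorem relGen_le_of_mem {κ : Type*} {U U' : Opens T} (hU : U' ≤ U) {f : ι → sec O U} {h : κ → sec O U'}
    (hf : ∀ k, rs hU (f k) ∈ (relGen U' h).sect U') : relGen U f ≤ relGen U' h := by
  intro V s hs x hx
  obtain ⟨W, i, j, hxW, hW⟩ := hs x ⟨hx.1, hU hx.2⟩
  have hWU : W ⊓ U' ≤ U' := inf_le_right
  have hres : rs (inf_le_left.trans i : W ⊓ U' ≤ V) s ∈ (relGen U' h).sect (W ⊓ U') := by
    have h' := Ideal.mem_map_of_mem (rs (O := O) (inf_le_left : W ⊓ U' ≤ W)) hW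
    rw [Ideal.map_span, ← Set.range_comp] at h'
    simp only [Function.comp_def, rs_rs] at h'
    refine (Ideal.span_le.2 ?_) h'
    rintro _ ⟨k, rfl⟩
    have h'' := rs_mem (relGen U' h) hWU (hf k)
    rw [rs_rs] at h''
    exact h''
  obtain ⟨W', i', j', hxW', hW'⟩ := hres x ⟨⟨hxW, hx.2⟩, hx.2⟩
  exact ⟨W', i'.trans (inf_le_left.trans i), j', hxW', by rw [← rs_rs _ i']; exact hW'⟩

theorem mem_relGen_self {U : Opens T} (f : ι → sec O U) (k : ι) : f k ∈ (relGen U f).sect U :=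
  fun x hx => ⟨U, le_rfl, le_rfl, hx.1, Ideal.subset_span ⟨k, rfl⟩⟩

theorem relGen_mono {U : Opens T} {V : Opens T} (i : V ≤ U) (f : ι → sec O U) :
    relGen U f ≤ relGen V (fun k => rs i (f k)) :=
  relGen_le_of_mem i fun k => mem_relGen_self (fun k => rs i (f k)) k

/-- membership in `J` of a section locally in the span of members -/
theorem mem_of_mem_relGen (J : IdealSh O) {U V : Opens T} (hVU : V ≤ U) {f : ι → sec O U}
    (hf : ∀ k, f k ∈ J.sect U) {s : sec O V} (hs : s ∈ (relGen U f).sect V) : s ∈ J.sect V := by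
  refine J.mem_of_local fun x hx => ?_
  obtain ⟨W, i, j, hxW, hW⟩ := hs x ⟨hx, hVU hx⟩
  refine ⟨W, i, hxW, ?_⟩
  exact (Ideal.span_le.2 (by rintro _ ⟨k, rfl⟩; exact rs_mem J j (hf k))) hW

/-- gluing of quotients by a non-zero-divisor -/
theorem exists_eq_mul {U V : Opens T} (hVU : V ≤ U) {g : sec O U} (hg : NzdOn U g) {s : sec O V}
    (hs : s ∈ (relGen U fun _ : Unit => g).sect V) : ∃ t, s = t * rs hVU g := by
  have h : ∀ x : V, ∃ (W : Opens T) (i : W ≤ V) (t : sec O W),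
      x.1 ∈ W ∧ rs i s = t * rs (i.trans hVU) g := fun x => by
    obtain ⟨W, i, j, hxW, hW⟩ := hs x.1 ⟨x.2, hVU x.2⟩
    rw [Set.range_const, Ideal.mem_span_singleton'] at hW
    obtain ⟨t, ht⟩ := hW
    exact ⟨W, i, t, hxW, ht.symm⟩
  choose W i t hxW ht using h
  have hcomp : TopCat.Presheaf.IsCompatible O.obj W t := by
    intro a b
    show rs (inf_le_left : W a ⊓ W b ≤ W a) (t a) = rs (inf_le_right : W a ⊓ W b ≤ W b) (t b)
    refine hg.cancel (inf_le_left.trans ((i a).trans hVU)) ?_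
    have ha := congrArg (rs (inf_le_left : W a ⊓ W b ≤ W a)) (ht a)
    have hb := congrArg (rs (inf_le_right : W a ⊓ W b ≤ W b)) (ht b)
    rw [map_mul, rs_rs, rs_rs] at ha hb
    exact ha.symm.trans hb
  obtain ⟨gl, hgl, -⟩ := TopCat.Sheaf.existsUnique_gluing' O W V (fun x => homOfLE (i x))
    (fun x hx => Opens.mem_iSup.2 ⟨⟨x, hx⟩, hxW ⟨x, hx⟩⟩) t hcomp
  refine ⟨gl, sec_ext fun x hx => ⟨W ⟨x, hx⟩, i ⟨x, hx⟩, hxW ⟨x, hx⟩, ?_⟩⟩
  rw [map_mul, rs_rs]
  rw [show rs (i ⟨x, hx⟩) gl = t ⟨x, hx⟩ from hgl ⟨x, hx⟩]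
  exact ht ⟨x, hx⟩

/-- `g` generates `J` on `U` and is a non-zero-divisor there -/
def InvOn (J : IdealSh O) (U : Opens T) (g : sec O U) : Prop :=
  g ∈ J.sect U ∧ NzdOn U g ∧ J ≤ relGen U fun _ : Unit => g

theorem InvOn.res {J : IdealSh O} {U V : Opens T} {g : sec O U} (h : InvOn J U g) (i : V ≤ U) :
    InvOn J V (rs i g) :=
  ⟨rs_mem J i h.1, h.2.1.res i, fun W s hs => relGen_mono i (fun _ : Unit => g) W (h.2.2 W hs)⟩

theorem InvOn.exists_eq {J : IdealSh O} {U V : Opens T} {g : sec O U} (h : InvOn J U g) (i : V ≤ U)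
    {s : sec O V} (hs : s ∈ J.sect V) : ∃ t, s = t * rs i g :=
  exists_eq_mul i h.2.1 (h.2.2 V hs)

theorem isInvertible_iff {J : IdealSh O} :
    J.IsInvertible ↔ ∀ x : T, ∃ U : Opens T, x ∈ U ∧ ∃ g, InvOn J U g := by
  refine forall_congr' fun x => exists_congr fun U => and_congr_right fun _ => ?_
  constructor
  · rintro ⟨g, hg, hgen⟩
    refine ⟨g, hg, fun V i t ht => (hgen V i).1 t ht, fun V s hs y hy => ?_⟩
    obtain ⟨t, ht⟩ := (hgen (V ⊓ U) inf_le_right).2 _ (rs_mem J (inf_le_left : V ⊓ U ≤ V) hs)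
    refine ⟨V ⊓ U, inf_le_left, inf_le_right, hy, ?_⟩
    rw [Set.range_const, Ideal.mem_span_singleton']
    exact ⟨t, ht.symm⟩
  · rintro ⟨g, h⟩
    exact ⟨g, h.1, fun V i => ⟨h.2.1 V i, fun s hs => h.exists_eq i hs⟩⟩

/-- a sum equal to one has a summand which is locally a unit -/
def HasLocalUnits (O : Sheaf (Opens.grothendieckTopology T) CommRingCat.{u}) : Prop :=
  ∀ (U : Opens T) (n : ℕ) (c : Fin n → sec O U), ∑ i, c i = 1 → ∀ x ∈ U,
    ∃ (W : Opens T) (i : W ≤ U) (k : Fin n), x ∈ W ∧ IsUnit (rs i (c k))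

theorem invOn_mul {J K : IdealSh O} {U : Opens T} {g g' : sec O U} (hJ : InvOn J U g) (hK : InvOn K U g') :
    InvOn (IdealSh.mul J K) U (g * g') := by
  refine ⟨IdealSh.subset_gen _ U ⟨g, hJ.1, g', hK.1, rfl⟩, hJ.2.1.mul hK.2.1, IdealSh.gen_le ?_⟩
  rintro W _ ⟨a, ha, b, hb, rfl⟩ x hx
  obtain ⟨t, ht⟩ := hJ.exists_eq (inf_le_right : W ⊓ U ≤ U) (rs_mem J inf_le_left ha)
  obtain ⟨t', ht'⟩ := hK.exists_eq (inf_le_right : W ⊓ U ≤ U) (rs_mem K inf_le_left hb)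
  refine ⟨W ⊓ U, inf_le_left, inf_le_right, hx, ?_⟩
  rw [Set.range_const, Ideal.mem_span_singleton']
  exact ⟨t * t', by rw [map_mul, map_mul, ht, ht']; ring⟩

theorem isInvertible_mul {J K : IdealSh O} (hJ : J.IsInvertible) (hK : K.IsInvertible) :
    (IdealSh.mul J K).IsInvertible := by
  rw [isInvertible_iff] at *
  intro x
  obtain ⟨U, hxU, g, hg⟩ := hJ x
  obtain ⟨V, hxV, g', hg'⟩ := hK x
  exact ⟨U ⊓ V, ⟨hxU, hxV⟩, _, invOn_mul (hg.res inf_le_left) (hg'.res inf_le_right)⟩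

theorem mul_comm_idealSh (J K : IdealSh O) : IdealSh.mul J K = IdealSh.mul K J := by
  refine idealSh_antisymm (IdealSh.gen_le ?_) (IdealSh.gen_le ?_) <;>
  · rintro W _ ⟨a, ha, b, hb, rfl⟩
    exact IdealSh.subset_gen _ W ⟨b, hb, a, ha, mul_comm a b⟩

/-- a factor of an invertible ideal sheaf is invertible -/
theorem isInvertible_of_mul (hO : HasLocalUnits O) {J K : IdealSh O} (h : (IdealSh.mul J K).IsInvertible) :
    J.IsInvertible := by
  rw [isInvertible_iff] at *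
  intro x
  obtain ⟨U, hxU, g, hg⟩ := h x
  obtain ⟨V, i, hxV, hV⟩ := hg.1 x hxU
  obtain ⟨n, c, v, hv⟩ := Submodule.mem_span_set'.1 hV
  have hg' := hg.res i
  have hv' : ∀ k, ∃ a ∈ J.sect V, ∃ b ∈ K.sect V, (v k).1 = a * b := fun k => by
    obtain ⟨W, j, _, ⟨a, ha, b, hb, rfl⟩, e⟩ := (v k).2
    exact ⟨rs j a, rs_mem J j ha, rs j b, rs_mem K j hb, e.trans (map_mul (rs j) a b)⟩
  choose a ha b hb hab using hv'
  have hmem : ∀ k, a k * b k ∈ (IdealSh.mul J K).sect V := fun k =>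
    IdealSh.subset_gen _ V ⟨a k, ha k, b k, hb k, rfl⟩
  choose e he using fun k => hg'.exists_eq le_rfl (hmem k)
  have hsum : ∑ k, c k * e k = 1 := by
    refine hg'.2.1.cancel le_rfl ?_
    rw [Finset.sum_mul, one_mul, rs_self]
    refine Eq.trans (Finset.sum_congr rfl fun k _ => ?_) hv
    rw [smul_eq_mul, hab k, he k, rs_self, mul_assoc]
  obtain ⟨W, j, k, hxW, hu⟩ := hO V n _ hsum x hxV
  rw [map_mul] at hu
  obtain ⟨w, hw⟩ := (isUnit_of_mul_isUnit_right hu)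
  have hW := hg'.res j
  have hek : rs j (a k) * rs j (b k) = w.val * rs j (rs i g) := by
    rw [← map_mul, he k, map_mul, hw, rs_self]
  have hnz : NzdOn W (rs j (a k)) := by
    refine NzdOn.of_mul_left (g' := rs j (b k)) ?_
    rw [hek]
    intro V' l t ht
    rw [map_mul, ← mul_assoc] at ht
    have := hW.2.1 V' l _ ht
    rwa [IsUnit.mul_left_eq_zero (w.isUnit.map (rs l))] at this
  refine ⟨W, hxW, rs j (a k), rs_mem J j (ha k), hnz, fun V' s hs y hy => ?_⟩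
  refine ⟨V' ⊓ W, inf_le_left, inf_le_right, hy, ?_⟩
  rw [Set.range_const, Ideal.mem_span_singleton']
  have hl : V' ⊓ W ≤ W := inf_le_right
  set s' := rs (inf_le_left : V' ⊓ W ≤ V') s
  obtain ⟨t, ht⟩ := hW.exists_eq hl (IdealSh.subset_gen _ (V' ⊓ W)
    ⟨s', rs_mem J _ hs, rs hl (rs j (b k)), rs_mem K _ (rs_mem K j (hb k)), rfl⟩)
  have hek' : rs hl (rs j (a k)) * rs hl (rs j (b k)) = rs hl w.val * rs hl (rs j (rs i g)) := by
    rw [← map_mul, hek, map_mul]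
  obtain ⟨z, hz⟩ : ∃ z, z * rs hl w.val = 1 := (w.isUnit.map (rs hl)).exists_left_inv
  refine ⟨t * z, hW.2.1.cancel hl ?_⟩
  linear_combination (t * z * rs hl (rs j (a k))) * 0 + (s' * rs hl (rs j (rs i g))) * hz -
    (rs hl (rs j (a k)) * z) * ht + (s' * z) * hek'

section Map

variable {T' T'' : TopCat.{u}} {O' : Sheaf (Opens.grothendieckTopology T') CommRingCat.{u}}
  {O'' : Sheaf (Opens.grothendieckTopology T'') CommRingCat.{u}}

/-- pulling a section back along a morphism of ringed spaces -/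
def pb (g : T' ⟶ T) (φ : O ⟶ (TopCat.Sheaf.pushforward CommRingCat.{u} g).obj O') {W : Opens T} {V : Opens T'}
    (j : V ≤ (Opens.map g).obj W) : sec O W →+* sec O' V :=
  (rs (O := O') j).comp (φ.hom.app (op W)).hom

variable (g : T' ⟶ T) (φ : O ⟶ (TopCat.Sheaf.pushforward CommRingCat.{u} g).obj O')

theorem pb_rs {W : Opens T} {V V' : Opens T'} (j : V ≤ (Opens.map g).obj W) (i : V' ≤ V) (a : sec O W) :
    rs i (pb g φ j a) = pb g φ (i.trans j) a :=
  rs_rs (O := O') j i _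

theorem rs_pb {W W' : Opens T} {V : Opens T'} (k : W' ≤ W) (j : V ≤ (Opens.map g).obj W') (a : sec O W) :
    pb g φ j (rs k a) = pb g φ (j.trans ((Opens.map g).map (homOfLE k)).le) a := by
  show rs j (φ.hom.app (op W') (O.obj.map (homOfLE k).op a)) = _
  rw [NatTrans.naturality_apply]
  exact rs_rs (O := O') _ _ _

theorem pb_mem_map (J : IdealSh O) {W : Opens T} {V : Opens T'} (j : V ≤ (Opens.map g).obj W)
    {a : sec O W} (ha : a ∈ J.sect W) : pb g φ j a ∈ (IdealSh.map g φ J).sect V :=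
  IdealSh.image_mem_map g φ J ha j

theorem map_le_of_pb {J : IdealSh O} {K : IdealSh O'}
    (h : ∀ (W : Opens T) (a : sec O W), a ∈ J.sect W → ∀ (V : Opens T') (j : V ≤ (Opens.map g).obj W),
      pb g φ j a ∈ K.sect V) : IdealSh.map g φ J ≤ K :=
  IdealSh.map_le h

/-- generators pull back to generators -/
theorem map_le_relGen {J : IdealSh O} {U : Opens T} {f : ι → sec O U} (h : J ≤ relGen U f) {V : Opens T'}
    (j : V ≤ (Opens.map g).obj U) : IdealSh.map g φ J ≤ relGen V fun k => pb g φ j (f k) := by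
  refine map_le_of_pb g φ fun W a ha V' j' x hx => ?_
  obtain ⟨W₁, i₁, j₁, hxW₁, h₁⟩ := h W ha (g x) ⟨j' hx.1, j hx.2⟩
  refine ⟨V' ⊓ V ⊓ (Opens.map g).obj W₁, inf_le_left.trans inf_le_left, inf_le_left.trans inf_le_right,
    ⟨hx, hxW₁⟩, ?_⟩
  have h₂ := Ideal.mem_map_of_mem (pb g φ (inf_le_right : V' ⊓ V ⊓ (Opens.map g).obj W₁ ≤ _)) h₁
  rw [Ideal.map_span, ← Set.range_comp] at h₂
  simp only [Function.comp_def, rs_pb] at h₂
  simp only [pb_rs]
  exact h₂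

/-- inverse images commute with products -/
theorem map_mul_idealSh (J K : IdealSh O) :
    IdealSh.map g φ (IdealSh.mul J K) = IdealSh.mul (IdealSh.map g φ J) (IdealSh.map g φ K) := by
  refine idealSh_antisymm (map_le_of_pb g φ fun W s hs V j => ?_) (IdealSh.gen_le ?_)
  · refine (IdealSh.mul _ _).mem_of_local fun x hx => ?_
    obtain ⟨W₁, i₁, hxW₁, h₁⟩ := hs (g x) (j hx)
    refine ⟨V ⊓ (Opens.map g).obj W₁, inf_le_left, ⟨hx, hxW₁⟩, ?_⟩
    show rs inf_le_left (pb g φ j s) ∈ _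
    rw [pb_rs, show pb g φ (inf_le_left.trans j : V ⊓ (Opens.map g).obj W₁ ≤ _) s =
      pb g φ inf_le_right (rs i₁ s) from (rs_pb g φ i₁ _ s).symm]
    have hle : (Ideal.span (IdealSh.seed (O := O) (fun W => {t | ∃ a ∈ J.sect W, ∃ b ∈ K.sect W, t = a * b}) W₁)).map
        (pb g φ (inf_le_right : V ⊓ (Opens.map g).obj W₁ ≤ _)) ≤
        (IdealSh.mul (IdealSh.map g φ J) (IdealSh.map g φ K)).sect _ := by
      rw [Ideal.map_span, Ideal.span_le]
      rintro _ ⟨_, ⟨W₂, l, _, ⟨a, ha, b, hb, rfl⟩, rfl⟩, rfl⟩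
      rw [show O.obj.map (homOfLE l).op (a * b) = rs l a * rs l b from map_mul (rs l) a b, map_mul]
      exact IdealSh.subset_gen _ _ ⟨_, pb_mem_map g φ J _ (rs_mem J l ha), _, pb_mem_map g φ K _ (rs_mem K l hb), rfl⟩
    exact hle (Ideal.mem_map_of_mem _ h₁)
  · rintro V _ ⟨a, ha, b, hb, rfl⟩
    refine (IdealSh.map g φ _).mem_of_local fun x hx => ?_
    obtain ⟨V₁, i₁, hx₁, h₁⟩ := ha x hx
    obtain ⟨V₂, i₂, hx₂, h₂⟩ := hb x hx
    refine ⟨V₁ ⊓ V₂, inf_le_left.trans i₁, ⟨hx₁, hx₂⟩, ?_⟩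
    have h₁' := IdealSh.map_span_seed (inf_le_left : V₁ ⊓ V₂ ≤ V₁) h₁
    have h₂' := IdealSh.map_span_seed (inf_le_right : V₁ ⊓ V₂ ≤ V₂) h₂
    rw [IdealSh.map_comp_apply] at h₁' h₂'
    have h₃ := Ideal.mul_mem_mul h₁' h₂'
    rw [Ideal.span_mul_span', ← map_mul] at h₃
    refine (Ideal.span_le.2 ?_) h₃
    rintro _ ⟨_, ⟨W₁, l₁, _, ⟨U₁, m₁, a₁, ha₁, rfl⟩, rfl⟩, _, ⟨W₂, l₂, _, ⟨U₂, m₂, b₁, hb₁, rfl⟩, rfl⟩, rfl⟩
    show rs l₁ (pb g φ m₁ a₁) * rs l₂ (pb g φ m₂ b₁) ∈ _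
    rw [pb_rs, pb_rs]
    have hle : V₁ ⊓ V₂ ≤ (Opens.map g).obj (U₁ ⊓ U₂) := fun y hy => ⟨m₁ (l₁ hy), m₂ (l₂ hy)⟩
    rw [← rs_pb g φ (inf_le_left : U₁ ⊓ U₂ ≤ U₁) hle, ← rs_pb g φ (inf_le_right : U₁ ⊓ U₂ ≤ U₂) hle, ← map_mul]
    exact pb_mem_map g φ _ hle (IdealSh.subset_gen _ _ ⟨_, rs_mem J _ ha₁, _, rs_mem K _ hb₁, rfl⟩)

/-- inverse images compose -/
theorem map_map_idealSh (g' : T'' ⟶ T') (φ' : O' ⟶ (TopCat.Sheaf.pushforward CommRingCat.{u} g').obj O'')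
    (g'' : T'' ⟶ T) (φ'' : O ⟶ (TopCat.Sheaf.pushforward CommRingCat.{u} g'').obj O'')
    (hg : ∀ x, g'' x = g (g' x))
    (hφ : ∀ (W : Opens T) (V' : Opens T') (V : Opens T'') (j : V' ≤ (Opens.map g).obj W)
      (j' : V ≤ (Opens.map g').obj V') (j'' : V ≤ (Opens.map g'').obj W) (a : sec O W),
      pb g'' φ'' j'' a = pb g' φ' j' (pb g φ j a))
    (J : IdealSh O) : IdealSh.map g' φ' (IdealSh.map g φ J) = IdealSh.map g'' φ'' J := by
  refine idealSh_antisymm (map_le_of_pb g' φ' fun W' s hs V j => ?_) (map_le_of_pb g'' φ'' fun W a ha V j => ?_)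
  · refine (IdealSh.map g'' φ'' J).mem_of_local fun x hx => ?_
    obtain ⟨W₁, i₁, hxW₁, h₁⟩ := hs (g' x) (j hx)
    refine ⟨V ⊓ (Opens.map g').obj W₁, inf_le_left, ⟨hx, hxW₁⟩, ?_⟩
    show rs inf_le_left (pb g' φ' j s) ∈ _
    rw [pb_rs, show pb g' φ' (inf_le_left.trans j : V ⊓ (Opens.map g').obj W₁ ≤ _) s =
      pb g' φ' inf_le_right (rs i₁ s) from (rs_pb g' φ' i₁ _ s).symm]
    have h₂ := Ideal.mem_map_of_mem (pb g' φ' (inf_le_right : V ⊓ (Opens.map g').obj W₁ ≤ _)) h₁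
    rw [Ideal.map_span] at h₂
    refine (Ideal.span_le.2 ?_) h₂
    rintro _ ⟨_, ⟨W₂, l, _, ⟨U, m, a, ha, rfl⟩, rfl⟩, rfl⟩
    show pb g' φ' inf_le_right (rs l (pb g φ m a)) ∈ _
    rw [pb_rs, ← hφ U W₁ _ (l.trans m) inf_le_right (fun y hy => by
      show g'' y ∈ U
      rw [hg]; exact m (l hy.2)) a]
    exact pb_mem_map g'' φ'' J _ ha
  · have hj : V ≤ (Opens.map g').obj ((Opens.map g).obj W) := fun y hy => by
      show g (g' y) ∈ W
      rw [← hg]; exact j hy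
    rw [hφ W _ V le_rfl hj j a]
    exact pb_mem_map g' φ' _ hj (pb_mem_map g φ J le_rfl ha)

end Map

end Groth.Agent.FormBlow
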