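/-
The structure sheaf of a formal system: units, pullback of sections, restriction to opens, adic morphisms.
-/
import Groth.Agent.FormBlow.Sheaf
import Groth.Agent.FSchCoh.Ring

set_option autoImplicit false
set_option backward.isDefEq.respectTransparency false
set_option linter.style.haveILetI false

universe u

open CategoryTheory CategoryTheory.Limits AlgebraicGeometry TopologicalSpace Opposite FBlow
open Groth.Agent.FSchCoh (OA RA projR transR transR_projR OA_ext OA_lift projR_surjective)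

noncomputable section

namespace Groth.Agent.FormBlow

variable {𝔛 𝔜 ℨ : FSch.Sys.{u}} (h : 𝔛.IsFormal)

theorem lvU_zero (U : (𝔛.X 0).Opens) : 𝔛.lvU h 0 U = U := by
  have e : 𝔛.gInv h 0 = 𝟙 _ := by
    have := 𝔛.toX_base_gInv h 0
    simpa [FSch.Sys.toX] using this
  show (Opens.map (𝔛.gInv h 0)).obj U = U
  rw [e]
  rfl

theorem lvU_mono {U V : (𝔛.X 0).Opens} (i : V ≤ U) (n : ℕ) : 𝔛.lvU h n V ≤ 𝔛.lvU h n U :=
  FBlow.lvU_mono 𝔛 h n i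

theorem projR_rs {U V : (𝔛.X 0).Opens} (i : V ≤ U) (n : ℕ) (a : OA 𝔛 h U) :
    projR 𝔛 h V n (rs i a) = (𝔛.X n).presheaf.map (homOfLE (lvU_mono h i n)).op (projR 𝔛 h U n a) :=
  NatTrans.naturality_apply (𝔛.OshProj h n).hom (homOfLE i).op a

theorem preimage_basicOpen (U : (𝔛.X 0).Opens) (a : OA 𝔛 h U) (n : ℕ) :
    𝔛.ι n ⁻¹ᵁ (𝔛.X (n + 1)).basicOpen (projR 𝔛 h U (n + 1) a) = (𝔛.X n).basicOpen (projR 𝔛 h U n a) := by
  rw [Scheme.preimage_basicOpen, ← transR_projR 𝔛 h U n a]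
  show _ = (𝔛.X n).basicOpen ((𝔛.ι n).appLE _ _ (𝔛.lvU_le h n U) _)
  rw [Scheme.Hom.appLE, CommRingCat.comp_apply, Scheme.basicOpen_res]
  refine (inf_eq_right.2 ((Scheme.basicOpen_le _ _).trans (𝔛.lvU_succ h n U).le)).symm

theorem basicOpen_projR (U : (𝔛.X 0).Opens) (a : OA 𝔛 h U) : ∀ n,
    (𝔛.X n).basicOpen (projR 𝔛 h U n a) = 𝔛.lvU h n ((𝔛.X 0).basicOpen (projR 𝔛 h U 0 a)) := by
  intro n
  induction n with
  | zero => exact (lvU_zero h _).symm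
  | succ n ih =>
    refine TopologicalSpace.Opens.ext (Set.preimage_injective.2 (h n).2 ?_)
    exact congrArg (fun O : (𝔛.X n).Opens => (O : Set (𝔛.X n)))
      ((preimage_basicOpen h U a n).trans (ih.trans (𝔛.lvU_succ h n _).symm))

theorem isUnit_of_basicOpen_eq {X : Scheme.{u}} {U : X.Opens} (f : Γ(X, U)) (e : U ≤ X.basicOpen f) : IsUnit f := by
  have h' := (RingedSpace.isUnit_res_basicOpen X.toRingedSpace f).map (X.presheaf.map (homOfLE e).op).hom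
  convert h' using 1
  show f = X.presheaf.map (homOfLE e).op (X.presheaf.map (homOfLE (X.basicOpen_le f)).op f)
  rw [FBlow.sch_map_comp_apply]
  exact (congrArg (fun φ => φ f) (X.presheaf.map_id _)).symm

/-- A section is a unit when its image in the zeroth level is one. -/
theorem isUnit_of_projR_zero {U : (𝔛.X 0).Opens} {a : OA 𝔛 h U} (ha : IsUnit (projR 𝔛 h U 0 a)) : IsUnit a := by
  have hu : ∀ n, IsUnit (projR 𝔛 h U n a) := fun n => by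
    refine isUnit_of_basicOpen_eq _ ?_
    rw [basicOpen_projR h U a n, Scheme.basicOpen_of_isUnit _ ha, lvU_zero h U]
  choose b hb using fun n => (hu n).exists_left_inv
  obtain ⟨c, hc⟩ := OA_lift 𝔛 h U b fun n => by
    refine (hu n).mul_left_inj.1 ?_
    rw [hb n, ← transR_projR 𝔛 h U n a, ← map_mul, hb, map_one]
  refine IsUnit.of_mul_eq_one c (OA_ext 𝔛 h U fun n => ?_)
  rw [map_mul, hc, map_one, mul_comm, hb]

theorem exists_isUnit_nhd {U : (𝔛.X 0).Opens} (a : OA 𝔛 h U) {x : 𝔛.X 0}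
    (hx : x ∈ (𝔛.X 0).basicOpen (projR 𝔛 h U 0 a)) :
    ∃ (W : (𝔛.X 0).Opens) (i : W ≤ U), x ∈ W ∧ IsUnit (rs i a : OA 𝔛 h W) := by
  have hle : (𝔛.X 0).basicOpen (projR 𝔛 h U 0 a) ≤ U :=
    ((𝔛.X 0).basicOpen_le _).trans (lvU_zero h U).le
  refine ⟨_, hle, hx, isUnit_of_projR_zero h (isUnit_of_basicOpen_eq _ ?_)⟩
  rw [projR_rs, Scheme.basicOpen_res]
  exact le_inf le_rfl (lvU_zero h _).le

theorem hasLocalUnits : HasLocalUnits (𝔛.Osh h) := by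
  intro U n c hc x hx
  have hx' : x ∈ 𝔛.lvU h 0 U := (lvU_zero h U).ge hx
  have hg := congrArg (fun t => (𝔛.X 0).presheaf.germ (𝔛.lvU h 0 U) x hx' (projR 𝔛 h U 0 t)) hc
  simp only [map_sum, map_one] at hg
  obtain ⟨k, hk⟩ : ∃ k, IsUnit ((𝔛.X 0).presheaf.germ (𝔛.lvU h 0 U) x hx' (projR 𝔛 h U 0 (c k))) := by
    by_contra hne
    push Not at hne
    have : (1 : (𝔛.X 0).presheaf.stalk x) ∈ IsLocalRing.maximalIdeal _ := hg ▸ Ideal.sum_mem _ fun k _ => hne k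
    exact this isUnit_one
  obtain ⟨W, i, hxW, hu⟩ := exists_isUnit_nhd h (c k) ((Scheme.mem_basicOpen (𝔛.X 0) _ x hx').2 hk)
  exact ⟨W, i, k, hxW, hu⟩

section Morphism

variable (h𝔜 : 𝔜.IsFormal) (f : 𝔜 ⟶ 𝔛)

/-- pulling a section back along a morphism of formal systems -/
abbrev shPb {W : (𝔛.X 0).Opens} {V : (𝔜.X 0).Opens} (j : V ≤ (f : FSch.Hom 𝔜 𝔛).app 0 ⁻¹ᵁ W) :
    OA 𝔛 h W →+* OA 𝔜 h𝔜 V :=
  pb ((f : FSch.Hom 𝔜 𝔛).app 0).base (FSch.Hom.sharp f h𝔜 h) j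

theorem lvU_le_preimage {W : (𝔛.X 0).Opens} {V : (𝔜.X 0).Opens} (j : V ≤ (f : FSch.Hom 𝔜 𝔛).app 0 ⁻¹ᵁ W)
    (n : ℕ) : 𝔜.lvU h𝔜 n V ≤ (f : FSch.Hom 𝔜 𝔛).app n ⁻¹ᵁ 𝔛.lvU h n W :=
  (lvU_mono h𝔜 j n).trans (FSch.Hom.lvU_preimage f h𝔜 h n W).ge

theorem projR_shPb {W : (𝔛.X 0).Opens} {V : (𝔜.X 0).Opens} (j : V ≤ (f : FSch.Hom 𝔜 𝔛).app 0 ⁻¹ᵁ W) (n : ℕ)
    (a : OA 𝔛 h W) : projR 𝔜 h𝔜 V n (shPb h h𝔜 f j a) =
      ((f : FSch.Hom 𝔜 𝔛).app n).appLE _ _ (lvU_le_preimage h h𝔜 f j n) (projR 𝔛 h W n a) := by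
  refine (projR_rs h𝔜 j n _).trans ?_
  have e := congr(($(FSch.Hom.sharp_proj f h𝔜 h n)).hom.app (op W) a)
  refine (congrArg ((𝔜.X n).presheaf.map (homOfLE (lvU_mono h𝔜 j n)).op).hom e).trans ?_
  show ((FSch.Hom.levelPush f h𝔜 h n).hom.app (op W) ≫ (𝔜.X n).presheaf.map (homOfLE (lvU_mono h𝔜 j n)).op)
    (projR 𝔛 h W n a) = _
  rw [FSch.Hom.levelPush_app]
  refine congrArg (fun φ : Γ(𝔛.X n, 𝔛.lvU h n W) ⟶ Γ(𝔜.X n, 𝔜.lvU h𝔜 n V) => φ (projR 𝔛 h W n a)) ?_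
  exact Scheme.Hom.appLE_map _ _ _

/-- A section pulling back to a unit near `y` is a unit near the image of `y`. -/
theorem exists_isUnit_of_shPb {W : (𝔛.X 0).Opens} {V : (𝔜.X 0).Opens}
    (j : V ≤ (f : FSch.Hom 𝔜 𝔛).app 0 ⁻¹ᵁ W) (a : OA 𝔛 h W) (ha : IsUnit (shPb h h𝔜 f j a)) {y : 𝔜.X 0}
    (hy : y ∈ V) : ∃ (W' : (𝔛.X 0).Opens) (i : W' ≤ W), (f : FSch.Hom 𝔜 𝔛).app 0 y ∈ W' ∧ IsUnit (rs i a : OA 𝔛 h W') := by
  refine exists_isUnit_nhd h a ?_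
  have hu := ha.map (projR 𝔜 h𝔜 V 0)
  rw [projR_shPb] at hu
  have hy' : y ∈ (𝔜.X 0).basicOpen (((f : FSch.Hom 𝔜 𝔛).app 0).appLE _ _ (lvU_le_preimage h h𝔜 f j 0) (projR 𝔛 h W 0 a)) := by
    rw [Scheme.basicOpen_of_isUnit _ hu]
    exact (lvU_zero h𝔜 V).ge hy
  rw [Scheme.basicOpen_appLE] at hy'
  exact hy'.2

theorem shPb_comp (hℨ : ℨ.IsFormal) (g : ℨ ⟶ 𝔜) {W : (𝔛.X 0).Opens} {V' : (𝔜.X 0).Opens} {V : (ℨ.X 0).Opens}
    (j : V' ≤ (f : FSch.Hom 𝔜 𝔛).app 0 ⁻¹ᵁ W) (j' : V ≤ (g : FSch.Hom ℨ 𝔜).app 0 ⁻¹ᵁ V')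
    (j'' : V ≤ ((g ≫ f : FSch.Hom ℨ 𝔛)).app 0 ⁻¹ᵁ W) (a : OA 𝔛 h W) :
    shPb h hℨ (g ≫ f) j'' a = shPb h𝔜 hℨ g j' (shPb h h𝔜 f j a) := by
  refine OA_ext ℨ hℨ V fun n => ?_
  rw [projR_shPb, projR_shPb, projR_shPb, ← ConcreteCategory.comp_apply]
  refine congrArg (fun φ : Γ(𝔛.X n, 𝔛.lvU h n W) ⟶ Γ(ℨ.X n, ℨ.lvU hℨ n V) => φ (projR 𝔛 h W n a)) ?_
  exact (FSch.appLE_comp_appLE_of_eq _ _ _ rfl _ _ _ _ _ _).symm

theorem idealMap_comp (hℨ : ℨ.IsFormal) (g : ℨ ⟶ 𝔜) (J : IdealSh (𝔛.Osh h)) :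
    idealMap g hℨ h𝔜 (idealMap f h𝔜 h J) = idealMap (g ≫ f) hℨ h J :=
  map_map_idealSh _ _ _ _ _ _ (fun _ => rfl) (fun _ _ _ j j' j'' a => shPb_comp h h𝔜 f hℨ g j j' j'' a) J

theorem idealMap_mul (J K : IdealSh (𝔛.Osh h)) :
    idealMap f h𝔜 h (IdealSh.mul J K) = IdealSh.mul (idealMap f h𝔜 h J) (idealMap f h𝔜 h K) :=
  map_mul_idealSh _ _ J K

end Morphism

section Adic

theorem isAdicHom_comp {f : ℨ ⟶ 𝔜} {g : 𝔜 ⟶ 𝔛} (hf : FSch.IsAdicHom f) (hg : FSch.IsAdicHom g) :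
    FSch.IsAdicHom (f ≫ g) :=
  fun n => (hf n).paste_vert (hg n)

theorem isAdicHom_of_comp {f : ℨ ⟶ 𝔜} {g : 𝔜 ⟶ 𝔛} (hfg : FSch.IsAdicHom (f ≫ g)) (hg : FSch.IsAdicHom g) :
    FSch.IsAdicHom f :=
  fun n => IsPullback.of_bot (hfg n) ((f : FSch.Hom ℨ 𝔜).comm n).symm (hg n)

theorem isAdicHom_restrictOpenι (U : (𝔛.X 0).Opens) : FSch.IsAdicHom (𝔛.restrictOpenι h U) := fun n => by
  have key : ∀ (W : (𝔛.X n).Opens) (e : W ≤ 𝔛.ι n ⁻¹ᵁ 𝔛.lvU h (n + 1) U), W = 𝔛.ι n ⁻¹ᵁ 𝔛.lvU h (n + 1) U →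
      IsPullback ((𝔛.ι n).resLE (𝔛.lvU h (n + 1) U) W e) W.ι (𝔛.lvU h (n + 1) U).ι (𝔛.ι n) := by
    rintro W e rfl
    have := isPullback_morphismRestrict (𝔛.ι n) (𝔛.lvU h (n + 1) U)
    rw [Scheme.Hom.resLE_eq_morphismRestrict]
    exact this
  exact key _ (𝔛.lvU_le h n U) (𝔛.lvU_succ h n U).symm

theorem isFormal_restrictOpen (U : (𝔛.X 0).Opens) : (𝔛.restrictOpen h U).IsFormal :=
  ThickSys.isFormal_of_isAdicHom _ h (isAdicHom_restrictOpenι h U)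

theorem range_restrictOpenι (U : (𝔛.X 0).Opens) (y : (𝔛.restrictOpen h U).X 0) :
    (𝔛.restrictOpenι h U : FSch.Hom _ _).app 0 y ∈ U := by
  show (𝔛.lvU h 0 U).ι y ∈ U
  exact (lvU_zero h U).le (y : (𝔛.lvU h 0 U : Scheme.{u})).2

/-- A section which vanishes after restriction to an open containing its domain vanishes. -/
theorem eq_zero_of_shPb_restrictOpenι (U : (𝔛.X 0).Opens) {W : (𝔛.X 0).Opens} (hWU : W ≤ U) {a : OA 𝔛 h W}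
    (ha : shPb h (isFormal_restrictOpen h U) (𝔛.restrictOpenι h U)
      (le_refl ((𝔛.restrictOpenι h U : FSch.Hom _ _).app 0 ⁻¹ᵁ W)) a = 0) : a = 0 := by
  refine OA_ext 𝔛 h W fun n => ?_
  rw [map_zero]
  have h1 := congrArg (projR _ (isFormal_restrictOpen h U)
    ((𝔛.restrictOpenι h U : FSch.Hom _ _).app 0 ⁻¹ᵁ W) n) ha
  rw [map_zero, projR_shPb] at h1
  have hpre : (𝔛.restrictOpen h U).lvU (isFormal_restrictOpen h U) n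
      ((𝔛.restrictOpenι h U : FSch.Hom _ _).app 0 ⁻¹ᵁ W) = (𝔛.lvU h n U).ι ⁻¹ᵁ 𝔛.lvU h n W :=
    (FSch.Hom.lvU_preimage (𝔛.restrictOpenι h U) (isFormal_restrictOpen h U) h n W).symm
  have key : ∀ (V : (𝔛.lvU h n U : Scheme.{u}).Opens) (e : V ≤ (𝔛.lvU h n U).ι ⁻¹ᵁ 𝔛.lvU h n W),
      V = (𝔛.lvU h n U).ι ⁻¹ᵁ 𝔛.lvU h n W → Function.Injective ((𝔛.lvU h n U).ι.appLE (𝔛.lvU h n W) V e) := by
    rintro V e rfl
    rw [← Scheme.Hom.app_eq_appLE]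
    have : IsIso ((𝔛.lvU h n U).ι.app (𝔛.lvU h n W)) :=
      Scheme.Hom.isIso_app (𝔛.lvU h n U).ι _ (by rw [Scheme.Opens.opensRange_ι]; exact lvU_mono h hWU n)
    exact (ConcreteCategory.bijective_of_isIso _).1
  exact key _ (lvU_le_preimage h (isFormal_restrictOpen h U) (𝔛.restrictOpenι h U) le_rfl n) hpre (h1.trans (map_zero _).symm)

end Adic

end Groth.Agent.FormBlow
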