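/-
Morphisms of formal systems into affine pieces through rings of sections.
-/
import Groth.Agent.FormBlow.Osh
import Groth.Agent.FpqcDescent.IdealGlue

set_option autoImplicit false
set_option backward.isDefEq.respectTransparency false
set_option linter.style.haveILetI false

universe u

open CategoryTheory CategoryTheory.Limits AlgebraicGeometry TopologicalSpace Opposite FBlow
open Groth.Agent.FSchCoh (OA RA projR transR transR_projR OA_ext OA_lift projR_surjective)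

noncomputable section

namespace Groth.Agent.FormBlow

section Affine

theorem appLE_top_top {X Y : Scheme.{u}} (f : X ⟶ Y) (e : ⊤ ≤ f ⁻¹ᵁ ⊤) : f.appLE ⊤ ⊤ e = f.appTop :=
  Scheme.Hom.appLE_eq_app f

variable {X Y : Scheme.{u}} {U : Y.Opens} (hU : IsAffineOpen U)

/-- the morphism into an affine open given by a ring map to global sections -/
def toAff (φ : Γ(Y, U) ⟶ Γ(X, ⊤)) : X ⟶ Y :=
  X.toSpecΓ ≫ Spec.map φ ≫ hU.fromSpec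

theorem top_le_preimage_toAff (φ : Γ(Y, U) ⟶ Γ(X, ⊤)) : ⊤ ≤ toAff hU φ ⁻¹ᵁ U := by
  intro x _
  show hU.fromSpec ((Spec.map φ) (X.toSpecΓ x)) ∈ U
  have := Set.mem_range_self (f := hU.fromSpec) ((Spec.map φ) (X.toSpecΓ x))
  rwa [hU.range_fromSpec] at this

theorem eq_toAff (g : X ⟶ Y) (e : ⊤ ≤ g ⁻¹ᵁ U) : g = toAff hU (g.appLE U ⊤ e) := by
  haveI : IsIso (⊤ : X.Opens).ι := inferInstanceAs (IsIso X.topIso.hom)
  rw [← cancel_epi (⊤ : X.Opens).ι]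
  have h1 := Scheme.Opens.toSpecΓ_SpecMap_appLE g U ⊤ e
  rw [Scheme.Opens.toSpecΓ_top] at h1
  have h2 := congrArg (fun a => a ≫ hU.fromSpec) h1
  simp only [Category.assoc, hU.toSpecΓ_fromSpec, Scheme.Hom.resLE_comp_ι] at h2
  exact h2.symm

theorem toAff_appLE (φ : Γ(Y, U) ⟶ Γ(X, ⊤)) (e : ⊤ ≤ toAff hU φ ⁻¹ᵁ U) : (toAff hU φ).appLE U ⊤ e = φ := by
  have h := (eq_toAff hU (toAff hU φ) e).symm
  generalize (toAff hU φ).appLE U ⊤ e = ψ at h ⊢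
  unfold toAff at h
  rw [← Category.assoc, ← Category.assoc, cancel_mono] at h
  have h' := congrArg Scheme.Hom.appTop h
  simp only [Scheme.Hom.comp_appTop, Scheme.toSpecΓ_appTop, Scheme.ΓSpecIso_naturality] at h'
  exact (cancel_epi (Scheme.ΓSpecIso Γ(Y, U)).hom).1 h'

theorem hom_eq_of_appLE (g g' : X ⟶ Y) (e : ⊤ ≤ g ⁻¹ᵁ U) (e' : ⊤ ≤ g' ⁻¹ᵁ U) (hU : IsAffineOpen U)
    (h : g.appLE U ⊤ e = g'.appLE U ⊤ e') : g = g' := by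
  rw [eq_toAff hU g e, eq_toAff hU g' e', h]

end Affine

section Spf

variable (B : Type u) [CommRing B] (K : Ideal B)

theorem isFormal_spf : (FSch.spf B K).IsFormal := fun n => by
  refine ⟨IsClosedImmersion.spec_of_surjective _
    (Ideal.Quotient.factor_surjective (Ideal.pow_le_pow_right (Nat.le_succ (n + 1)))), fun z => ?_⟩
  obtain ⟨Q, hQ⟩ : ∃ Q : PrimeSpectrum (B ⧸ K ^ (n + 2)), Q = z := ⟨z, rfl⟩
  have h1 : z ∈ PrimeSpectrum.zeroLocus (RingHom.ker (Ideal.Quotient.factor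
      (Ideal.pow_le_pow_right (Nat.le_succ (n + 1)) : K ^ (n + 2) ≤ K ^ (n + 1))) : Set (B ⧸ K ^ (n + 2))) := by
    subst hQ
    intro a ha
    obtain ⟨b, rfl⟩ := Ideal.Quotient.mk_surjective a
    rw [SetLike.mem_coe, RingHom.mem_ker, Ideal.Quotient.factor_mk, Ideal.Quotient.eq_zero_iff_mem] at ha
    refine Q.2.mem_of_pow_mem 2 ?_
    rw [← map_pow, show Ideal.Quotient.mk (K ^ (n + 2)) (b ^ 2) = 0 from Ideal.Quotient.eq_zero_iff_mem.2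
      (Ideal.pow_le_pow_right (show n + 2 ≤ (n + 1) * 2 by omega) (pow_mul K (n + 1) 2 ▸ Ideal.pow_mem_pow ha 2))]
    exact Q.asIdeal.zero_mem
  rw [← _root_.range_comap_of_surjective _ _ (Ideal.Quotient.factor_surjective _)] at h1
  exact h1

/-- the ring maps `B → Γ(Spec (B / K^(n+1)))` -/
def toLevel (n : ℕ) : B →+* RA (FSch.spf B K) (isFormal_spf B K) ⊤ n :=
  (Scheme.ΓSpecIso (CommRingCat.of (B ⧸ K ^ (n + 1)))).inv.hom.comp (Ideal.Quotient.mk (K ^ (n + 1)))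

theorem transR_toLevel (n : ℕ) (b : B) :
    transR (FSch.spf B K) (isFormal_spf B K) ⊤ n (toLevel B K (n + 1) b) = toLevel B K n b := by
  have e : ((FSch.spf B K).levelMap (isFormal_spf B K) n).hom.app (op ⊤) = ((FSch.spf B K).ι n).appTop := by
    rw [FSch.Sys.levelMap_app]
    exact Scheme.Hom.appLE_eq_app _
  show ((FSch.spf B K).levelMap (isFormal_spf B K) n).hom.app (op ⊤) (toLevel B K (n + 1) b) = _
  rw [e]
  exact (CategoryTheory.ConcreteCategory.congr_hom (Scheme.ΓSpecIso_inv_naturality (CommRingCat.ofHom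
    (Ideal.Quotient.factor (Ideal.pow_le_pow_right (Nat.le_succ (n + 1)) : K ^ (n + 2) ≤ K ^ (n + 1)))))
    (Ideal.Quotient.mk (K ^ (n + 2)) b)).symm

end Spf

variable {𝔛 𝔜 ℨ : FSch.Sys.{u}} (h : 𝔛.IsFormal) (h𝔜 : 𝔜.IsFormal)

theorem exists_lift {B : Type u} [CommRing B] {U : (𝔛.X 0).Opens} (φ : ∀ n, B →+* RA 𝔛 h U n)
    (hφ : ∀ n b, transR 𝔛 h U n (φ (n + 1) b) = φ n b) (b : B) : ∃ x, ∀ n, projR 𝔛 h U n x = φ n b :=
  OA_lift 𝔛 h U (fun n => φ n b) fun n => hφ n b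

/-- a compatible family of ring maps gives a ring map into `O` -/
def liftHom {B : Type u} [CommRing B] {U : (𝔛.X 0).Opens} (φ : ∀ n, B →+* RA 𝔛 h U n)
    (hφ : ∀ n b, transR 𝔛 h U n (φ (n + 1) b) = φ n b) : B →+* OA 𝔛 h U where
  toFun b := (exists_lift h φ hφ b).choose
  map_one' := OA_ext 𝔛 h U fun n => by
    rw [(exists_lift h φ hφ 1).choose_spec, map_one, map_one]
  map_mul' a b := OA_ext 𝔛 h U fun n => by
    rw [(exists_lift h φ hφ (a * b)).choose_spec, map_mul, map_mul, (exists_lift h φ hφ a).choose_spec,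
      (exists_lift h φ hφ b).choose_spec]
  map_zero' := OA_ext 𝔛 h U fun n => by
    rw [(exists_lift h φ hφ 0).choose_spec, map_zero, map_zero]
  map_add' a b := OA_ext 𝔛 h U fun n => by
    rw [(exists_lift h φ hφ (a + b)).choose_spec, map_add, map_add, (exists_lift h φ hφ a).choose_spec,
      (exists_lift h φ hφ b).choose_spec]

theorem projR_liftHom {B : Type u} [CommRing B] {U : (𝔛.X 0).Opens} (φ : ∀ n, B →+* RA 𝔛 h U n)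
    (hφ : ∀ n b, transR 𝔛 h U n (φ (n + 1) b) = φ n b) (n : ℕ) (b : B) :
    projR 𝔛 h U n (liftHom h φ hφ b) = φ n b :=
  (exists_lift h φ hφ b).choose_spec n

/-- the canonical map `B → Γ(Spf B, O)` -/
def toSections (B : Type u) [CommRing B] (K : Ideal B) : B →+* OA (FSch.spf B K) (isFormal_spf B K) ⊤ :=
  liftHom _ (toLevel B K) (transR_toLevel B K)

theorem projR_toSections (B : Type u) [CommRing B] (K : Ideal B) (n : ℕ) (b : B) :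
    projR _ (isFormal_spf B K) ⊤ n (toSections B K b) = toLevel B K n b :=
  projR_liftHom _ _ _ n b

theorem projR_toSections_eq_zero {B : Type u} [CommRing B] (K : Ideal B) (n : ℕ) {b : B} (hb : b ∈ K ^ (n + 1)) :
    projR _ (isFormal_spf B K) ⊤ n (toSections B K b) = 0 := by
  rw [projR_toSections]
  show (Scheme.ΓSpecIso (CommRingCat.of (B ⧸ K ^ (n + 1)))).inv.hom (Ideal.Quotient.mk (K ^ (n + 1)) b) = 0
  rw [Ideal.Quotient.eq_zero_iff_mem.2 hb]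
  exact map_zero _

section ToSpf

variable {B : Type u} [CommRing B] (K : Ideal B) (φ : B →+* OA 𝔜 h𝔜 ⊤)
  (hφ : ∀ n, ∀ b ∈ K ^ (n + 1), projR 𝔜 h𝔜 ⊤ n (φ b) = 0)

/-- the level maps of a ring map into global sections -/
def spfLevel (n : ℕ) : B ⧸ K ^ (n + 1) →+* Γ(𝔜.X n, ⊤) :=
  Ideal.Quotient.lift _ ((projR 𝔜 h𝔜 ⊤ n).comp φ) (hφ n)

/-- the morphism into a formal spectrum given by a ring map -/
def toSpf : 𝔜 ⟶ FSch.spf B K :=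
  ⟨fun n => (𝔜.X n).toSpecΓ ≫ Spec.map (CommRingCat.ofHom (spfLevel h𝔜 K φ hφ n)), fun n => by
    rw [Category.assoc, Scheme.toSpecΓ_naturality_assoc]
    congr 1
    change Spec.map _ ≫ Spec.map _ = Spec.map _ ≫ Spec.map _
    rw [← Spec.map_comp, ← Spec.map_comp]
    congr 1
    refine CommRingCat.hom_ext (Ideal.Quotient.ringHom_ext (RingHom.ext fun b => ?_))
    show projR 𝔜 h𝔜 ⊤ n (φ b) = (𝔜.ι n).appTop (projR 𝔜 h𝔜 ⊤ (n + 1) (φ b))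
    rw [← transR_projR 𝔜 h𝔜 ⊤ n]
    show ((𝔜.levelMap h𝔜 n).hom.app (op ⊤)) _ = _
    rw [FSch.Sys.levelMap_app, Scheme.Hom.appTop, ← Scheme.Hom.appLE_eq_app]
    rfl⟩

theorem shPb_toSpf (b : B) :
    shPb (isFormal_spf B K) h𝔜 (toSpf h𝔜 K φ hφ) (W := ⊤) (V := ⊤) (fun _ hx => hx) (toSections B K b) = φ b := by
  refine OA_ext 𝔜 h𝔜 ⊤ fun n => ?_
  rw [projR_shPb, projR_toSections]
  refine Eq.trans ?_ (show spfLevel h𝔜 K φ hφ n (Ideal.Quotient.mk _ b) = projR 𝔜 h𝔜 ⊤ n (φ b) from rfl)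
  have e : ((𝔜.X n).toSpecΓ ≫ Spec.map (CommRingCat.ofHom (spfLevel h𝔜 K φ hφ n))).appTop =
      (Scheme.ΓSpecIso (CommRingCat.of (B ⧸ K ^ (n + 1)))).hom ≫ CommRingCat.ofHom (spfLevel h𝔜 K φ hφ n) := by
    rw [Scheme.Hom.comp_appTop, Scheme.toSpecΓ_appTop]
    exact Scheme.ΓSpecIso_naturality _
  show (((𝔜.X n).toSpecΓ ≫ Spec.map (CommRingCat.ofHom (spfLevel h𝔜 K φ hφ n))).appLE ⊤ ⊤ _).hom
    ((Scheme.ΓSpecIso (CommRingCat.of (B ⧸ K ^ (n + 1)))).inv (Ideal.Quotient.mk _ b)) = _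
  rw [appLE_top_top, e]
  exact congrArg (spfLevel h𝔜 K φ hφ n) ((Scheme.ΓSpecIso (CommRingCat.of (B ⧸ K ^ (n + 1)))).inv_hom_id_apply _)

theorem hom_spf_ext (g g' : 𝔜 ⟶ FSch.spf B K)
    (hgg : ∀ b, shPb (isFormal_spf B K) h𝔜 g (W := ⊤) (V := ⊤) (fun _ hx => hx) (toSections B K b) =
      shPb (isFormal_spf B K) h𝔜 g' (W := ⊤) (V := ⊤) (fun _ hx => hx) (toSections B K b)) : g = g' := by
  refine FSch.Hom.ext (funext fun n => ?_)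
  haveI : IsAffine ((FSch.spf B K).X n) := inferInstanceAs (IsAffine (Spec _))
  refine ext_of_isAffine (CommRingCat.hom_ext (RingHom.ext fun a => ?_))
  obtain ⟨b, hb⟩ := Ideal.Quotient.mk_surjective ((Scheme.ΓSpecIso (CommRingCat.of (B ⧸ K ^ (n + 1)))).hom a)
  have ha : toLevel B K n b = a := by
    show (Scheme.ΓSpecIso _).inv (Ideal.Quotient.mk _ b) = a
    rw [hb, ← ConcreteCategory.comp_apply, Iso.hom_inv_id]
    rfl
  have h' := congrArg (projR 𝔜 h𝔜 ⊤ n) (hgg b)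
  rw [projR_shPb, projR_shPb, projR_toSections, ha] at h'
  exact ((congrArg (fun ψ : Γ((FSch.spf B K).X n, ⊤) ⟶ Γ(𝔜.X n, ⊤) => ψ a) (appLE_top_top _ _)).symm.trans h').trans
    (congrArg (fun ψ : Γ((FSch.spf B K).X n, ⊤) ⟶ Γ(𝔜.X n, ⊤) => ψ a) (appLE_top_top _ _))

end ToSpf

section OfRing

variable {U : (𝔛.X 0).Opens} (hU : IsAffineOpen U) (η : OA 𝔛 h U →+* OA 𝔜 h𝔜 ⊤)
  (hη : ∀ n a, projR 𝔛 h U n a = 0 → projR 𝔜 h𝔜 ⊤ n (η a) = 0)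

/-- the level maps -/
def ringLevel (n : ℕ) : RA 𝔛 h U n →+* Γ(𝔜.X n, ⊤) :=
  RingHom.liftOfSurjective (projR 𝔛 h U n) (projR_surjective 𝔛 h hU n)
    ⟨(projR 𝔜 h𝔜 ⊤ n).comp η, fun a ha => hη n a ha⟩

theorem ringLevel_projR (n : ℕ) (a : OA 𝔛 h U) :
    ringLevel h h𝔜 hU η hη n (projR 𝔛 h U n a) = projR 𝔜 h𝔜 ⊤ n (η a) :=
  RingHom.liftOfRightInverse_comp_apply _ _ _ _ _

theorem appLE_ringLevel_comm (n : ℕ) :
    (𝔛.ι n).appLE (𝔛.lvU h (n + 1) U) (𝔛.lvU h n U) (𝔛.lvU_le h n U) ≫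
        CommRingCat.ofHom (ringLevel h h𝔜 hU η hη n) =
      CommRingCat.ofHom (ringLevel h h𝔜 hU η hη (n + 1)) ≫ (𝔜.ι n).appLE ⊤ ⊤ (fun _ hx => hx) := by
  refine CommRingCat.hom_ext (RingHom.ext fun r => ?_)
  obtain ⟨a, rfl⟩ := projR_surjective 𝔛 h hU (n + 1) r
  show ringLevel h h𝔜 hU η hη n (transR 𝔛 h U n (projR 𝔛 h U (n + 1) a)) =
    ((𝔜.ι n).appLE ⊤ ⊤ (fun _ hx => hx)) (ringLevel h h𝔜 hU η hη (n + 1) (projR 𝔛 h U (n + 1) a))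
  rw [transR_projR, ringLevel_projR, ringLevel_projR, ← transR_projR 𝔜 h𝔜 ⊤ n]
  rfl

omit η hη in
theorem toAff_comm (n : ℕ) (φ : Γ(𝔛.X n, 𝔛.lvU h n U) ⟶ Γ(𝔜.X n, ⊤))
    (φ' : Γ(𝔛.X (n + 1), 𝔛.lvU h (n + 1) U) ⟶ Γ(𝔜.X (n + 1), ⊤))
    (hc : (𝔛.ι n).appLE (𝔛.lvU h (n + 1) U) (𝔛.lvU h n U) (𝔛.lvU_le h n U) ≫ φ =
      φ' ≫ (𝔜.ι n).appLE ⊤ ⊤ (fun _ hx => hx)) :
    toAff (FSchAff.isAffineOpen_lvU 𝔛 h hU n) φ ≫ 𝔛.ι n =
      𝔜.ι n ≫ toAff (FSchAff.isAffineOpen_lvU 𝔛 h hU (n + 1)) φ' := by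
  have t₁ := top_le_preimage_toAff (FSchAff.isAffineOpen_lvU 𝔛 h hU n) φ
  have t₂ := top_le_preimage_toAff (FSchAff.isAffineOpen_lvU 𝔛 h hU (n + 1)) φ'
  have e₁ : ⊤ ≤ (toAff (FSchAff.isAffineOpen_lvU 𝔛 h hU n) φ ≫ 𝔛.ι n) ⁻¹ᵁ 𝔛.lvU h (n + 1) U :=
    t₁.trans (Scheme.Hom.preimage_mono _ (𝔛.lvU_le h n U))
  have t₀ : (⊤ : (𝔜.X n).Opens) ≤ 𝔜.ι n ⁻¹ᵁ ⊤ := fun _ hx => hx
  have e₂ : ⊤ ≤ (𝔜.ι n ≫ toAff (FSchAff.isAffineOpen_lvU 𝔛 h hU (n + 1)) φ') ⁻¹ᵁ 𝔛.lvU h (n + 1) U :=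
    t₀.trans (Scheme.Hom.preimage_mono _ t₂)
  refine hom_eq_of_appLE _ _ e₁ e₂ (FSchAff.isAffineOpen_lvU 𝔛 h hU (n + 1)) ?_
  rw [← Scheme.Hom.appLE_comp_appLE _ (𝔛.ι n) (𝔛.lvU h (n + 1) U) (𝔛.lvU h n U) ⊤ (𝔛.lvU_le h n U) t₁,
    ← Scheme.Hom.appLE_comp_appLE (𝔜.ι n) _ (𝔛.lvU h (n + 1) U) ⊤ ⊤ t₂ t₀, toAff_appLE, toAff_appLE]
  exact hc

/-- the morphism of systems into an affine piece given by a ring map -/
def homOfRing : 𝔜 ⟶ 𝔛 :=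
  ⟨fun n => toAff (FSchAff.isAffineOpen_lvU 𝔛 h hU n) (CommRingCat.ofHom (ringLevel h h𝔜 hU η hη n)),
    fun n => toAff_comm h hU n _ _ (appLE_ringLevel_comm h h𝔜 hU η hη n)⟩

theorem top_le_preimage_homOfRing : ⊤ ≤ (homOfRing h h𝔜 hU η hη : FSch.Hom 𝔜 𝔛).app 0 ⁻¹ᵁ U := fun x hx =>
  (lvU_zero h U).le (top_le_preimage_toAff (FSchAff.isAffineOpen_lvU 𝔛 h hU 0) _ hx)

theorem shPb_homOfRing (a : OA 𝔛 h U) :
    shPb h h𝔜 (homOfRing h h𝔜 hU η hη) (V := ⊤) (top_le_preimage_homOfRing h h𝔜 hU η hη) a = η a := by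
  refine OA_ext 𝔜 h𝔜 ⊤ fun n => ?_
  rw [projR_shPb, ← ringLevel_projR h h𝔜 hU η hη n a]
  exact congrArg (fun φ : Γ(𝔛.X n, 𝔛.lvU h n U) ⟶ Γ(𝔜.X n, ⊤) => φ (projR 𝔛 h U n a))
    (toAff_appLE (FSchAff.isAffineOpen_lvU 𝔛 h hU n) _ (top_le_preimage_toAff _ _))

include hU in
theorem hom_ext_of_shPb (g g' : 𝔜 ⟶ 𝔛) (e : ⊤ ≤ (g : FSch.Hom 𝔜 𝔛).app 0 ⁻¹ᵁ U)
    (e' : ⊤ ≤ (g' : FSch.Hom 𝔜 𝔛).app 0 ⁻¹ᵁ U)
    (hgg : ∀ a, shPb h h𝔜 g (V := ⊤) e a = shPb h h𝔜 g' (V := ⊤) e' a) : g = g' := by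
  refine FSch.Hom.ext (funext fun n => ?_)
  refine hom_eq_of_appLE _ _ (lvU_le_preimage h h𝔜 g e n) (lvU_le_preimage h h𝔜 g' e' n)
    (FSchAff.isAffineOpen_lvU 𝔛 h hU n) (CommRingCat.hom_ext (RingHom.ext fun r => ?_))
  obtain ⟨a, rfl⟩ := projR_surjective 𝔛 h hU n r
  have h' := congrArg (projR 𝔜 h𝔜 ⊤ n) (hgg a)
  rwa [projR_shPb, projR_shPb] at h'

end OfRing

end Groth.Agent.FormBlow
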