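/-
Formal systems adic over a formal spectrum: the structure map and the kernels of the projections.
-/
import Groth.Agent.FormBlow.Hom

set_option autoImplicit false
set_option backward.isDefEq.respectTransparency false
set_option linter.style.haveILetI false

universe u

open CategoryTheory CategoryTheory.Limits AlgebraicGeometry TopologicalSpace Opposite FBlow
open Groth.Agent.FSchCoh (OA RA projR transR transR_projR OA_ext OA_lift projR_surjective transR_surjective)

noncomputable section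

namespace Groth.Agent.FormBlow

variable {R : Type u} [CommRing R] {I : Ideal R} {𝔛 𝔜 : FSch.Sys.{u}} (h : 𝔛.IsFormal) (h𝔜 : 𝔜.IsFormal)
  (p : 𝔛 ⟶ FSch.spf R I)

/-- the structure map of the ring of sections -/
def rho (U : (𝔛.X 0).Opens) : R →+* OA 𝔛 h U :=
  (shPb (isFormal_spf R I) h p (W := ⊤) (V := U) (fun _ _ => trivial)).comp (toSections R I)

theorem rho_rs {U V : (𝔛.X 0).Opens} (i : V ≤ U) (r : R) : rs i (rho h p U r) = rho h p V r := by
  show rs i (shPb (isFormal_spf R I) h p (W := ⊤) (V := U) (fun _ _ => trivial) (toSections R I r)) = _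
  exact pb_rs _ _ _ i _

theorem shPb_rho (f : 𝔜 ⟶ 𝔛) {W : (𝔛.X 0).Opens} {V : (𝔜.X 0).Opens}
    (j : V ≤ (f : FSch.Hom 𝔜 𝔛).app 0 ⁻¹ᵁ W) (r : R) :
    shPb h h𝔜 f j (rho h p W r) = rho h𝔜 (f ≫ p) V r :=
  (shPb_comp (W := ⊤) (isFormal_spf R I) h p h𝔜 f (fun _ _ => trivial) j (fun _ _ => trivial) _).symm

theorem projR_rho (U : (𝔛.X 0).Opens) (n : ℕ) (r : R) :
    projR 𝔛 h U n (rho h p U r) =
      ((p : FSch.Hom 𝔛 (FSch.spf R I)).app n).appLE ⊤ (𝔛.lvU h n U) (fun _ _ => trivial) (toLevel R I n r) := by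
  rw [rho, RingHom.comp_apply, projR_shPb, projR_toSections]
  rfl

theorem projR_rho_eq_zero (U : (𝔛.X 0).Opens) (n : ℕ) {r : R} (hr : r ∈ I ^ (n + 1)) :
    projR 𝔛 h U n (rho h p U r) = 0 := by
  rw [rho, RingHom.comp_apply, projR_shPb, projR_toSections_eq_zero I n hr, map_zero]

theorem toLevel_surjective (B : Type u) [CommRing B] (K : Ideal B) (n : ℕ) : Function.Surjective (toLevel B K n) := by
  have h1 : Function.Surjective (Scheme.ΓSpecIso (CommRingCat.of (B ⧸ K ^ (n + 1)))).inv.hom :=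
    (ConcreteCategory.bijective_of_isIso _).2
  exact h1.comp Ideal.Quotient.mk_surjective

theorem toLevel_eq_zero_iff (B : Type u) [CommRing B] (K : Ideal B) (n : ℕ) (b : B) :
    toLevel B K n b = 0 ↔ b ∈ K ^ (n + 1) := by
  have h1 : Function.Injective (Scheme.ΓSpecIso (CommRingCat.of (B ⧸ K ^ (n + 1)))).inv.hom :=
    (ConcreteCategory.bijective_of_isIso _).1
  rw [← Ideal.Quotient.eq_zero_iff_mem]
  exact ⟨fun hb => h1 (hb.trans (map_zero _).symm),
    fun hb => (congrArg (Scheme.ΓSpecIso (CommRingCat.of (B ⧸ K ^ (n + 1)))).inv.hom hb).trans (map_zero _)⟩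

theorem ker_spf_ι_ideal_top (n : ℕ) :
    RingHom.ker (((FSch.spf R I).ι n).appTop).hom = (I ^ (n + 1)).map (toLevel R I (n + 1)) := by
  have hnat : ∀ a : R, ((FSch.spf R I).ι n).appTop (toLevel R I (n + 1) a) = toLevel R I n a := fun a => by
    refine Eq.trans ?_ (transR_toLevel R I n a)
    show _ = ((FSch.spf R I).levelMap (isFormal_spf R I) n).hom.app (op ⊤) (toLevel R I (n + 1) a)
    rw [FSch.Sys.levelMap_app]
    exact congrArg (fun ψ : Γ((FSch.spf R I).X (n + 1), ⊤) ⟶ Γ((FSch.spf R I).X n, ⊤) => ψ (toLevel R I (n + 1) a))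
      (appLE_top_top _ _).symm
  refine le_antisymm (fun x hx => ?_) (Ideal.map_le_iff_le_comap.2 fun r hr => ?_)
  · obtain ⟨a, rfl⟩ := toLevel_surjective R I (n + 1) x
    refine Ideal.mem_map_of_mem _ ((toLevel_eq_zero_iff R I n a).1 ?_)
    exact (hnat a).symm.trans hx
  · exact (hnat r).trans ((toLevel_eq_zero_iff R I n r).2 hr)

variable (hp : FSch.IsAdicHom p)
include hp

theorem ker_transR_eq {U : (𝔛.X 0).Opens} (hU : IsAffineOpen U) (n : ℕ) :
    RingHom.ker (transR 𝔛 h U n) = (I ^ (n + 1)).map ((projR 𝔛 h U (n + 1)).comp (rho h p U)) := by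
  haveI := (h n).1
  haveI := (isFormal_spf R I n).1
  have hq := FSchAff.isAffineOpen_lvU 𝔛 h hU (n + 1)
  have e : RingHom.ker (transR 𝔛 h U n) = (𝔛.ι n).ker.ideal ⟨_, hq⟩ :=
    FSchCoh.ker_appLE_eq (𝔛.ι n) hq (𝔛.lvU_succ h n U).symm
  haveI : IsAffine ((FSch.spf R I).X (n + 1)) := inferInstanceAs (IsAffine (Spec _))
  rw [e, ThickSys.ker_of_isPullback (hp n),
    FpqcDescent.ideal_comap_appLE _ _ ⟨⊤, isAffineOpen_top _⟩ ⟨_, hq⟩ (fun _ _ => trivial),
    Scheme.Hom.ker_apply]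
  rw [show RingHom.ker (((FSch.spf R I).ι n).app ⊤).hom = (I ^ (n + 1)).map (toLevel R I (n + 1)) from
    ker_spf_ι_ideal_top n, Ideal.map_map]
  refine congrArg (fun φ : R →+* RA 𝔛 h U (n + 1) => (I ^ (n + 1)).map φ) (RingHom.ext fun r => ?_)
  exact (projR_rho h p U (n + 1) r).symm

theorem mem_pow_map_of_projR_succ {U : (𝔛.X 0).Opens} (hU : IsAffineOpen U) (n : ℕ) {k : OA 𝔛 h U}
    (hk : projR 𝔛 h U n k = 0) :
    ∃ y ∈ (I ^ (n + 1)).map (rho h p U), projR 𝔛 h U (n + 1) (k - y) = 0 := by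
  have hk' : projR 𝔛 h U (n + 1) k ∈ RingHom.ker (transR 𝔛 h U n) := by
    rw [RingHom.mem_ker, transR_projR, hk]
  rw [ker_transR_eq h p hp hU n, ← Ideal.map_map,
    Ideal.mem_map_iff_of_surjective _ (projR_surjective 𝔛 h hU (n + 1))] at hk'
  obtain ⟨y, hy, hyk⟩ := hk'
  exact ⟨y, hy, by rw [map_sub, hyk, sub_self]⟩

/-- For finitely generated `I` the kernel of the projection to level `n` is `I^(n+1) O`. -/
theorem ker_projR_eq (hI : I.FG) {U : (𝔛.X 0).Opens} (hU : IsAffineOpen U) (n : ℕ) :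
    RingHom.ker (projR 𝔛 h U n) = (I ^ (n + 1)).map (rho h p U) := by
  classical
  have hzero : ∀ m l, l ≤ m → ∀ y ∈ (I ^ (m + 1)).map (rho h p U), projR 𝔛 h U l y = 0 := fun m l hl y hy => by
    refine RingHom.mem_ker.1 ((Ideal.map_le_iff_le_comap.2 fun r hr => ?_) hy)
    exact projR_rho_eq_zero h p U l (Ideal.pow_le_pow_right (by omega) hr)
  refine le_antisymm (fun k hk => ?_) (fun y hy => hzero n n le_rfl y hy)
  obtain ⟨s, hs⟩ := Submodule.FG.pow hI (n + 1)
  have hspan : (I ^ (n + 1)).map (rho h p U) = Ideal.span (Set.range fun g : s => rho h p U g.1) := by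
    rw [← hs]
    show Ideal.map _ (Ideal.span _) = _
    rw [Ideal.map_span]
    congr 1
    ext z
    simp
  -- one step, with the coefficients killed at the previous levels
  have step : ∀ m, ∀ z : OA 𝔛 h U, projR 𝔛 h U (n + m) z = 0 → ∃ c : s → OA 𝔛 h U,
      (∀ g, ∀ l, l < m → projR 𝔛 h U l (c g) = 0) ∧
      projR 𝔛 h U (n + m + 1) (z - ∑ g, c g * rho h p U g.1) = 0 := by
    intro m z hz
    obtain ⟨y, hy, hzy⟩ := mem_pow_map_of_projR_succ h p hp hU (n + m) hz
    rw [show I ^ (n + m + 1) = I ^ m * I ^ (n + 1) by rw [← pow_add]; congr 1; omega, Ideal.map_mul, hspan,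
      ← smul_eq_mul] at hy
    obtain ⟨c, hc, rfl⟩ := (Submodule.mem_ideal_smul_span_iff_exists_sum _ _ _).1 hy
    refine ⟨fun g => c g, fun g l hl => ?_, ?_⟩
    · obtain ⟨m', rfl⟩ : ∃ m', m = m' + 1 := ⟨m - 1, by omega⟩
      exact hzero m' l (by omega) _ (hc g)
    · convert hzy using 3
      rw [Finsupp.sum_fintype _ _ (by simp)]
      simp
  choose c hc0 hc using step
  let z : ∀ m, {z : OA 𝔛 h U // projR 𝔛 h U (n + m) z = 0} := fun m => Nat.rec
    (motive := fun m => {z : OA 𝔛 h U // projR 𝔛 h U (n + m) z = 0}) ⟨k, hk⟩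
    (fun m z => ⟨z.1 - ∑ g, c m z.1 z.2 g * rho h p U g.1, hc m z.1 z.2⟩) m
  let e : ℕ → s → OA 𝔛 h U := fun m g => c m (z m).1 (z m).2 g
  have hsum : ∀ M, (z M).1 = k - ∑ g, (∑ m ∈ Finset.range M, e m g) * rho h p U g.1 := by
    intro M
    induction M with
    | zero => show k = _; simp
    | succ M ih =>
      show (z M).1 - ∑ g, e M g * rho h p U g.1 = _
      rw [ih, sub_sub, ← Finset.sum_add_distrib]
      congr 1
      exact Finset.sum_congr rfl fun g _ => by rw [Finset.sum_range_succ, add_mul]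
  choose E hE using fun g : s => OA_lift 𝔛 h U (fun N => projR 𝔛 h U N (∑ m ∈ Finset.range (N + 1), e m g))
    fun N => by
      rw [transR_projR, Finset.sum_range_succ, map_add, hc0 (N + 1) _ _ g N (Nat.lt_succ_self N), add_zero]
  rw [hspan, Ideal.mem_span_range_iff_exists_fun]
  refine ⟨E, OA_ext 𝔛 h U fun N => ?_⟩
  have hN : projR 𝔛 h U N (z (N + 1)).1 = 0 := by
    have h2 := (z (N + 1)).2
    have key : ∀ l l', l ≤ l' → ∀ w, projR 𝔛 h U l' w = 0 → projR 𝔛 h U l w = 0 := by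
      intro l l' hl w
      induction l', hl using Nat.le_induction with
      | base => exact id
      | succ l' _ ih => exact fun hw => ih (by rw [← transR_projR, hw, map_zero])
    exact key N _ (by omega) _ h2
  rw [hsum, map_sub, sub_eq_zero, map_sum] at hN
  rw [map_sum, hN]
  exact Finset.sum_congr rfl fun g _ => by rw [map_mul, map_mul, hE g N]

omit hp in
theorem shPb_spfMap {B A : Type u} [CommRing A] [CommRing B] (K : Ideal B) (J : Ideal A) (φ : B →+* A)
    (hφ : K ≤ J.comap φ) (b : B) :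
    shPb (isFormal_spf B K) (isFormal_spf A J) (FSch.spfMap J K φ hφ) (W := ⊤) (V := ⊤) (fun _ hx => hx)
      (toSections B K b) = toSections A J (φ b) := by
  refine OA_ext _ (isFormal_spf A J) ⊤ fun n => ?_
  rw [projR_shPb, projR_toSections, projR_toSections]
  refine (congrArg (fun ψ : Γ((FSch.spf B K).X n, ⊤) ⟶ Γ((FSch.spf A J).X n, ⊤) => ψ (toLevel B K n b))
    (appLE_top_top _ _)).trans ?_
  exact (CategoryTheory.ConcreteCategory.congr_hom (Scheme.ΓSpecIso_inv_naturality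
    (CommRingCat.ofHom (FSch.quotPowMap J K φ hφ n))) (Ideal.Quotient.mk (K ^ (n + 1)) b)).symm

omit hp in
theorem isAdicHom_spfMap {B A : Type u} [CommRing A] [CommRing B] (K : Ideal B) (J : Ideal A) (φ : B →+* A)
    (hφ : K ≤ J.comap φ) (hKJ : K.map φ = J) : FSch.IsAdicHom (FSch.spfMap J K φ hφ) := fun n => by
  subst hKJ
  haveI : IsClosedImmersion ((FSch.spf A (K.map φ)).ι n) := (isFormal_spf A (K.map φ) n).1
  haveI : IsClosedImmersion ((FSch.spf B K).ι n) := (isFormal_spf B K n).1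
  haveI : IsAffine ((FSch.spf A (K.map φ)).X (n + 1)) := inferInstanceAs (IsAffine (Spec _))
  haveI : IsAffine ((FSch.spf B K).X (n + 1)) := inferInstanceAs (IsAffine (Spec _))
  refine isPullback_of_isClosedImmersion _ _ _ _ ((FSch.spfMap (K.map φ) K φ hφ : FSch.Hom _ _).comm n).symm ?_
  refine Scheme.IdealSheafData.ext_of_isAffine ?_
  rw [FpqcDescent.ideal_comap_appLE _ _ ⟨⊤, isAffineOpen_top _⟩ ⟨⊤, isAffineOpen_top _⟩ (fun _ _ => trivial),
    Scheme.Hom.ker_apply, Scheme.Hom.ker_apply,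
    show RingHom.ker (((FSch.spf B K).ι n).app ⊤).hom = (K ^ (n + 1)).map (toLevel B K (n + 1)) from
      ker_spf_ι_ideal_top n,
    show RingHom.ker (((FSch.spf A (K.map φ)).ι n).app ⊤).hom = ((K.map φ) ^ (n + 1)).map (toLevel A (K.map φ) (n + 1)) from
      ker_spf_ι_ideal_top n, ← Ideal.map_pow, Ideal.map_map, Ideal.map_map]
  refine congrArg (fun χ : B →+* Γ((FSch.spf A (K.map φ)).X (n + 1), ⊤) => (K ^ (n + 1)).map χ)
    (RingHom.ext fun b => ?_)
  have hb := congrArg (projR _ (isFormal_spf A (K.map φ)) ⊤ (n + 1)) (shPb_spfMap K (K.map φ) φ hφ b)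
  rw [projR_shPb, projR_toSections, projR_toSections] at hb
  exact hb

omit hp in
/-- A morphism into `Spf R` is determined by its structure map. -/
theorem eq_of_rho (q : 𝔛 ⟶ FSch.spf R I) (hq : ∀ r, rho h q ⊤ r = rho h p ⊤ r) : q = p :=
  hom_spf_ext h I q p hq

end Groth.Agent.FormBlow
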