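/-
Non-zero-divisors and generators of open ideals on formal systems adic over a formal spectrum.
-/
import Groth.Agent.FormBlow.Adic

set_option autoImplicit false
set_option backward.isDefEq.respectTransparency false
set_option linter.style.haveILetI false

universe u

open CategoryTheory CategoryTheory.Limits AlgebraicGeometry TopologicalSpace Opposite FBlow
open Groth.Agent.FSchCoh (OA RA projR transR transR_projR OA_ext OA_lift projR_surjective transR_surjective)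

noncomputable section

namespace Groth.Agent.FormBlow

variable {𝔛 : FSch.Sys.{u}} (h : 𝔛.IsFormal)

theorem projR_eq_zero_of_le {U : (𝔛.X 0).Opens} {l m : ℕ} (hl : l ≤ m) {w : OA 𝔛 h U}
    (hw : projR 𝔛 h U m w = 0) : projR 𝔛 h U l w = 0 := by
  induction m, hl using Nat.le_induction with
  | base => exact hw
  | succ m _ ih => exact ih (by rw [← transR_projR, hw, map_zero])

theorem exists_basic_le {U V : (𝔛.X 0).Opens} (hU : IsAffineOpen U) (hVU : V ≤ U) {x : 𝔛.X 0} (hx : x ∈ V) :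
    ∃ (a : OA 𝔛 h U) (W : (𝔛.X 0).Opens) (i : W ≤ V), x ∈ W ∧ IsAffineOpen W ∧
      (∀ n, 𝔛.lvU h n W = (𝔛.X n).basicOpen (projR 𝔛 h U n a)) ∧ IsUnit (rs (i.trans hVU) a : OA 𝔛 h W) := by
  have h0 := lvU_zero h U
  obtain ⟨f, hfV, hxf⟩ := (FSchAff.isAffineOpen_lvU 𝔛 h hU 0).exists_basicOpen_le (⟨x, hx⟩ : V) (h0.symm ▸ hVU hx)
  obtain ⟨a, rfl⟩ := projR_surjective 𝔛 h hU 0 f
  refine ⟨a, _, hfV, hxf, (FSchAff.isAffineOpen_lvU 𝔛 h hU 0).basicOpen _, fun n => (basicOpen_projR h U a n).symm, ?_⟩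
  refine isUnit_of_projR_zero h (isUnit_of_basicOpen_eq _ ?_)
  rw [projR_rs, Scheme.basicOpen_res]
  exact le_inf le_rfl (lvU_zero h _).le

/-- A non-zero-divisor criterion through the levels of an affine piece. -/
theorem nzdOn_of_levels {U : (𝔛.X 0).Opens} (hU : IsAffineOpen U) (g : OA 𝔛 h U)
    (hg : ∀ n, ∃ N, n ≤ N ∧ ∀ a : OA 𝔛 h U, projR 𝔛 h U N (g * a) = 0 → projR 𝔛 h U n a = 0) :
    NzdOn (O := 𝔛.Osh h) U g := by
  intro V hVU t ht
  refine OA_ext 𝔛 h V fun n => ?_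
  rw [map_zero]
  obtain ⟨N, hnN, hN⟩ := hg n
  refine RingHom.mem_ker.1 ((IdealSh.ker (𝔛.OshProj h n)).mem_of_local fun x hx => ?_)
  obtain ⟨a, W, i, hxW, hW, hlev, hu⟩ := exists_basic_le h hU hVU hx
  refine ⟨W, i, hxW, RingHom.mem_ker.2 ?_⟩
  show projR 𝔛 h W n (rs i t) = 0
  have hWU : W ≤ U := i.trans hVU
  have key : ∀ (D : (𝔛.X N).Opens) (e : D ≤ 𝔛.lvU h N U), D = (𝔛.X N).basicOpen (projR 𝔛 h U N a) →
      ∀ t' : Γ(𝔛.X N, D), (𝔛.X N).presheaf.map (homOfLE e).op (projR 𝔛 h U N g) * t' = 0 →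
        ∃ (k j : ℕ) (b : OA 𝔛 h U),
          t' * (𝔛.X N).presheaf.map (homOfLE e).op (projR 𝔛 h U N a) ^ k =
            (𝔛.X N).presheaf.map (homOfLE e).op (projR 𝔛 h U N b) ∧
          projR 𝔛 h U N (g * (a ^ j * b)) = 0 := by
    rintro D e rfl t' ht'
    haveI := (FSchAff.isAffineOpen_lvU 𝔛 h hU N).isLocalization_basicOpen (projR 𝔛 h U N a)
    obtain ⟨k, b, hb⟩ := IsLocalization.Away.surj (projR 𝔛 h U N a) t'
    obtain ⟨b, rfl⟩ := projR_surjective 𝔛 h hU N b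
    have hres : algebraMap (RA 𝔛 h U N) Γ(𝔛.X N, (𝔛.X N).basicOpen (projR 𝔛 h U N a)) =
        ((𝔛.X N).presheaf.map (homOfLE e).op).hom := rfl
    have hgb : algebraMap (RA 𝔛 h U N) Γ(𝔛.X N, (𝔛.X N).basicOpen (projR 𝔛 h U N a))
        (projR 𝔛 h U N (g * b)) = 0 := by
      rw [map_mul, map_mul, ← hb, hres, ← mul_assoc, ht', zero_mul]
    obtain ⟨⟨_, j, rfl⟩, hj⟩ := (IsLocalization.map_eq_zero_iff (Submonoid.powers (projR 𝔛 h U N a)) _ _).1 hgb
    refine ⟨k, j, b, ?_, ?_⟩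
    · exact hb
    · rw [← mul_assoc, mul_comm g, mul_assoc, map_mul, map_pow]
      exact hj
  have ht' : (𝔛.X N).presheaf.map (homOfLE (lvU_mono h hWU N)).op (projR 𝔛 h U N g) *
      projR 𝔛 h W N (rs i t) = 0 := by
    rw [← projR_rs h hWU, ← map_mul]
    have := congrArg (rs i) ht
    rw [map_mul, map_zero, rs_rs] at this
    rw [mul_comm, this, map_zero]
  obtain ⟨k, j, b, hb, hgb⟩ := key _ (lvU_mono h hWU N) (hlev N) _ ht'
  rw [← projR_rs h hWU, ← projR_rs h hWU, ← map_pow, ← map_mul] at hb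
  have hb' : projR 𝔛 h W n (rs i t * rs hWU a ^ k) = projR 𝔛 h W n (rs hWU b) := by
    rw [← sub_eq_zero, ← map_sub]
    exact projR_eq_zero_of_le h hnN (by rw [map_sub, hb, sub_self])
  have h1 := congrArg ((𝔛.X n).presheaf.map (homOfLE (lvU_mono h hWU n)).op) (hN _ hgb)
  rw [← projR_rs h hWU, map_zero, map_mul, map_pow, map_mul, map_pow] at h1
  have hua := hu.map (projR 𝔛 h W n)
  rw [(hua.pow j).mul_right_eq_zero] at h1
  rw [h1, map_mul, map_pow, (hua.pow k).mul_left_eq_zero] at hb'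
  exact hb'

variable {R : Type u} [CommRing R] {I : Ideal R} (p : 𝔛 ⟶ FSch.spf R I) (hp : FSch.IsAdicHom p) (hI : I.FG)
include hp hI

/-- An element dividing a power of `I` and regular on the sections over an affine piece is regular on all opens. -/
theorem nzdOn_of_pow_le {U : (𝔛.X 0).Opens} (hU : IsAffineOpen U) {g : OA 𝔛 h U}
    (hg : ∀ a, g * a = 0 → a = 0) {c : ℕ} (hc : ∀ r ∈ I ^ (c + 1), g ∣ rho h p U r) :
    NzdOn (O := 𝔛.Osh h) U g := by
  refine nzdOn_of_levels h hU g fun n => ⟨n + c + 1, by omega, fun a ha => ?_⟩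
  have hmem : g * a ∈ (I ^ (n + c + 1 + 1)).map (rho h p U) := by
    rw [← ker_projR_eq h p hp hI hU]; exact ha
  have hle : (I ^ (n + c + 1 + 1)).map (rho h p U) ≤ Ideal.span {g} * (I ^ (n + 1)).map (rho h p U) := by
    rw [show I ^ (n + c + 1 + 1) = I ^ (c + 1) * I ^ (n + 1) by rw [← pow_add]; congr 1; omega, Ideal.map_mul]
    refine Ideal.mul_mono_left (Ideal.map_le_iff_le_comap.2 fun r hr => ?_)
    exact Ideal.mem_span_singleton.2 (hc r hr)
  obtain ⟨y, hy, hya⟩ := Ideal.mem_span_singleton_mul.1 (hle hmem)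
  obtain rfl : y = a := sub_eq_zero.1 (hg _ (by rw [mul_sub, hya, sub_self]))
  exact RingHom.mem_ker.1 (show y ∈ RingHom.ker (projR 𝔛 h U n) by rw [ker_projR_eq h p hp hI hU]; exact hy)

/-- An open ideal of finite type is generated near each point by finitely many sections, which may be taken to
generate a power of `I` too. -/
theorem exists_generators {J : IdealSh (𝔛.Osh h)} (hJ : IsCohOpen 𝔛 h J) (x : 𝔛.X 0) :
    ∃ U : (𝔛.X 0).Opens, IsAffineOpen U ∧ x ∈ U ∧ ∃ (s c : ℕ) (f : Fin s → OA 𝔛 h U),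
      (∀ k, f k ∈ J.sect U) ∧ J ≤ relGen U f ∧ ∀ r ∈ I ^ (c + 1), rho h p U r ∈ Ideal.span (Set.range f) := by
  classical
  obtain ⟨U₀, hxU₀, c, 𝒜, hFT, hJc⟩ := hJ x
  obtain ⟨U, hU, hxU, hUU₀⟩ := exists_isAffineOpen_mem_and_subset hxU₀
  have haff := FSchAff.isAffineOpen_lvU 𝔛 h hU c
  obtain ⟨S, hS⟩ := hFT ⟨_, haff⟩
  obtain ⟨Q, hQ⟩ := Submodule.FG.pow hI (c + 1)
  choose lift hlift using fun z => projR_surjective 𝔛 h hU c z
  let l : List (OA 𝔛 h U) := S.toList.map lift ++ Q.toList.map (rho h p U)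
  have hpow : ∀ r ∈ I ^ (c + 1), rho h p U r ∈ Ideal.span (Set.range l.get) := by
    intro r hr
    suffices hh : (I ^ (c + 1)).map (rho h p U) ≤ Ideal.span (Set.range l.get) from hh (Ideal.mem_map_of_mem _ hr)
    rw [← hQ]
    show (Ideal.span (Q : Set R)).map _ ≤ _
    rw [Ideal.map_span, Ideal.span_le]
    rintro _ ⟨q, hq, rfl⟩
    exact Ideal.subset_span (by rw [Set.range_list_get]; simp [l]; exact Or.inr ⟨q, hq, rfl⟩)
  have hmemJ : ∀ k, l.get k ∈ J.sect U := by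
    intro k
    rw [hJc U hUU₀, mem_ofLevel_iff]
    have hk := List.get_mem l k
    generalize l.get k = z at hk ⊢
    show projR 𝔛 h U c z ∈ (IdealSh.ofData 𝒜).sect (𝔛.lvU h c U)
    simp only [l, List.mem_append, List.mem_map, Finset.mem_toList] at hk
    rcases hk with ⟨y, hy, rfl⟩ | ⟨q, hq, rfl⟩
    · rw [hlift]
      refine fun z hz => ⟨⟨_, haff⟩, le_rfl, hz, ?_⟩
      show (𝔛.X c).presheaf.map (homOfLE le_rfl).op y ∈ _
      rw [show (𝔛.X c).presheaf.map (homOfLE (le_refl (𝔛.lvU h c U))).op y = y from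
        congrArg (fun φ => φ y) ((𝔛.X c).presheaf.map_id _), ← hS]
      exact Ideal.subset_span hy
    · rw [projR_rho_eq_zero h p U c (hQ ▸ Ideal.subset_span hq)]
      exact Ideal.zero_mem _
  refine ⟨U, hU, hxU, l.length, c, l.get, hmemJ, fun V s hs y hy => ?_, hpow⟩
  have hs' := rs_mem J (inf_le_left : V ⊓ U ≤ V) hs
  rw [hJc _ (inf_le_right.trans hUU₀), mem_ofLevel_iff] at hs'
  obtain ⟨D, hD, hyD, hmem⟩ := hs' ((𝔛.toX c).base y) (show 𝔛.gInv h c ((𝔛.toX c).base y) ∈ V ⊓ U by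
    rw [← ConcreteCategory.comp_apply, FSch.Sys.toX_base_gInv]; exact hy)
  obtain ⟨W, hW, hyW, hWle⟩ := exists_isAffineOpen_mem_and_subset
    (show y ∈ (V ⊓ U) ⊓ 𝔛.toX c ⁻¹ᵁ D.1 from ⟨hy, hyD⟩)
  have hWVU : W ≤ V ⊓ U := fun z hz => (hWle hz).1
  refine ⟨W, hWVU.trans inf_le_left, hWVU.trans inf_le_right, hyW, ?_⟩
  have hWD : 𝔛.lvU h c W ≤ D.1 := fun z hz => by
    have h2 := (hWle hz).2
    change (𝔛.toX c).base (𝔛.gInv h c z) ∈ D.1 at h2
    rwa [← ConcreteCategory.comp_apply, FSch.Sys.gInv_toX_base] at h2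
  have haffW := FSchAff.isAffineOpen_lvU 𝔛 h hW c
  have h1 := res_mem_ofData 𝒜 (V := D) (W := ⟨_, haffW⟩) hWD hmem
  rw [FBlow.sch_map_comp_apply, ← 𝒜.map_ideal (U := ⟨_, haffW⟩) (V := ⟨_, haff⟩) (lvU_mono h (hWVU.trans inf_le_right) c),
    ← hS] at h1
  change _ ∈ Ideal.map _ (Ideal.span _) at h1
  rw [Ideal.map_span] at h1
  set fW := fun k => rs (hWVU.trans inf_le_right : W ≤ U) (l.get k)
  have h2 : projR 𝔛 h W c (rs (hWVU.trans inf_le_left) s) ∈ (Ideal.span (Set.range fW)).map (projR 𝔛 h W c) := by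
    have h1' : projR 𝔛 h W c (rs (hWVU.trans inf_le_left) s) ∈ Ideal.span
        (((𝔛.X c).presheaf.map (homOfLE (lvU_mono h (hWVU.trans inf_le_right) c)).op).hom '' (S : Set Γ(𝔛.X c, 𝔛.lvU h c U))) := by
      rw [← rs_rs (inf_le_left : V ⊓ U ≤ V) hWVU, projR_rs]
      exact h1
    refine (Ideal.span_le.2 ?_) h1'
    rintro _ ⟨z, hz, rfl⟩
    have : ((𝔛.X c).presheaf.map (homOfLE (lvU_mono h (hWVU.trans inf_le_right) c)).op).hom z =
        projR 𝔛 h W c (rs (hWVU.trans inf_le_right) (lift z)) := by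
      rw [projR_rs, hlift]
    rw [this]
    refine Ideal.mem_map_of_mem _ ?_
    obtain ⟨k, hk⟩ : ∃ k, l.get k = lift z := List.mem_iff_get.1 (by simp [l]; exact Or.inl ⟨z, hz, rfl⟩)
    exact Ideal.subset_span ⟨k, by simp only [fW, hk]⟩
  rw [Ideal.mem_map_iff_of_surjective _ (projR_surjective 𝔛 h hW c)] at h2
  obtain ⟨e, he, hes⟩ := h2
  have hker : rs (hWVU.trans inf_le_left) s - e ∈ RingHom.ker (projR 𝔛 h W c) := by
    rw [RingHom.mem_ker, map_sub, hes, sub_self]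
  rw [ker_projR_eq h p hp hI hW] at hker
  have hle : (I ^ (c + 1)).map (rho h p W) ≤ Ideal.span (Set.range fW) := by
    refine Ideal.map_le_iff_le_comap.2 fun r hr => ?_
    have h3 := Ideal.mem_map_of_mem (rs (O := 𝔛.Osh h) (hWVU.trans inf_le_right : W ≤ U)) (hpow r hr)
    rw [rho_rs, Ideal.map_span, ← Set.range_comp] at h3
    exact h3
  simpa using Ideal.add_mem _ (hle hker) he

end Groth.Agent.FormBlow
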