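/-
The chart test object of an admissible formal blowing-up and the non-zero-divisors it carries.
-/
import Groth.Agent.FormBlow.Local

set_option autoImplicit false
set_option backward.isDefEq.respectTransparency false
set_option linter.style.haveILetI false

universe u

open CategoryTheory CategoryTheory.Limits AlgebraicGeometry TopologicalSpace Opposite FBlow
open Groth.Agent.FSchCoh (OA RA projR transR transR_projR OA_ext OA_lift projR_surjective transR_surjective)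

noncomputable section

namespace Groth.Agent.FormBlow

section Ring

variable {A : Type u} [CommRing A] {ι : Type*} (f : ι → A) (i : ι)

/-- the subring `A[f_j / f_i]` of `A_{f_i}` -/
def chartRing : Subalgebra A (Localization.Away (f i)) :=
  Algebra.adjoin A (Set.range fun j => IsLocalization.mk' (Localization.Away (f i)) (f j)
    (⟨f i, Submonoid.mem_powers _⟩ : Submonoid.powers (f i)))

theorem chartRing_dvd (j : ι) : algebraMap A (chartRing f i) (f i) ∣ algebraMap A (chartRing f i) (f j) := by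
  refine ⟨⟨_, Algebra.subset_adjoin ⟨j, rfl⟩⟩, Subtype.ext ?_⟩
  exact (IsLocalization.mk'_spec' (Localization.Away (f i)) (f j) ⟨f i, Submonoid.mem_powers _⟩).symm

theorem chartRing_nzd {g : A} (hg : ∀ a, g * a = 0 → a = 0) (b : chartRing f i)
    (hb : algebraMap A (chartRing f i) g * b = 0) : b = 0 := by
  obtain ⟨⟨a, s⟩, hs⟩ := IsLocalization.surj (Submonoid.powers (f i)) (b : Localization.Away (f i))
  have hb' : algebraMap A (Localization.Away (f i)) g * (b : Localization.Away (f i)) = 0 :=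
    congrArg Subtype.val hb
  have h0 : algebraMap A (Localization.Away (f i)) (g * a) = 0 := by
    rw [map_mul, ← hs, ← mul_assoc, hb', zero_mul]
  obtain ⟨m, hm⟩ := (IsLocalization.map_eq_zero_iff (Submonoid.powers (f i)) _ _).1 h0
  have ha : (m : A) * a = 0 := hg _ (by linear_combination hm)
  have h1 : algebraMap A (Localization.Away (f i)) a = 0 :=
    (IsLocalization.map_eq_zero_iff (Submonoid.powers (f i)) _ _).2 ⟨m, ha⟩
  refine Subtype.ext ((IsLocalization.map_units (Localization.Away (f i)) s).mul_left_eq_zero.1 ?_)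
  rw [hs]
  exact h1

theorem chartRing_nzd_self (b : chartRing f i) (hb : algebraMap A (chartRing f i) (f i) * b = 0) : b = 0 :=
  Subtype.ext ((IsLocalization.map_units (Localization.Away (f i))
    (⟨f i, Submonoid.mem_powers _⟩ : Submonoid.powers (f i))).mul_right_eq_zero.1 (congrArg Subtype.val hb))

/-- the universal property of the chart ring -/
theorem exists_chartRing_hom {S : Type u} [CommRing S] (φ : A →+* S) (hnz : ∀ t, t * φ (f i) = 0 → t = 0)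
    (hdvd : ∀ j, φ (f i) ∣ φ (f j)) :
    ∃ ψ : chartRing f i →+* S, ∀ a, ψ (algebraMap A _ a) = φ a := by
  have hle : Submonoid.powers (f i) ≤ (Submonoid.powers (φ (f i))).comap φ := by
    rintro _ ⟨n, rfl⟩
    exact ⟨n, (map_pow φ _ n).symm⟩
  let Λ : Localization.Away (f i) →+* Localization.Away (φ (f i)) :=
    IsLocalization.map (Localization.Away (φ (f i))) φ hle
  have hΛ : ∀ a, Λ (algebraMap A _ a) = algebraMap S _ (φ a) := IsLocalization.map_eq hle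
  have hinj : Function.Injective (algebraMap S (Localization.Away (φ (f i)))) := by
    rw [injective_iff_map_eq_zero]
    intro x hx
    obtain ⟨⟨_, n, rfl⟩, hn⟩ := (IsLocalization.map_eq_zero_iff (Submonoid.powers (φ (f i))) _ _).1 hx
    clear hx
    induction n generalizing x with
    | zero => simpa using hn
    | succ n ih => exact ih x (hnz _ (by simpa [pow_succ, mul_comm, mul_left_comm, mul_assoc] using hn))
  have hrange : ∀ b : chartRing f i, ∃ x, algebraMap S (Localization.Away (φ (f i))) x = Λ b := by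
    rintro ⟨b, hb⟩
    induction hb using Algebra.adjoin_induction with
    | mem x hx =>
      obtain ⟨j, rfl⟩ := hx
      obtain ⟨e, he⟩ := hdvd j
      refine ⟨e, ?_⟩
      have hu : IsUnit (algebraMap S (Localization.Away (φ (f i))) (φ (f i))) :=
        IsLocalization.map_units _ (⟨φ (f i), Submonoid.mem_powers _⟩ : Submonoid.powers (φ (f i)))
      refine hu.mul_right_inj.1 ?_
      rw [← map_mul, ← he, ← hΛ (f j), ← hΛ (f i), ← map_mul, IsLocalization.mk'_spec'_mk]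
    | algebraMap r => exact ⟨φ r, (hΛ r).symm⟩
    | add x y _ _ hx hy =>
      obtain ⟨a, ha⟩ := hx; obtain ⟨c, hc⟩ := hy
      exact ⟨a + c, by rw [map_add, ha, hc, ← map_add]⟩
    | mul x y _ _ hx hy =>
      obtain ⟨a, ha⟩ := hx; obtain ⟨c, hc⟩ := hy
      exact ⟨a * c, by rw [map_mul, ha, hc, ← map_mul]⟩
  choose ψ hψ using hrange
  refine ⟨{ toFun := ψ, map_one' := hinj ?_, map_mul' := fun x y => hinj ?_, map_zero' := hinj ?_,
            map_add' := fun x y => hinj ?_ }, fun a => hinj ((hψ _).trans (hΛ a))⟩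
  · rw [hψ, map_one]; exact map_one Λ
  · rw [hψ, map_mul, hψ, hψ]; exact map_mul Λ _ _
  · rw [hψ, map_zero]; exact map_zero Λ
  · rw [hψ, map_add, hψ, hψ]; exact map_add Λ _ _

end Ring

variable {𝔛 𝔜 ℨ : FSch.Sys.{u}} (h : 𝔛.IsFormal) (h𝔜 : 𝔜.IsFormal)

theorem shPb_congr {f g : 𝔜 ⟶ 𝔛} (e : f = g) {W : (𝔛.X 0).Opens} {V : (𝔜.X 0).Opens}
    (j : V ≤ (f : FSch.Hom 𝔜 𝔛).app 0 ⁻¹ᵁ W) (j' : V ≤ (g : FSch.Hom 𝔜 𝔛).app 0 ⁻¹ᵁ W) (a : OA 𝔛 h W) :
    shPb h h𝔜 f j a = shPb h h𝔜 g j' a := by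
  subst e
  rfl

theorem bijective_projR_pb_restrictOpenι (U : (𝔛.X 0).Opens) {W : (𝔛.X 0).Opens} (hWU : W ≤ U) (n : ℕ) :
    Function.Bijective ((((𝔛.restrictOpenι h U : FSch.Hom _ _)).app n).appLE (𝔛.lvU h n W) _
      (lvU_le_preimage h (isFormal_restrictOpen h U) (𝔛.restrictOpenι h U)
        (le_refl ((𝔛.restrictOpenι h U : FSch.Hom _ _).app 0 ⁻¹ᵁ W)) n)) := by
  have hpre : (𝔛.restrictOpen h U).lvU (isFormal_restrictOpen h U) n
      ((𝔛.restrictOpenι h U : FSch.Hom _ _).app 0 ⁻¹ᵁ W) = (𝔛.lvU h n U).ι ⁻¹ᵁ 𝔛.lvU h n W :=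
    (FSch.Hom.lvU_preimage (𝔛.restrictOpenι h U) (isFormal_restrictOpen h U) h n W).symm
  have key : ∀ (V : (𝔛.lvU h n U : Scheme.{u}).Opens) (e : V ≤ (𝔛.lvU h n U).ι ⁻¹ᵁ 𝔛.lvU h n W),
      V = (𝔛.lvU h n U).ι ⁻¹ᵁ 𝔛.lvU h n W → Function.Bijective ((𝔛.lvU h n U).ι.appLE (𝔛.lvU h n W) V e) := by
    rintro V e rfl
    rw [← Scheme.Hom.app_eq_appLE]
    have : IsIso ((𝔛.lvU h n U).ι.app (𝔛.lvU h n W)) :=
      Scheme.Hom.isIso_app (𝔛.lvU h n U).ι _ (by rw [Scheme.Opens.opensRange_ι]; exact lvU_mono h hWU n)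
    exact ConcreteCategory.bijective_of_isIso _
  exact key _ (lvU_le_preimage h (isFormal_restrictOpen h U) (𝔛.restrictOpenι h U) le_rfl n) hpre

/-- Sections over an open inside `U` are the sections on the system induced on `U`. -/
theorem surjective_shPb_restrictOpenι (U : (𝔛.X 0).Opens) {W : (𝔛.X 0).Opens} (hWU : W ≤ U) :
    Function.Surjective (shPb h (isFormal_restrictOpen h U) (𝔛.restrictOpenι h U)
      (le_refl ((𝔛.restrictOpenι h U : FSch.Hom _ _).app 0 ⁻¹ᵁ W))) := by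
  intro t
  choose b hb using fun n => (bijective_projR_pb_restrictOpenι h U hWU n).2 (projR _ _ _ n t)
  obtain ⟨s, hs⟩ := OA_lift 𝔛 h W b fun n => by
    refine (bijective_projR_pb_restrictOpenι h U hWU n).1 ?_
    rw [hb n, ← transR_projR _ _ _ n t, ← hb (n + 1)]
    have e₃ : (𝔛.restrictOpen h U).lvU (isFormal_restrictOpen h U) n
        ((𝔛.restrictOpenι h U : FSch.Hom _ _).app 0 ⁻¹ᵁ W) ≤
        ((𝔛.restrictOpenι h U : FSch.Hom _ _).app n ≫ 𝔛.ι n) ⁻¹ᵁ 𝔛.lvU h (n + 1) W :=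
      (lvU_le_preimage h (isFormal_restrictOpen h U) (𝔛.restrictOpenι h U) le_rfl n).trans
        (Scheme.Hom.preimage_mono _ (𝔛.lvU_le h n W))
    show ((𝔛.ι n).appLE _ _ (𝔛.lvU_le h n W) ≫ ((𝔛.restrictOpenι h U : FSch.Hom _ _).app n).appLE _ _ _) (b (n + 1)) =
      (((𝔛.restrictOpenι h U : FSch.Hom _ _).app (n + 1)).appLE _ _ _ ≫
        ((𝔛.restrictOpen h U).ι n).appLE _ _ ((𝔛.restrictOpen h U).lvU_le (isFormal_restrictOpen h U) n _)) (b (n + 1))
    refine congrArg (fun φ : Γ(𝔛.X (n + 1), 𝔛.lvU h (n + 1) W) ⟶ _ => φ (b (n + 1))) ?_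
    exact (FSch.appLE_comp_appLE_of_eq _ _ _ rfl _ _ _ _ _ e₃).trans
      (FSch.appLE_comp_appLE_of_eq _ _ _ ((𝔛.restrictOpenι h U : FSch.Hom _ _).comm n).symm _ _ _ _ _ e₃).symm
  exact ⟨s, OA_ext _ _ _ fun n => by rw [projR_shPb, hs, hb]⟩

theorem top_le_restrictOpenι (U : (𝔛.X 0).Opens) :
    ⊤ ≤ (𝔛.restrictOpenι h U : FSch.Hom _ _).app 0 ⁻¹ᵁ U := fun y _ => range_restrictOpenι h U y

/-- An invertible ideal stays invertible on the system induced on an open where it has a generator. -/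
theorem nzdOn_restrictOpen {U : (𝔛.X 0).Opens} {g : OA 𝔛 h U} (hg : NzdOn (O := 𝔛.Osh h) U g) :
    NzdOn (O := (𝔛.restrictOpen h U).Osh (isFormal_restrictOpen h U)) ⊤
      (shPb h (isFormal_restrictOpen h U) (𝔛.restrictOpenι h U) (top_le_restrictOpenι h U) g) := by
  intro V' i t ht
  set ιU : FSch.Hom (𝔛.restrictOpen h U) 𝔛 := 𝔛.restrictOpenι h U
  haveI : IsOpenImmersion (ιU.app 0) := inferInstanceAs (IsOpenImmersion (𝔛.lvU h 0 U).ι)
  obtain ⟨W, hWU, rfl⟩ : ∃ W, W ≤ U ∧ V' = ιU.app 0 ⁻¹ᵁ W :=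
    ⟨ιU.app 0 ''ᵁ V', fun _ ⟨y, _, e⟩ => e ▸ range_restrictOpenι h U y, ((ιU.app 0).preimage_image_eq V').symm⟩
  obtain ⟨s, rfl⟩ := surjective_shPb_restrictOpenι h U hWU t
  have he : rs i (shPb h (isFormal_restrictOpen h U) (𝔛.restrictOpenι h U) (top_le_restrictOpenι h U) g) =
      shPb h (isFormal_restrictOpen h U) (𝔛.restrictOpenι h U) (le_refl (ιU.app 0 ⁻¹ᵁ W)) (rs hWU g) :=
    (pb_rs _ _ _ i g).trans (rs_pb _ _ hWU (le_refl (ιU.app 0 ⁻¹ᵁ W)) g).symm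
  rw [he, ← map_mul] at ht
  rw [hg W hWU s (eq_zero_of_shPb_restrictOpenι h U hWU ht), map_zero]

theorem nzdOn_spf {B : Type u} [CommRing B] (K : Ideal B) {x : B} (hx : ∀ b, x * b = 0 → b = 0) {c : ℕ}
    (hc : ∀ b ∈ K ^ (c + 1), x ∣ b) :
    NzdOn (O := (FSch.spf B K).Osh (isFormal_spf B K)) ⊤ (toSections B K x) := by
  haveI : IsAffine ((FSch.spf B K).X 0) := inferInstanceAs (IsAffine (Spec _))
  refine nzdOn_of_levels _ (isAffineOpen_top _) _ fun n => ⟨n + c + 1, by omega, fun a ha => ?_⟩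
  obtain ⟨b, hb⟩ := toLevel_surjective B K (n + c + 1) (projR _ (isFormal_spf B K) ⊤ (n + c + 1) a)
  rw [map_mul, ← hb, projR_toSections, ← map_mul, toLevel_eq_zero_iff,
    show n + c + 1 + 1 = (c + 1) + (n + 1) by omega, pow_add] at ha
  have hle : K ^ (c + 1) * K ^ (n + 1) ≤ Ideal.span {x} * K ^ (n + 1) :=
    Ideal.mul_mono_left fun r hr => Ideal.mem_span_singleton.2 (hc r hr)
  obtain ⟨y, hy, hyb⟩ := Ideal.mem_span_singleton_mul.1 (hle ha)
  obtain rfl : y = b := sub_eq_zero.1 (hx _ (by rw [mul_sub, hyb, sub_self]))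
  have h1 : projR _ (isFormal_spf B K) ⊤ (n + c + 1) (a - toSections B K y) = 0 := by
    rw [map_sub, projR_toSections, hb, sub_self]
  have h2 := projR_eq_zero_of_le (isFormal_spf B K) (show n ≤ n + c + 1 by omega) h1
  rwa [map_sub, projR_toSections_eq_zero K n hy, sub_zero] at h2

/-- the sections of a formal spectrum on the chart: adic test object -/
theorem isAdic_homOfRing_spf {R : Type u} [CommRing R] {I : Ideal R} (p : 𝔛 ⟶ FSch.spf R I)
    (hp : FSch.IsAdicHom p) {U : (𝔛.X 0).Opens} (hU : IsAffineOpen U) {B : Type u} [CommRing B]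
    (ψ : OA 𝔛 h U →+* B) {K : Ideal B} (hK : K = I.map (ψ.comp (rho h p U)))
    (hη : ∀ n a, projR 𝔛 h U n a = 0 → projR _ (isFormal_spf B K) ⊤ n (((toSections B K).comp ψ) a) = 0) :
    FSch.IsAdicHom (homOfRing h (isFormal_spf B K) hU ((toSections B K).comp ψ) hη) := by
  refine isAdicHom_of_comp ?_ hp
  have e : homOfRing h (isFormal_spf B K) hU ((toSections B K).comp ψ) hη ≫ p =
      FSch.spfMap K I (ψ.comp (rho h p U)) (hK ▸ Ideal.le_comap_map) := by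
    refine hom_spf_ext (isFormal_spf B K) I _ _ fun r => ?_
    rw [shPb_spfMap, shPb_comp (W := ⊤) (isFormal_spf R I) h p (isFormal_spf B K) _ (fun _ _ => trivial)
      (top_le_preimage_homOfRing h (isFormal_spf B K) hU _ hη)]
    exact shPb_homOfRing h (isFormal_spf B K) hU _ hη (rho h p U r)
  rw [e]
  exact isAdicHom_spfMap I K _ _ hK.symm

/-- The chart of an admissible formal blowing-up on an open where a member of the family generates: the open maps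
to the chart, the chart maps to the blowing-up, and the composite is the inclusion. -/
theorem exists_chart {R : Type u} [CommRing R] {I : Ideal R} (p : 𝔛 ⟶ FSch.spf R I) (hp : FSch.IsAdicHom p)
    (hI : I.FG) {U : (𝔛.X 0).Opens} (hU : IsAffineOpen U) (K : IdealSh (𝔛.Osh h))
    (b : 𝔜 ⟶ 𝔛) (hb : IsAdmBlowUp b h𝔜 h K)
    {r : ℕ} (f : Fin r → OA 𝔛 h U) (hfK : ∀ j, f j ∈ K.sect U) (hKf : K ≤ relGen U f)
    {c : ℕ} (hpow : ∀ a ∈ I ^ (c + 1), rho h p U a ∈ Ideal.span (Set.range f))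
    (i : Fin r) {V : (𝔜.X 0).Opens} (jV : V ≤ (b : FSch.Hom 𝔜 𝔛).app 0 ⁻¹ᵁ U)
    (hinv : InvOn (idealMap b h𝔜 h K) V (shPb h h𝔜 b jV (f i))) :
    ∃ (k : FSch.spf (chartRing f i) (I.map ((algebraMap (OA 𝔛 h U) (chartRing f i)).comp (rho h p U))) ⟶ 𝔜)
      (φ : 𝔜.restrictOpen h𝔜 V ⟶ FSch.spf (chartRing f i) (I.map ((algebraMap (OA 𝔛 h U) (chartRing f i)).comp (rho h p U))))
      (e : ⊤ ≤ (k ≫ b : FSch.Hom _ _).app 0 ⁻¹ᵁ U)
      (e' : ⊤ ≤ (𝔜.restrictOpenι h𝔜 V ≫ b : FSch.Hom _ _).app 0 ⁻¹ᵁ U),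
      φ ≫ k = 𝔜.restrictOpenι h𝔜 V ∧ FSch.IsAdicHom (k ≫ b) ∧
      (∀ a, shPb h (isFormal_spf _ _) (k ≫ b) e a = toSections _ _ (algebraMap (OA 𝔛 h U) (chartRing f i) a)) ∧
      (∀ a, shPb (isFormal_spf _ _) (isFormal_restrictOpen h𝔜 V) φ (fun _ hy => hy)
          (toSections _ _ (algebraMap (OA 𝔛 h U) (chartRing f i) a)) =
        shPb h (isFormal_restrictOpen h𝔜 V) (𝔜.restrictOpenι h𝔜 V ≫ b) e' a) := by
  let B := ↥(chartRing f i)
  let ψ₀ : OA 𝔛 h U →+* B := algebraMap _ _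
  let KB : Ideal B := I.map (ψ₀.comp (rho h p U))
  have hKpow : ∀ n, KB ^ n = ((I ^ n).map (rho h p U)).map ψ₀ := fun n => by
    rw [Ideal.map_map, ← Ideal.map_pow]
  have hη : ∀ n a, projR 𝔛 h U n a = 0 → projR _ (isFormal_spf B KB) ⊤ n (((toSections B KB).comp ψ₀) a) = 0 := by
    intro n a ha
    refine projR_toSections_eq_zero KB n ?_
    rw [hKpow, ← ker_projR_eq h p hp hI hU n]
    exact Ideal.mem_map_of_mem _ (RingHom.mem_ker.2 ha)
  let hZ := isFormal_spf B KB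
  let q := homOfRing h hZ hU ((toSections B KB).comp ψ₀) hη
  have hq : FSch.IsAdicHom q := isAdic_homOfRing_spf h p hp hU ψ₀ rfl hη
  have hqU := top_le_preimage_homOfRing h hZ hU ((toSections B KB).comp ψ₀) hη
  have hqa : ∀ a, shPb h hZ q hqU a = toSections B KB (ψ₀ a) := fun a => shPb_homOfRing h hZ hU _ hη a
  have hdiv : ∀ {x : B} {n : ℕ}, (∀ a ∈ I ^ (n + 1), x ∣ ψ₀ (rho h p U a)) → ∀ z ∈ KB ^ (n + 1), x ∣ z := by
    intro x n hx z hz
    rw [← Ideal.mem_span_singleton]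
    refine (?_ : KB ^ (n + 1) ≤ Ideal.span {x}) hz
    rw [hKpow, Ideal.map_map, Ideal.map_le_iff_le_comap]
    exact fun a ha => Ideal.mem_span_singleton.2 (hx a ha)
  have hfi : NzdOn (O := (FSch.spf B KB).Osh hZ) ⊤ (toSections B KB (ψ₀ (f i))) := by
    refine nzdOn_spf KB (chartRing_nzd_self f i) (c := c) (hdiv fun a ha => ?_)
    rw [← Ideal.mem_span_singleton]
    refine (Ideal.map_le_iff_le_comap (f := ψ₀)).2 ?_ (Ideal.mem_map_of_mem ψ₀ (hpow a ha))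
    rw [Ideal.span_le]
    rintro _ ⟨j, rfl⟩
    exact Ideal.mem_span_singleton.2 (chartRing_dvd f i j)
  have hinvZ : (idealMap q hZ h K).IsInvertible := by
    rw [isInvertible_iff]
    refine fun z => ⟨⊤, trivial, toSections B KB (ψ₀ (f i)), ?_, hfi, ?_⟩
    · rw [← hqa]
      exact pb_mem_map _ _ K hqU (hfK i)
    · intro W s hs
      refine relGen_le_of_mem (le_refl ⊤) (fun j => ?_) W (map_le_relGen _ _ hKf hqU W hs)
      rw [rs_self]
      show shPb h hZ q hqU (f j) ∈ _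
      rw [hqa]
      obtain ⟨e, he⟩ := chartRing_dvd f i j
      rw [show ψ₀ (f j) = ψ₀ (f i) * e from he, map_mul]
      exact Ideal.mul_mem_right _ _ (mem_relGen_self (fun _ : Unit => toSections B KB (ψ₀ (f i))) ())
  obtain ⟨k, hk, -⟩ := hb.2.2 _ hZ q hq hinvZ
  -- the map from the open `V` to the chart
  have hdvdV : ∀ j, shPb h h𝔜 b jV (f i) ∣ shPb h h𝔜 b jV (f j) := fun j => by
    obtain ⟨e, he⟩ := hinv.exists_eq le_rfl (pb_mem_map _ _ K jV (hfK j))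
    exact ⟨e, he.trans (by rw [rs_self, mul_comm])⟩
  obtain ⟨ψV, hψV⟩ := exists_chartRing_hom f i (shPb h h𝔜 b jV)
    (fun t ht => hinv.2.1 V le_rfl t (by rwa [rs_self])) hdvdV
  let ιV := 𝔜.restrictOpenι h𝔜 V
  let hVf := isFormal_restrictOpen h𝔜 V
  have htop := top_le_restrictOpenι h𝔜 V
  have hbU : ⊤ ≤ (ιV ≫ b : FSch.Hom _ _).app 0 ⁻¹ᵁ U := fun y hy => jV (htop hy)
  let φZ : B →+* OA _ hVf ⊤ := (shPb h𝔜 hVf ιV htop).comp ψV
  have hφa : ∀ a, φZ (ψ₀ a) = shPb h hVf (ιV ≫ b) hbU a := fun a => by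
    rw [shPb_comp h h𝔜 b hVf ιV jV htop]
    exact congrArg (shPb h𝔜 hVf ιV htop) (hψV a)
  have hφ : ∀ n, ∀ z ∈ KB ^ (n + 1), projR _ hVf ⊤ n (φZ z) = 0 := by
    intro n z hz
    rw [hKpow, Ideal.map_map] at hz
    refine RingHom.mem_ker.1 (show z ∈ RingHom.ker ((projR _ hVf ⊤ n).comp φZ) from ?_)
    refine (Ideal.map_le_iff_le_comap.2 fun a ha => ?_) hz
    show projR _ hVf ⊤ n (φZ (ψ₀ (rho h p U a))) = 0
    rw [hφa, shPb_rho]
    exact projR_rho_eq_zero hVf _ ⊤ n ha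
  let φ := toSpf hVf KB φZ hφ
  have hφtop : (⊤ : ((𝔜.restrictOpen h𝔜 V).X 0).Opens) ≤ (φ : FSch.Hom _ _).app 0 ⁻¹ᵁ ⊤ := fun _ hy => hy
  have hφqU : (⊤ : ((𝔜.restrictOpen h𝔜 V).X 0).Opens) ≤ (φ ≫ q : FSch.Hom _ _).app 0 ⁻¹ᵁ U :=
    fun y hy => hqU (hφtop hy)
  have eφ : φ ≫ q = ιV ≫ b := by
    refine hom_ext_of_shPb h hVf hU _ _ hφqU hbU fun a => ?_
    rw [shPb_comp h hZ q hVf φ hqU hφtop hφqU, hqa]
    exact (shPb_toSpf hVf KB φZ hφ (ψ₀ a)).trans (hφa a)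
  have hιb : FSch.IsAdicHom (ιV ≫ b) := isAdicHom_comp (isAdicHom_restrictOpenι h𝔜 V) hb.1
  have hinvV : (idealMap (ιV ≫ b) hVf h K).IsInvertible := by
    rw [isInvertible_iff]
    refine fun y => ⟨⊤, trivial, shPb h𝔜 hVf ιV htop (shPb h h𝔜 b jV (f i)), ?_, nzdOn_restrictOpen h𝔜 hinv.2.1, ?_⟩
    · rw [← idealMap_comp h h𝔜 b hVf ιV K]
      exact pb_mem_map _ _ _ htop hinv.1
    · rw [← idealMap_comp h h𝔜 b hVf ιV K]
      exact map_le_relGen _ _ hinv.2.2 htop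
  have ek : φ ≫ k = ιV := (hb.2.2 _ hVf _ hιb hinvV).unique
    (by rw [Category.assoc, hk, eφ]) rfl
  have hkU : ⊤ ≤ (k ≫ b : FSch.Hom _ _).app 0 ⁻¹ᵁ U := by
    rw [show k ≫ b = q from hk]
    exact hqU
  refine ⟨k, φ, hkU, hbU, ek, hk.symm ▸ hq, fun a => ?_, fun a => ?_⟩
  · rw [shPb_congr h hZ hk hkU hqU a, hqa]
  · exact (shPb_toSpf hVf KB φZ hφ (ψ₀ a)).trans (hφa a)

/-- On a chart of an admissible formal blowing-up a non-zero-divisor of the base dividing a power of the ideal of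
definition stays a non-zero-divisor. -/
theorem nzdOn_chart {R : Type u} [CommRing R] {I : Ideal R} (p : 𝔛 ⟶ FSch.spf R I) (hp : FSch.IsAdicHom p)
    (hI : I.FG) {U : (𝔛.X 0).Opens} (hU : IsAffineOpen U) (K : IdealSh (𝔛.Osh h))
    (b : 𝔜 ⟶ 𝔛) (hb : IsAdmBlowUp b h𝔜 h K)
    {r : ℕ} (f : Fin r → OA 𝔛 h U) (hfK : ∀ j, f j ∈ K.sect U) (hKf : K ≤ relGen U f)
    {c : ℕ} (hpow : ∀ a ∈ I ^ (c + 1), rho h p U a ∈ Ideal.span (Set.range f))
    (i : Fin r) {V : (𝔜.X 0).Opens} (jV : V ≤ (b : FSch.Hom 𝔜 𝔛).app 0 ⁻¹ᵁ U)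
    (hinv : InvOn (idealMap b h𝔜 h K) V (shPb h h𝔜 b jV (f i)))
    {g : OA 𝔛 h U} (hg : ∀ a, g * a = 0 → a = 0) {c' : ℕ} (hg' : ∀ a ∈ I ^ (c' + 1), g ∣ rho h p U a) :
    NzdOn (O := 𝔜.Osh h𝔜) V (shPb h h𝔜 b jV g) := by
  obtain ⟨k, φ, e, e', ek, -, hka, -⟩ := exists_chart h h𝔜 p hp hI hU K b hb f hfK hKf hpow i jV hinv
  let KB : Ideal (chartRing f i) := I.map ((algebraMap (OA 𝔛 h U) (chartRing f i)).comp (rho h p U))
  let hZ := isFormal_spf (chartRing f i) KB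
  let hVf := isFormal_restrictOpen h𝔜 V
  intro W hWV t ht
  refine eq_zero_of_shPb_restrictOpenι h𝔜 V hWV ?_
  let ιV := 𝔜.restrictOpenι h𝔜 V
  let V' := (k : FSch.Hom _ _).app 0 ⁻¹ᵁ W
  have hj' : (ιV : FSch.Hom _ _).app 0 ⁻¹ᵁ W ≤ (φ : FSch.Hom _ _).app 0 ⁻¹ᵁ V' := by
    intro y hy
    show ((φ ≫ k : FSch.Hom _ _).app 0) y ∈ W
    rw [ek]
    exact hy
  have hcomp : ∀ s : OA 𝔜 h𝔜 W, shPb h𝔜 hVf ιV (le_refl ((ιV : FSch.Hom _ _).app 0 ⁻¹ᵁ W)) s =
      shPb hZ hVf φ hj' (shPb h𝔜 hZ k (le_refl V') s) := fun s => by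
    rw [← shPb_comp h𝔜 hZ k hVf φ (le_refl V') hj' (j'' := fun y hy => hj' hy) s]
    exact shPb_congr h𝔜 hVf ek.symm _ _ s
  have hjV' : V' ≤ (k ≫ b : FSch.Hom _ _).app 0 ⁻¹ᵁ U := fun y hy => jV (hWV hy)
  have hgk : shPb h𝔜 hZ k (le_refl V') (rs hWV (shPb h h𝔜 b jV g)) =
      rs (le_top : V' ≤ ⊤) (toSections _ KB (algebraMap (OA 𝔛 h U) (chartRing f i) g)) := by
    rw [show rs hWV (shPb h h𝔜 b jV g) = shPb h h𝔜 b (hWV.trans jV) g from pb_rs _ _ jV hWV g,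
      ← shPb_comp h h𝔜 b hZ k (hWV.trans jV) (le_refl V') hjV' g, ← hka]
    exact (pb_rs _ _ e (le_top : V' ≤ ⊤) g).symm
  have hg0 : NzdOn (O := (FSch.spf (chartRing f i) KB).Osh hZ) ⊤
      (toSections _ KB (algebraMap (OA 𝔛 h U) (chartRing f i) g)) := by
    refine nzdOn_spf KB (chartRing_nzd f i hg) (c := c') fun z hz => ?_
    rw [← Ideal.mem_span_singleton]
    refine (?_ : KB ^ (c' + 1) ≤ Ideal.span {algebraMap (OA 𝔛 h U) (chartRing f i) g}) hz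
    rw [← Ideal.map_pow, Ideal.map_le_iff_le_comap]
    exact fun x hx => Ideal.mem_span_singleton.2 (map_dvd (algebraMap (OA 𝔛 h U) (chartRing f i)) (hg' x hx))
  have h0 : shPb h𝔜 hZ k (le_refl V') t = 0 := by
    refine hg0 V' le_top _ ?_
    rw [← hgk, ← map_mul, ht, map_zero]
  rw [hcomp, h0, map_zero]

end Groth.Agent.FormBlow
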