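/-
The rings of sections over affine pieces of a formal system adic over a formal spectrum.
-/
import Groth.Agent.FormBlow.Chart
import Groth.Agent.TopFin.Basics
import Groth.Agent.TopFin.Fp
import Groth.Agent.TopFin.Sat

set_option autoImplicit false
set_option backward.isDefEq.respectTransparency false
set_option linter.style.haveILetI false

universe u

open CategoryTheory CategoryTheory.Limits AlgebraicGeometry TopologicalSpace Opposite FBlow
open Groth.Agent.FSchCoh (OA RA projR transR transR_projR OA_ext OA_lift projR_surjective)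

noncomputable section

namespace Groth.Agent.FormBlow

variable {R : Type u} [CommRing R] {I : Ideal R} {𝔛 : FSch.Sys.{u}} (h : 𝔛.IsFormal) (p : 𝔛 ⟶ FSch.spf R I)

/-- the sections as an algebra over the base -/
@[reducible] def secAlgebra (U : (𝔛.X 0).Opens) : Algebra R (OA 𝔛 h U) := (rho h p U).toAlgebra

variable (hp : FSch.IsAdicHom p) (hI : I.FG)
include hp hI

theorem isAdicComplete_sec {U : (𝔛.X 0).Opens} (hU : IsAffineOpen U) :
    IsAdicComplete (I.map (rho h p U)) (OA 𝔛 h U) := by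
  have hker := ker_projR_eq h p hp hI hU
  haveI : IsHausdorff (I.map (rho h p U)) (OA 𝔛 h U) := ⟨fun x hx => OA_ext 𝔛 h U fun n => by
    have h1 := SModEq.zero.1 (hx (n + 1))
    rw [smul_eq_mul, Ideal.mul_top, ← Ideal.map_pow, ← hker] at h1
    rw [RingHom.mem_ker.1 h1, map_zero]⟩
  haveI : IsPrecomplete (I.map (rho h p U)) (OA 𝔛 h U) := ⟨fun g hg => by
    obtain ⟨L, hL⟩ := OA_lift 𝔛 h U (fun n => projR 𝔛 h U n (g (n + 1))) fun n => by
      rw [transR_projR, ← sub_eq_zero, ← map_sub, ← RingHom.mem_ker, hker n]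
      have h1 := SModEq.sub_mem.1 (hg (show n + 1 ≤ n + 1 + 1 by omega))
      rw [smul_eq_mul, Ideal.mul_top, ← Ideal.map_pow] at h1
      rw [← neg_sub]
      exact (Ideal.neg_mem_iff _).2 h1
    refine ⟨L, fun n => ?_⟩
    rw [SModEq.sub_mem, smul_eq_mul, Ideal.mul_top, ← Ideal.map_pow]
    match n with
    | 0 => simp [Ideal.map_top]
    | n + 1 => rw [← hker, RingHom.mem_ker, map_sub, hL, sub_self]⟩
  exact ⟨⟩

theorem finitePresentation_level (hfp : ∀ n, LocallyOfFinitePresentation ((p : FSch.Hom 𝔛 (FSch.spf R I)).app n))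
    {U : (𝔛.X 0).Opens} (hU : IsAffineOpen U) (n : ℕ) :
    letI := secAlgebra h p U
    Algebra.FinitePresentation R (OA 𝔛 h U ⧸ (I ^ (n + 1)).map (algebraMap R (OA 𝔛 h U))) := by
  letI := secAlgebra h p U
  haveI := hfp n
  haveI : IsAffine ((FSch.spf R I).X n) := inferInstanceAs (IsAffine (Spec _))
  have h1 : (((p : FSch.Hom 𝔛 (FSch.spf R I)).app n).appLE ⊤ (𝔛.lvU h n U) (fun _ _ => trivial)).hom.FinitePresentation :=
    Scheme.Hom.finitePresentation_appLE _ (isAffineOpen_top _) (FSchAff.isAffineOpen_lvU 𝔛 h hU n) _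
  have h2 : (toLevel R I n).FinitePresentation := by
    refine RingHom.FinitePresentation.comp ?_ (RingHom.FinitePresentation.of_surjective _ Ideal.Quotient.mk_surjective
      (by rw [Ideal.mk_ker]; exact hI.pow (n := n + 1)))
    exact RingHom.FinitePresentation.of_bijective (ConcreteCategory.bijective_of_isIso
      (Scheme.ΓSpecIso (CommRingCat.of (R ⧸ I ^ (n + 1)))).inv)
  have e1 : (((p : FSch.Hom 𝔛 (FSch.spf R I)).app n).appLE ⊤ (𝔛.lvU h n U) (fun _ _ => trivial)).hom.comp
      (toLevel R I n) = (projR 𝔛 h U n).comp (rho h p U) := RingHom.ext fun r => (projR_rho h p U n r).symm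
  have h3 := h1.comp h2
  rw [e1] at h3
  let ψ : (OA 𝔛 h U ⧸ RingHom.ker (projR 𝔛 h U n)) ≃+* RA 𝔛 h U n :=
    RingHom.quotientKerEquivOfSurjective (projR_surjective 𝔛 h hU n)
  let ψ' : RA 𝔛 h U n ≃+* (OA 𝔛 h U ⧸ (I ^ (n + 1)).map (algebraMap R (OA 𝔛 h U))) :=
    ψ.symm.trans (Ideal.quotEquivOfEq (ker_projR_eq h p hp hI hU n))
  rw [← RingHom.finitePresentation_algebraMap]
  have e : algebraMap R (OA 𝔛 h U ⧸ (I ^ (n + 1)).map (algebraMap R (OA 𝔛 h U))) =
      ψ'.toRingHom.comp ((projR 𝔛 h U n).comp (rho h p U)) := RingHom.ext fun r => by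
    show Ideal.Quotient.mk _ (rho h p U r) = Ideal.quotEquivOfEq (ker_projR_eq h p hp hI hU n) (ψ.symm (projR 𝔛 h U n (rho h p U r)))
    rw [show ψ.symm (projR 𝔛 h U n (rho h p U r)) = Ideal.Quotient.mk _ (rho h p U r) from
      ψ.symm_apply_eq.2 rfl]
    rfl
  rw [e]
  exact (RingHom.FinitePresentation.of_bijective ψ'.bijective).comp h3

theorem topFiniteType_sec (hfp : ∀ n, LocallyOfFinitePresentation ((p : FSch.Hom 𝔛 (FSch.spf R I)).app n))
    {U : (𝔛.X 0).Opens} (hU : IsAffineOpen U) :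
    letI := secAlgebra h p U
    AdicRing.TopFiniteType R I (OA 𝔛 h U) := by
  letI := secAlgebra h p U
  haveI : IsAdicComplete (I.map (algebraMap R (OA 𝔛 h U))) (OA 𝔛 h U) := isAdicComplete_sec h p hp hI hU
  have h0 := finitePresentation_level h p hp hI hfp hU 0
  rw [zero_add, pow_one] at h0
  exact TopFin.topFiniteType_of_finiteType hI inferInstance

omit hI in
theorem noPowTorsion_sec (hI : I.FG)
    (htf : ∀ (U : (𝔛.X 0).Opens) (s : OA 𝔛 h U),
      (∀ a ∈ (FBlow.IdealSh.ker (𝔛.OshProj h 0)).sect U, a * s = 0) → s = 0)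
    {U : (𝔛.X 0).Opens} (hU : IsAffineOpen U) :
    letI := secAlgebra h p U
    AdicRing.NoPowTorsion I (OA 𝔛 h U) := by
  letI := secAlgebra h p U
  intro x n
  induction n generalizing x with
  | zero => intro hx; simpa using hx 1 (by simp)
  | succ n ih =>
    intro hx
    refine ih x fun r hr => htf U _ fun a ha => ?_
    have ha' : a ∈ RingHom.ker (projR 𝔛 h U 0) := ha
    rw [ker_projR_eq h p hp hI hU 0, zero_add, pow_one] at ha'
    refine Submodule.span_induction (fun _ hy => ?_) (zero_mul _) (fun _ _ _ _ hy hz => by rw [add_mul, hy, hz, add_zero])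
      (fun c _ _ hy => by rw [smul_eq_mul, mul_assoc, hy, mul_zero]) ha'
    obtain ⟨s, hs, rfl⟩ := hy
    show rho h p U s * (rho h p U r * x) = 0
    rw [← mul_assoc, ← map_mul, mul_comm s r]
    exact hx _ (pow_succ I n ▸ Ideal.mul_mem_mul hr hs)

end Groth.Agent.FormBlow
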