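/-
Morphisms of formal systems restricted to opens; local generators of invertible inverse images.
-/
import Groth.Agent.FormBlow.Chart

set_option autoImplicit false
set_option backward.isDefEq.respectTransparency false
set_option linter.style.haveILetI false

universe u

open CategoryTheory CategoryTheory.Limits AlgebraicGeometry TopologicalSpace Opposite FBlow
open Groth.Agent.FSchCoh (OA RA projR transR transR_projR OA_ext OA_lift projR_surjective transR_surjective)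

noncomputable section

namespace Groth.Agent.FormBlow

variable {𝔛 𝔜 : FSch.Sys.{u}} (h : 𝔛.IsFormal) (h𝔜 : 𝔜.IsFormal)

/-- A morphism of formal systems between opens. -/
def restrictLE (f : 𝔜 ⟶ 𝔛) {V : (𝔛.X 0).Opens} {Ω : (𝔜.X 0).Opens}
    (e : Ω ≤ (f : FSch.Hom 𝔜 𝔛).app 0 ⁻¹ᵁ V) : 𝔜.restrictOpen h𝔜 Ω ⟶ 𝔛.restrictOpen h V :=
  ⟨fun n => ((f : FSch.Hom 𝔜 𝔛).app n).resLE (𝔛.lvU h n V) (𝔜.lvU h𝔜 n Ω) (lvU_le_preimage h h𝔜 f e n),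
   fun n => by
    have e₃ : 𝔜.lvU h𝔜 n Ω ≤ ((f : FSch.Hom 𝔜 𝔛).app n ≫ 𝔛.ι n) ⁻¹ᵁ (𝔛.lvU h (n + 1) V) :=
      (lvU_le_preimage h h𝔜 f e n).trans (Scheme.Hom.preimage_mono _ (𝔛.lvU_le h n V))
    exact (FSch.resLE_comp_resLE_of_eq _ _ _ rfl _ _ _ _ _ e₃).trans
      (FSch.resLE_comp_resLE_of_eq _ _ _ ((f : FSch.Hom 𝔜 𝔛).comm n).symm _ _ _ _ _ e₃).symm⟩

theorem restrictLE_ι (f : 𝔜 ⟶ 𝔛) {V : (𝔛.X 0).Opens} {Ω : (𝔜.X 0).Opens}
    (e : Ω ≤ (f : FSch.Hom 𝔜 𝔛).app 0 ⁻¹ᵁ V) :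
    restrictLE h h𝔜 f e ≫ 𝔛.restrictOpenι h V = 𝔜.restrictOpenι h𝔜 Ω ≫ f :=
  FSch.Hom.ext (funext fun _ => Scheme.Hom.resLE_comp_ι _ _)

/-- Near a point where an inverse image is invertible one member of a generating family generates. -/
theorem exists_generator_nhd {K : IdealSh (𝔛.Osh h)} {U : (𝔛.X 0).Opens} {r : ℕ} (f : Fin r → OA 𝔛 h U)
    (hf : ∀ l, f l ∈ K.sect U) (hKf : K ≤ relGen U f) (b : 𝔜 ⟶ 𝔛) (hb : (idealMap b h𝔜 h K).IsInvertible)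
    {x : 𝔜.X 0} (hx : (b : FSch.Hom 𝔜 𝔛).app 0 x ∈ U) :
    ∃ (V : (𝔜.X 0).Opens) (j : V ≤ (b : FSch.Hom 𝔜 𝔛).app 0 ⁻¹ᵁ U) (i : Fin r),
      x ∈ V ∧ InvOn (idealMap b h𝔜 h K) V (shPb h h𝔜 b j (f i)) := by
  obtain ⟨V₀, hxV₀, k, hk⟩ := isInvertible_iff.1 hb x
  have hgen := map_le_relGen (g := ((b : FSch.Hom 𝔜 𝔛).app 0).base) (φ := FSch.Hom.sharp b h𝔜 h)
    hKf (le_refl ((b : FSch.Hom 𝔜 𝔛).app 0 ⁻¹ᵁ U))
  obtain ⟨W, iW, jW, hxW, hW⟩ := hgen V₀ hk.1 x ⟨hxV₀, hx⟩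
  obtain ⟨e, he⟩ := Ideal.mem_span_range_iff_exists_fun.1 hW
  have hk' := hk.res iW
  have hfmem : ∀ l, shPb h h𝔜 b jW (f l) ∈ (idealMap b h𝔜 h K).sect W :=
    fun l => pb_mem_map _ _ _ jW (hf l)
  choose d hd using fun l => hk'.exists_eq le_rfl (hfmem l)
  have hsum : ∑ l, e l * d l = 1 := by
    refine hk'.2.1.cancel le_rfl ?_
    rw [Finset.sum_mul, one_mul, rs_self]
    refine Eq.trans (Finset.sum_congr rfl fun l _ => ?_) he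
    rw [mul_assoc]
    congr 1
    refine Eq.trans ?_ (pb_rs _ _ (le_refl _) jW (f l)).symm
    exact ((hd l).trans (by rw [rs_self])).symm
  obtain ⟨V, iV, i, hxV, hu⟩ := hasLocalUnits h𝔜 W r (fun l => e l * d l) hsum x hxW
  rw [map_mul] at hu
  obtain ⟨w, hw⟩ := isUnit_of_mul_isUnit_right hu
  have hjV : V ≤ (b : FSch.Hom 𝔜 𝔛).app 0 ⁻¹ᵁ U := iV.trans jW
  have hkV := hk'.res iV
  have hfi : shPb h h𝔜 b hjV (f i) = w.val * rs iV (rs iW k) := by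
    rw [show shPb h h𝔜 b hjV (f i) = rs iV (shPb h h𝔜 b jW (f i)) from (pb_rs _ _ jW iV (f i)).symm,
      hd i, map_mul, hw, rs_self]
  refine ⟨V, hjV, i, hxV, pb_mem_map _ _ _ hjV (hf i), fun V' l t ht => ?_, fun V' s hs => ?_⟩
  · rw [hfi, map_mul, ← mul_assoc] at ht
    have := hkV.2.1 V' l _ ht
    rwa [(w.isUnit.map (rs l)).mul_left_eq_zero] at this
  · refine relGen_le_of_mem (le_refl V) (fun _ => ?_) V' (hkV.2.2 V' hs)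
    rw [rs_self, show rs iV (rs iW k) = ↑w⁻¹ * shPb h h𝔜 b hjV (f i) by rw [hfi, Units.inv_mul_cancel_left]]
    exact Ideal.mul_mem_left _ _ (mem_relGen_self (fun _ : Unit => shPb h h𝔜 b hjV (f i)) ())

end Groth.Agent.FormBlow
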