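/-
Non-zero-divisors transported along a factorisation of an open inclusion.
-/
import Groth.Agent.FormBlow.Restrict

set_option autoImplicit false
set_option backward.isDefEq.respectTransparency false
set_option linter.style.haveILetI false

universe u

open CategoryTheory CategoryTheory.Limits AlgebraicGeometry TopologicalSpace Opposite FBlow
open Groth.Agent.FSchCoh (OA RA projR)

noncomputable section

namespace Groth.Agent.FormBlow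

variable {𝔛 ℨ : FSch.Sys.{u}} (h : 𝔛.IsFormal) (hℨ : ℨ.IsFormal)

/-- If the inclusion of an open factors through a system on which a section is regular, the section is regular. -/
theorem nzdOn_of_factor {Ω : (𝔛.X 0).Opens} (ℓ : ℨ ⟶ 𝔛) (Φ : 𝔛.restrictOpen h Ω ⟶ ℨ)
    (e : Φ ≫ ℓ = 𝔛.restrictOpenι h Ω) {g : OA 𝔛 h Ω}
    (hg : NzdOn (O := ℨ.Osh hℨ) ((ℓ : FSch.Hom ℨ 𝔛).app 0 ⁻¹ᵁ Ω)
      (shPb h hℨ ℓ (le_refl ((ℓ : FSch.Hom ℨ 𝔛).app 0 ⁻¹ᵁ Ω)) g)) :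
    NzdOn (O := 𝔛.Osh h) Ω g := by
  intro W hW t ht
  refine eq_zero_of_shPb_restrictOpenι h Ω hW ?_
  have hWl : (ℓ : FSch.Hom ℨ 𝔛).app 0 ⁻¹ᵁ W ≤ (ℓ : FSch.Hom ℨ 𝔛).app 0 ⁻¹ᵁ Ω := fun y hy => hW hy
  have hj : (𝔛.restrictOpenι h Ω : FSch.Hom _ _).app 0 ⁻¹ᵁ W ≤
      (Φ : FSch.Hom _ _).app 0 ⁻¹ᵁ ((ℓ : FSch.Hom ℨ 𝔛).app 0 ⁻¹ᵁ W) := by
    intro y hy
    show ((Φ ≫ ℓ : FSch.Hom _ _).app 0) y ∈ W
    rw [e]
    exact hy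
  have h0 : shPb h hℨ ℓ (le_refl ((ℓ : FSch.Hom ℨ 𝔛).app 0 ⁻¹ᵁ W)) t = 0 := by
    refine hg _ hWl _ ?_
    have h1 := congrArg (shPb h hℨ ℓ (le_refl ((ℓ : FSch.Hom ℨ 𝔛).app 0 ⁻¹ᵁ W))) ht
    rw [map_mul, map_zero] at h1
    rw [show rs hWl (shPb h hℨ ℓ (le_refl _) g) =
      shPb h hℨ ℓ (le_refl ((ℓ : FSch.Hom ℨ 𝔛).app 0 ⁻¹ᵁ W)) (rs hW g) from
      (pb_rs _ _ _ hWl g).trans (rs_pb _ _ hW (le_refl ((ℓ : FSch.Hom ℨ 𝔛).app 0 ⁻¹ᵁ W)) g).symm]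
    exact h1
  rw [shPb_congr h (isFormal_restrictOpen h Ω) e.symm _ (fun y hy => hj hy) t,
    shPb_comp h hℨ ℓ (isFormal_restrictOpen h Ω) Φ (le_refl ((ℓ : FSch.Hom ℨ 𝔛).app 0 ⁻¹ᵁ W)) hj, h0, map_zero]

end Groth.Agent.FormBlow
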