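/-
Ideals of formal systems induced from ideals of affine schemes.
-/
import Groth.Agent.FormBlow.Retract
import Groth.Agent.FittLib.Comap

set_option autoImplicit false
set_option backward.isDefEq.respectTransparency false
set_option linter.style.haveILetI false

universe u

open CategoryTheory CategoryTheory.Limits AlgebraicGeometry TopologicalSpace Opposite FBlow
open Groth.Agent.FSchCoh (OA RA projR transR transR_projR OA_ext OA_lift projR_surjective)

noncomputable section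

namespace Groth.Agent.FormBlow

variable {𝔛 : FSch.Sys.{u}} (h : 𝔛.IsFormal)

section General

variable {Y : Scheme.{u}} (p : ∀ n, 𝔛.X n ⟶ Y) (hp : ∀ n, 𝔛.ι n ≫ p (n + 1) = p n)

/-- pulling back a section of a scheme to a formal system over it -/
abbrev scPb {W : Y.Opens} {V : (𝔛.X 0).Opens} (j : V ≤ p 0 ⁻¹ᵁ W) : Γ(Y, W) →+* OA 𝔛 h V :=
  pb (p 0).base (FSch.schSharp 𝔛 h p hp) j

include hp in
theorem lvU_le_scPreimage {W : Y.Opens} {V : (𝔛.X 0).Opens} (j : V ≤ p 0 ⁻¹ᵁ W) (n : ℕ) :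
    𝔛.lvU h n V ≤ p n ⁻¹ᵁ W :=
  (lvU_mono h j n).trans (FSch.lvU_p 𝔛 h p hp n W).ge

theorem projR_scPb {W : Y.Opens} {V : (𝔛.X 0).Opens} (j : V ≤ p 0 ⁻¹ᵁ W) (n : ℕ) (a : Γ(Y, W)) :
    projR 𝔛 h V n (scPb h p hp j a) = (p n).appLE W (𝔛.lvU h n V) (lvU_le_scPreimage h p hp j n) a := by
  refine (projR_rs h j n _).trans ?_
  have e := congr(($(FSch.schSharp_proj 𝔛 h p hp n)).hom.app (op W) a)
  refine (congrArg ((𝔛.X n).presheaf.map (homOfLE (lvU_mono h j n)).op).hom e).trans ?_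
  rw [FSch.schLevel_app]
  show ((p n).appLE W _ _ ≫ (𝔛.X n).presheaf.map (homOfLE (lvU_mono h j n)).op) a = _
  rw [Scheme.Hom.appLE_map]

end General

section Affine

variable {A : Type u} [CommRing A] (p : ∀ n, 𝔛.X n ⟶ Spec (CommRingCat.of A))
  (hp : ∀ n, 𝔛.ι n ≫ p (n + 1) = p n)

/-- a global function on `Spec A` as a section of a formal system over it -/
def schFun : A →+* OA 𝔛 h ⊤ :=
  (scPb h p hp (W := ⊤) (V := ⊤) (fun _ hx => hx)).comp (Scheme.ΓSpecIso (CommRingCat.of A)).inv.hom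

variable {ι : Type*} (f : ι → A) (𝔞 : Ideal A) (h𝔞 : 𝔞 = Ideal.span (Set.range f))

omit p hp in
include h𝔞 in
theorem mem_ofData_idealSpec (k : ι) :
    (Scheme.ΓSpecIso (CommRingCat.of A)).inv.hom (f k) ∈ (IdealSh.ofData (FSch.idealSpec A 𝔞)).sect ⊤ := by
  refine fun x _ => ⟨⟨⊤, isAffineOpen_top _⟩, le_rfl, trivial, ?_⟩
  rw [FittLib.idealSpec_ideal_top, Ideal.mem_comap]
  show (Scheme.ΓSpecIso (CommRingCat.of A)).hom.hom
    ((Spec (CommRingCat.of A)).presheaf.map (homOfLE (le_refl ⊤)).op _) ∈ 𝔞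
  rw [show (Spec (CommRingCat.of A)).presheaf.map (homOfLE (le_refl (⊤ : (Spec (CommRingCat.of A)).Opens))).op
    ((Scheme.ΓSpecIso (CommRingCat.of A)).inv.hom (f k)) = (Scheme.ΓSpecIso (CommRingCat.of A)).inv.hom (f k) from
    IdealSh.map_id_apply (O := (Spec (CommRingCat.of A)).sheaf) _ _]
  rw [show (Scheme.ΓSpecIso (CommRingCat.of A)).hom.hom ((Scheme.ΓSpecIso (CommRingCat.of A)).inv.hom (f k)) = f k from
    (Scheme.ΓSpecIso (CommRingCat.of A)).inv_hom_id_apply (f k), h𝔞]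
  exact Ideal.subset_span ⟨k, rfl⟩

omit p hp in
include h𝔞 in
theorem ofData_idealSpec_le_relGen : IdealSh.ofData (FSch.idealSpec A 𝔞) ≤
    relGen (O := (Spec (CommRingCat.of A)).sheaf) ⊤ fun k => (Scheme.ΓSpecIso (CommRingCat.of A)).inv.hom (f k) := by
  intro V s hs x hx
  obtain ⟨D, hD, hxD, hmem⟩ := hs x hx.1
  refine ⟨D.1, hD, le_top, hxD, ?_⟩
  rw [← (FSch.idealSpec A 𝔞).map_ideal (U := D) (V := ⟨⊤, isAffineOpen_top _⟩) (show D.1 ≤ ⊤ from le_top),
    FittLib.idealSpec_ideal_top] at hmem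
  have hc : 𝔞.comap (Scheme.ΓSpecIso (CommRingCat.of A)).hom.hom =
      Ideal.span (Set.range fun k => (Scheme.ΓSpecIso (CommRingCat.of A)).inv.hom (f k)) := by
    refine le_antisymm (fun z hz => ?_) (Ideal.span_le.2 ?_)
    · rw [show z = (Scheme.ΓSpecIso (CommRingCat.of A)).inv.hom ((Scheme.ΓSpecIso (CommRingCat.of A)).hom.hom z) from
        ((Scheme.ΓSpecIso (CommRingCat.of A)).hom_inv_id_apply z).symm, Set.range_comp', ← Ideal.map_span]
      exact Ideal.mem_map_of_mem _ (h𝔞 ▸ hz)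
    · rintro _ ⟨k, rfl⟩
      show (Scheme.ΓSpecIso (CommRingCat.of A)).hom.hom _ ∈ 𝔞
      rw [show (Scheme.ΓSpecIso (CommRingCat.of A)).hom.hom ((Scheme.ΓSpecIso (CommRingCat.of A)).inv.hom (f k)) = f k
        from (Scheme.ΓSpecIso (CommRingCat.of A)).inv_hom_id_apply (f k), h𝔞]
      exact Ideal.subset_span ⟨k, rfl⟩
  rw [hc, Ideal.map_span, ← Set.range_comp] at hmem
  exact hmem

include h𝔞 in
theorem schFun_mem_schIdealMap (k : ι) :
    schFun h p hp (f k) ∈ (schIdealMap 𝔛 h p hp (IdealSh.ofData (FSch.idealSpec A 𝔞))).sect ⊤ :=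
  pb_mem_map _ _ _ _ (mem_ofData_idealSpec f 𝔞 h𝔞 k)

include h𝔞 in
theorem schIdealMap_le_relGen :
    schIdealMap 𝔛 h p hp (IdealSh.ofData (FSch.idealSpec A 𝔞)) ≤ relGen ⊤ fun k => schFun h p hp (f k) :=
  map_le_relGen _ _ (ofData_idealSpec_le_relGen f 𝔞 h𝔞) (V := ⊤) (fun _ hx => hx)

end Affine

/-- On a formal spectrum a function is its own image. -/
theorem schFun_spf (A : Type u) [CommRing A] (K : Ideal A) (hX : (FSch.spf A K).IsFormal) (a : A) :
    schFun hX (FSch.spfToSpec A K) (FSch.spfToSpec_comm A K) a = toSections A K a := by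
  refine OA_ext _ _ _ fun n => ?_
  rw [projR_toSections, schFun, RingHom.comp_apply, projR_scPb]
  show (Spec.map (CommRingCat.ofHom (Ideal.Quotient.mk (K ^ (n + 1))))).appLE ⊤ ⊤ _
    ((Scheme.ΓSpecIso (CommRingCat.of A)).inv a) = _
  rw [appLE_top_top]
  exact (congr($(Scheme.ΓSpecIso_inv_naturality (CommRingCat.ofHom (Ideal.Quotient.mk (K ^ (n + 1))))) a)).symm

end Groth.Agent.FormBlow
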