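/-
Lifting a formal system over an affine scheme to a scheme over it, from unique lifts of spectra of sections.
-/
import Groth.Agent.FormBlow.SchIdeal

set_option autoImplicit false
set_option backward.isDefEq.respectTransparency false
set_option linter.style.haveILetI false

universe u

open CategoryTheory CategoryTheory.Limits AlgebraicGeometry TopologicalSpace Opposite FBlow
open Groth.Agent.FSchCoh (OA RA projR transR transR_projR OA_ext OA_lift projR_surjective)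

noncomputable section

namespace Groth.Agent.FormBlow

theorem exists_glue {X P : Scheme.{u}} {ι : Type u} (W : ι → X.Opens) (hW : ∀ x, ∃ i, x ∈ W i)
    (f : ∀ i, (W i : Scheme.{u}) ⟶ P)
    (hf : ∀ i j, X.homOfLE (inf_le_left : W i ⊓ W j ≤ W i) ≫ f i = X.homOfLE (inf_le_right : W i ⊓ W j ≤ W j) ≫ f j) :
    ∃ g : X ⟶ P, ∀ i, (W i).ι ≫ g = f i := by
  let 𝒰 := X.openCoverOfIsOpenCover W (IsOpenCover.mk (eq_top_iff.2 fun x _ => Opens.mem_iSup.2 (hW x)))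
  refine ⟨𝒰.glueMorphisms f fun i j => ?_, fun i => 𝒰.ι_glueMorphisms f _ i⟩
  refine (cancel_epi (isPullback_opens_inf (W i) (W j)).isoPullback.hom).1 ?_
  exact ((IsPullback.isoPullback_hom_fst_assoc _ _).trans (hf i j)).trans (IsPullback.isoPullback_hom_snd_assoc _ _).symm

variable {𝔜 : FSch.Sys.{u}} (hY : 𝔜.IsFormal) {A : Type u} [CommRing A] (t : ∀ n, 𝔜.X n ⟶ Spec (CommRingCat.of A))
  (ht : ∀ n, 𝔜.ι n ≫ t (n + 1) = t n) {P : Scheme.{u}} (q : P ⟶ Spec (CommRingCat.of A))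

/-- the ring map into the sections over an open -/
abbrev secFun (V : (𝔜.X 0).Opens) : A →+* OA 𝔜 hY V :=
  (rs (O := 𝔜.Osh hY) (le_top : V ≤ ⊤)).comp (schFun hY t ht)

theorem projR_secFun (V : (𝔜.X 0).Opens) (n : ℕ) (a : A) :
    projR 𝔜 hY V n (secFun hY t ht V a) =
      (t n).appLE ⊤ (𝔜.lvU hY n V) (fun _ _ => trivial) ((Scheme.ΓSpecIso (CommRingCat.of A)).inv a) := by
  show projR 𝔜 hY V n (rs (le_top : V ≤ ⊤) (scPb hY t ht (W := ⊤) (V := ⊤) (fun _ hx => hx) _)) = _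
  rw [show rs (le_top : V ≤ ⊤) (scPb hY t ht (W := ⊤) (V := ⊤) (fun _ hx => hx)
      ((Scheme.ΓSpecIso (CommRingCat.of A)).inv.hom a)) = scPb hY t ht (W := ⊤) (V := V) (fun _ _ => trivial)
      ((Scheme.ΓSpecIso (CommRingCat.of A)).inv.hom a) from pb_rs _ _ _ _ _, projR_scPb]

/-- the level over an open maps to the spectrum of the sections -/
def toSpecSec (n : ℕ) (V : (𝔜.X 0).Opens) : (𝔜.lvU hY n V : Scheme.{u}) ⟶ Spec (OA 𝔜 hY V) :=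
  (𝔜.lvU hY n V).toSpecΓ ≫ Spec.map (CommRingCat.ofHom (projR 𝔜 hY V n))

theorem toSpecSec_secFun (n : ℕ) (V : (𝔜.X 0).Opens) :
    toSpecSec hY n V ≫ Spec.map (CommRingCat.ofHom (secFun hY t ht V)) = (𝔜.lvU hY n V).ι ≫ t n := by
  have h1 := Scheme.Opens.toSpecΓ_SpecMap_appLE (t n) ⊤ (𝔜.lvU hY n V) (fun _ _ => trivial)
  have h2 := congrArg (fun a => a ≫ (isAffineOpen_top (Spec (CommRingCat.of A))).fromSpec) h1
  simp only [Category.assoc, IsAffineOpen.toSpecΓ_fromSpec, Scheme.Hom.resLE_comp_ι] at h2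
  rw [← h2, toSpecSec, Category.assoc, IsAffineOpen.fromSpec_top, Scheme.isoSpec_Spec_inv, ← Spec.map_comp,
    ← Spec.map_comp]
  refine congrArg (fun φ => (𝔜.lvU hY n V).toSpecΓ ≫ Spec.map φ) (CommRingCat.hom_ext (RingHom.ext fun a => ?_))
  exact projR_secFun hY t ht V n a

theorem homOfLE_toSpecSec (n : ℕ) {V V' : (𝔜.X 0).Opens} (e : V' ≤ V) :
    (𝔜.X n).homOfLE (lvU_mono hY e n) ≫ toSpecSec hY n V =
      toSpecSec hY n V' ≫ Spec.map (CommRingCat.ofHom (rs (O := 𝔜.Osh hY) e)) := by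
  rw [toSpecSec, toSpecSec, ← Category.assoc, ← Scheme.Opens.toSpecΓ_SpecMap_presheaf_map _ _ (lvU_mono hY e n),
    Category.assoc, Category.assoc, ← Spec.map_comp, ← Spec.map_comp]
  refine congrArg (fun φ => (𝔜.lvU hY n V').toSpecΓ ≫ Spec.map φ) (CommRingCat.hom_ext (RingHom.ext fun a => ?_))
  exact (projR_rs hY e n a).symm

theorem resLE_toSpecSec (n : ℕ) (V : (𝔜.X 0).Opens) :
    (𝔜.ι n).resLE (𝔜.lvU hY (n + 1) V) (𝔜.lvU hY n V) (𝔜.lvU_le hY n V) ≫ toSpecSec hY (n + 1) V =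
      toSpecSec hY n V := by
  rw [toSpecSec, toSpecSec, ← Category.assoc,
    ← Scheme.Opens.toSpecΓ_SpecMap_appLE (𝔜.ι n) _ _ (𝔜.lvU_le hY n V), Category.assoc, ← Spec.map_comp]
  refine congrArg (fun φ => (𝔜.lvU hY n V).toSpecΓ ≫ Spec.map φ) (CommRingCat.hom_ext (RingHom.ext fun a => ?_))
  exact transR_projR 𝔜 hY V n a

theorem secFun_rs {V V' : (𝔜.X 0).Opens} (e : V' ≤ V) :
    CommRingCat.ofHom (secFun hY t ht V) ≫ CommRingCat.ofHom (rs (O := 𝔜.Osh hY) e) =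
      CommRingCat.ofHom (secFun hY t ht V') :=
  CommRingCat.hom_ext (RingHom.ext fun _ => rs_rs _ e _)

/-- An open with a unique lift of the spectrum of its sections. -/
def IsGood (V : (𝔜.X 0).Opens) : Prop :=
  IsAffineOpen V ∧ ∃! l : Spec (OA 𝔜 hY V) ⟶ P, l ≫ q = Spec.map (CommRingCat.ofHom (secFun hY t ht V))

variable {hY t ht q}

theorem good_res {V V' : (𝔜.X 0).Opens} (hV' : IsGood hY t ht q V') (e : V' ≤ V)
    {l : Spec (OA 𝔜 hY V) ⟶ P} (hl : l ≫ q = Spec.map (CommRingCat.ofHom (secFun hY t ht V)))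
    {l' : Spec (OA 𝔜 hY V') ⟶ P} (hl' : l' ≫ q = Spec.map (CommRingCat.ofHom (secFun hY t ht V'))) (n : ℕ) :
    (𝔜.X n).homOfLE (lvU_mono hY e n) ≫ toSpecSec hY n V ≫ l = toSpecSec hY n V' ≫ l' := by
  rw [← Category.assoc, homOfLE_toSpecSec hY n e, Category.assoc]
  congr 1
  refine hV'.2.unique ?_ hl'
  rw [Category.assoc, hl, ← Spec.map_comp, secFun_rs hY t ht e]

/-- A compatible family of lifts is the canonical one near a point mapped into an affine open. -/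
theorem eq_of_lift {V : (𝔜.X 0).Opens} (hV : IsGood hY t ht q V)
    {l : Spec (OA 𝔜 hY V) ⟶ P} (hl : l ≫ q = Spec.map (CommRingCat.ofHom (secFun hY t ht V)))
    (r : ∀ n, 𝔜.X n ⟶ P) (hr : ∀ n, 𝔜.ι n ≫ r (n + 1) = r n) (hrq : ∀ n, r n ≫ q = t n)
    {D : P.Opens} (hD : IsAffineOpen D) (hVD : V ≤ r 0 ⁻¹ᵁ D) (n : ℕ) :
    (𝔜.lvU hY n V).ι ≫ r n = toSpecSec hY n V ≫ l := by
  have e := fun n => lvU_le_scPreimage hY r hr hVD n
  let ψ : Γ(P, D) →+* OA 𝔜 hY V := scPb hY r hr hVD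
  have hn : ∀ n, (𝔜.lvU hY n V).ι ≫ r n = toSpecSec hY n V ≫ Spec.map (CommRingCat.ofHom ψ) ≫ hD.fromSpec := by
    intro n
    have h1 := Scheme.Opens.toSpecΓ_SpecMap_appLE (r n) D (𝔜.lvU hY n V) (e n)
    have h2 := congrArg (fun a => a ≫ hD.fromSpec) h1
    simp only [Category.assoc, IsAffineOpen.toSpecΓ_fromSpec, Scheme.Hom.resLE_comp_ι] at h2
    rw [← h2, toSpecSec, Category.assoc, ← Spec.map_comp_assoc]
    refine congrArg (fun φ => (𝔜.lvU hY n V).toSpecΓ ≫ Spec.map φ ≫ hD.fromSpec)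
      (CommRingCat.hom_ext (RingHom.ext fun a => ?_))
    exact (projR_scPb hY r hr hVD n a).symm
  rw [hn n]
  congr 1
  refine hV.2.unique ?_ hl
  have hDle : D ≤ q ⁻¹ᵁ ⊤ := fun _ _ => trivial
  rw [Category.assoc, ← IsAffineOpen.SpecMap_appLE_fromSpec q (isAffineOpen_top _) hD hDle,
    IsAffineOpen.fromSpec_top, Scheme.isoSpec_Spec_inv, ← Spec.map_comp, ← Spec.map_comp]
  refine congrArg Spec.map (CommRingCat.hom_ext (RingHom.ext fun a => ?_))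
  refine OA_ext 𝔜 hY V fun m => ?_
  rw [show projR 𝔜 hY V m ((CommRingCat.ofHom (secFun hY t ht V)).hom a) = _ from projR_secFun hY t ht V m a]
  show projR 𝔜 hY V m (scPb hY r hr hVD ((q.appLE ⊤ D hDle) ((Scheme.ΓSpecIso (CommRingCat.of A)).inv a))) = _
  rw [projR_scPb]
  have h3 := Scheme.Hom.appLE_comp_appLE (r m) q ⊤ D (𝔜.lvU hY m V) hDle (e m)
  have h4 : ∀ (s : 𝔜.X m ⟶ Spec (CommRingCat.of A)) (hs : s = t m) (e' : 𝔜.lvU hY m V ≤ s ⁻¹ᵁ ⊤),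
      s.appLE ⊤ (𝔜.lvU hY m V) e' = (t m).appLE ⊤ (𝔜.lvU hY m V) (fun _ _ => trivial) := by
    rintro s rfl e'
    rfl
  rw [h4 _ (hrq m) _] at h3
  exact congr($h3 ((Scheme.ΓSpecIso (CommRingCat.of A)).inv a))

theorem exists_good_nhd (hgood : ∀ (x : 𝔜.X 0) (O : (𝔜.X 0).Opens), x ∈ O → ∃ V ≤ O, x ∈ V ∧ IsGood hY t ht q V)
    (n : ℕ) (y : 𝔜.X n) (O : (𝔜.X 0).Opens) (hy : y ∈ 𝔜.lvU hY n O) :
    ∃ V ≤ O, y ∈ 𝔜.lvU hY n V ∧ IsGood hY t ht q V := by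
  obtain ⟨V, hVO, hxV, hV⟩ := hgood (𝔜.gInv hY n y) O hy
  exact ⟨V, hVO, hxV, hV⟩

/-- Lifts exist and are unique. -/
theorem existsUnique_lift (hgood : ∀ (x : 𝔜.X 0) (O : (𝔜.X 0).Opens), x ∈ O → ∃ V ≤ O, x ∈ V ∧ IsGood hY t ht q V) :
    (∃ r : ∀ n, 𝔜.X n ⟶ P, (∀ n, 𝔜.ι n ≫ r (n + 1) = r n) ∧ ∀ n, r n ≫ q = t n) ∧
      ∀ r r' : ∀ n, 𝔜.X n ⟶ P, (∀ n, 𝔜.ι n ≫ r (n + 1) = r n) → (∀ n, r n ≫ q = t n) →
        (∀ n, 𝔜.ι n ≫ r' (n + 1) = r' n) → (∀ n, r' n ≫ q = t n) → r = r' := by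
  constructor
  · let Good := {V : (𝔜.X 0).Opens // IsGood hY t ht q V}
    choose l hl using fun V : Good => V.2.2.exists
    have hcov : ∀ n (y : 𝔜.X n), ∃ V : Good, y ∈ 𝔜.lvU hY n V.1 := fun n y => by
      obtain ⟨V, -, hy, hV⟩ := exists_good_nhd hgood n y ⊤ trivial
      exact ⟨⟨V, hV⟩, hy⟩
    have hglue : ∀ n, ∃ r : 𝔜.X n ⟶ P, ∀ V : Good, (𝔜.lvU hY n V.1).ι ≫ r = toSpecSec hY n V.1 ≫ l V := by
      intro n
      refine exists_glue (fun V : Good => 𝔜.lvU hY n V.1) (hcov n) (fun V : Good => toSpecSec hY n V.1 ≫ l V)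
        fun V₁ V₂ => ?_
      refine Scheme.Cover.hom_ext (Scheme.openCoverOfIsOpenCover ((𝔜.lvU hY n V₁.1 ⊓ 𝔜.lvU hY n V₂.1 : (𝔜.X n).Opens) : Scheme.{u})
        (fun W : {W : Good // W.1 ≤ V₁.1 ⊓ V₂.1} => (𝔜.lvU hY n V₁.1 ⊓ 𝔜.lvU hY n V₂.1).ι ⁻¹ᵁ 𝔜.lvU hY n W.1.1)
        (IsOpenCover.mk (eq_top_iff.2 fun z _ => ?_))) _ _ fun W => ?_
      · obtain ⟨V, hVle, hzV, hV⟩ := exists_good_nhd hgood n
          ((𝔜.lvU hY n V₁.1 ⊓ 𝔜.lvU hY n V₂.1).ι z) (V₁.1 ⊓ V₂.1) ⟨z.2.1, z.2.2⟩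
        exact Opens.mem_iSup.2 ⟨⟨⟨V, hV⟩, hVle⟩, hzV⟩
      · have hk : ((𝔜.lvU hY n V₁.1 ⊓ 𝔜.lvU hY n V₂.1).ι ⁻¹ᵁ 𝔜.lvU hY n W.1.1).ι ≫
            (𝔜.lvU hY n V₁.1 ⊓ 𝔜.lvU hY n V₂.1).ι =
            ((𝔜.lvU hY n V₁.1 ⊓ 𝔜.lvU hY n V₂.1).ι ∣_ 𝔜.lvU hY n W.1.1) ≫ (𝔜.lvU hY n W.1.1).ι :=
          (morphismRestrict_ι _ _).symm
        have key : ∀ (V : Good) (e : W.1.1 ≤ V.1)
            (e' : 𝔜.lvU hY n V₁.1 ⊓ 𝔜.lvU hY n V₂.1 ≤ 𝔜.lvU hY n V.1),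
            ((𝔜.lvU hY n V₁.1 ⊓ 𝔜.lvU hY n V₂.1).ι ⁻¹ᵁ 𝔜.lvU hY n W.1.1).ι ≫ (𝔜.X n).homOfLE e' ≫
              toSpecSec hY n V.1 ≫ l V =
            ((𝔜.lvU hY n V₁.1 ⊓ 𝔜.lvU hY n V₂.1).ι ∣_ 𝔜.lvU hY n W.1.1) ≫ toSpecSec hY n W.1.1 ≫ l W.1 := by
          intro V e e'
          rw [← good_res W.1.2 e (hl V) (hl W.1) n, ← Category.assoc, ← Category.assoc (_ ∣_ _)]
          congr 1
          rw [← cancel_mono (𝔜.lvU hY n V.1).ι, Category.assoc, Category.assoc, Scheme.homOfLE_ι, Scheme.homOfLE_ι,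
            hk]
        exact (key V₁ (W.2.trans inf_le_left) inf_le_left).trans (key V₂ (W.2.trans inf_le_right) inf_le_right).symm
    choose r hr using hglue
    refine ⟨r, fun n => ?_, fun n => ?_⟩
    · refine Scheme.Cover.hom_ext ((𝔜.X n).openCoverOfIsOpenCover (fun V : Good => 𝔜.lvU hY n V.1)
        (IsOpenCover.mk (eq_top_iff.2 fun y _ => Opens.mem_iSup.2 (hcov n y)))) _ _ fun V => ?_
      show (𝔜.lvU hY n V.1).ι ≫ 𝔜.ι n ≫ r (n + 1) = (𝔜.lvU hY n V.1).ι ≫ r n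
      rw [← Category.assoc, ← Scheme.Hom.resLE_comp_ι (𝔜.ι n) (𝔜.lvU_le hY n V.1), Category.assoc, hr, hr,
        ← Category.assoc, resLE_toSpecSec]
    · refine Scheme.Cover.hom_ext ((𝔜.X n).openCoverOfIsOpenCover (fun V : Good => 𝔜.lvU hY n V.1)
        (IsOpenCover.mk (eq_top_iff.2 fun y _ => Opens.mem_iSup.2 (hcov n y)))) _ _ fun V => ?_
      show (𝔜.lvU hY n V.1).ι ≫ r n ≫ q = (𝔜.lvU hY n V.1).ι ≫ t n
      rw [← Category.assoc, hr, Category.assoc, hl, toSpecSec_secFun]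
  · intro r r' hr hrq hr' hrq'
    funext n
    have hcov : ∀ y : 𝔜.X n, ∃ V : {V : (𝔜.X 0).Opens // IsGood hY t ht q V ∧
        (∃ D : P.Opens, IsAffineOpen D ∧ V ≤ r 0 ⁻¹ᵁ D) ∧ ∃ D : P.Opens, IsAffineOpen D ∧ V ≤ r' 0 ⁻¹ᵁ D},
        y ∈ 𝔜.lvU hY n V.1 := by
      intro y
      obtain ⟨D, hD, hxD, -⟩ := exists_isAffineOpen_mem_and_subset (X := P) (U := ⊤) (x := r 0 (𝔜.gInv hY n y)) trivial
      obtain ⟨D', hD', hxD', -⟩ := exists_isAffineOpen_mem_and_subset (X := P) (U := ⊤) (x := r' 0 (𝔜.gInv hY n y)) trivial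
      obtain ⟨V, hVO, hy, hV⟩ := exists_good_nhd hgood n y (r 0 ⁻¹ᵁ D ⊓ r' 0 ⁻¹ᵁ D') ⟨hxD, hxD'⟩
      exact ⟨⟨V, hV, ⟨D, hD, hVO.trans inf_le_left⟩, D', hD', hVO.trans inf_le_right⟩, hy⟩
    refine Scheme.Cover.hom_ext ((𝔜.X n).openCoverOfIsOpenCover _
      (IsOpenCover.mk (eq_top_iff.2 fun y _ => Opens.mem_iSup.2 (hcov y)))) _ _ fun V => ?_
    obtain ⟨V, hV, ⟨D, hD, hVD⟩, D', hD', hVD'⟩ := V
    obtain ⟨l, hl⟩ := hV.2.exists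
    exact (eq_of_lift hV hl r hr hrq hD hVD n).trans (eq_of_lift hV hl r' hr' hrq' hD' hVD' n).symm

end Groth.Agent.FormBlow
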