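/-
Chart rings over topologically finite type algebras: finiteness, torsion, Artin–Rees.
-/
import Groth.Agent.FormBlow.Chart
import Groth.Agent.TopFin.Basics
import Groth.Agent.TopFin.Sat
import Groth.Agent.TopFin.Fp

set_option autoImplicit false
set_option backward.isDefEq.respectTransparency false
set_option linter.style.haveILetI false

universe u

noncomputable section

namespace Groth.Agent.FormBlow

variable {R : Type u} [CommRing R] {I : Ideal R} {A : Type u} [CommRing A] [Algebra R A] {r : ℕ}
  (f : Fin r → A) (i : Fin r)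

instance finiteType_chartRing : Algebra.FiniteType A (chartRing f i) :=
  (Subalgebra.fg_iff_finiteType _).1 (Subalgebra.fg_def.2 ⟨_, Set.finite_range _, rfl⟩)

theorem noPowTorsion_chartRing (hI : I.FG) (hA : AdicRing.NoPowTorsion I A) :
    AdicRing.NoPowTorsion I (chartRing f i) := by
  classical
  intro b n hb
  obtain ⟨⟨a, s⟩, hs⟩ := IsLocalization.surj (Submonoid.powers (f i)) (b : Localization.Away (f i))
  obtain ⟨G, hG⟩ := hI.pow (n := n)
  have hz : ∀ g : G, ∃ m : ℕ, f i ^ m * (g.1 • a) = 0 := fun g => by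
    have h1 : algebraMap A (Localization.Away (f i)) (g.1 • a) = 0 := by
      have h2 := congrArg (fun z : Localization.Away (f i) => g.1 • z) hs
      simp only at h2
      rw [← smul_mul_assoc, show g.1 • (b : Localization.Away (f i)) = 0 from
        congrArg Subtype.val (hb g.1 (hG ▸ Ideal.subset_span g.2)), zero_mul] at h2
      rw [Algebra.smul_def, map_mul, ← IsScalarTower.algebraMap_apply, ← Algebra.smul_def]
      exact h2.symm
    obtain ⟨⟨_, m, rfl⟩, hm⟩ := (IsLocalization.map_eq_zero_iff (Submonoid.powers (f i)) _ _).1 h1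
    exact ⟨m, hm⟩
  choose m hm using hz
  have h3 : f i ^ (∑ g, m g) * a = 0 := hA _ n fun x hx => by
    rw [← hG] at hx
    induction hx using Submodule.span_induction with
    | mem g hg =>
      obtain ⟨d, hd⟩ := Nat.exists_eq_add_of_le
        (Finset.single_le_sum (f := m) (fun _ _ => Nat.zero_le _) (Finset.mem_univ (⟨g, hg⟩ : G)))
      rw [hd, pow_add, mul_comm (f i ^ m ⟨g, hg⟩), mul_assoc, ← mul_smul_comm, ← mul_smul_comm, hm, mul_zero]
    | zero => rw [zero_smul]
    | add x y _ _ hx hy => rw [add_smul, hx, hy, add_zero]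
    | smul c x _ hx => rw [smul_eq_mul, mul_smul, hx, smul_zero]
  have h4 : algebraMap A (Localization.Away (f i)) a = 0 :=
    (IsLocalization.map_eq_zero_iff (Submonoid.powers (f i)) _ _).2 ⟨⟨_, _, rfl⟩, h3⟩
  exact Subtype.ext ((IsLocalization.map_units (Localization.Away (f i)) s).mul_left_eq_zero.1 (hs.trans h4))

theorem good_chartRing (hR : AdicRing.IsBase R I) (hA : AdicRing.TopFiniteType R I A) :
    TopFin.Good R I (chartRing f i) :=
  TopFin.good_of_finiteType hR hA _

theorem finitePresentation_chartRing (hR : AdicRing.IsBase R I) (hA : AdicRing.TopFiniteType R I A)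
    (hT : AdicRing.NoPowTorsion I A) : Algebra.FinitePresentation A (chartRing f i) := by
  obtain ⟨s, φ, hφ⟩ := Algebra.FiniteType.iff_quotient_mvPolynomial''.1 (finiteType_chartRing f i)
  refine Algebra.FinitePresentation.of_surjective (f := φ) hφ ?_
  refine (TopFin.good_of_finiteType hR hA (MvPolynomial (Fin s) A)).1 _ (RingHom.ker φ.toRingHom) fun x k hx => ?_
  refine RingHom.mem_ker.2 (noPowTorsion_chartRing f i (AdicRingLib.fg_of_isBase hR) hT (φ x) k fun a ha => ?_)
  exact (LinearMap.map_smul_of_tower φ.toLinearMap a x).symm.trans (hx a ha)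

theorem finitePresentation_chartRing_quot (hR : AdicRing.IsBase R I) (hA : AdicRing.TopFiniteType R I A)
    (hT : AdicRing.NoPowTorsion I A) (n : ℕ)
    (hlev : Algebra.FinitePresentation R (A ⧸ (I ^ n).map (algebraMap R A))) :
    Algebra.FinitePresentation R (chartRing f i ⧸ (I ^ n).map (algebraMap R (chartRing f i))) := by
  let N := (I ^ n).map (algebraMap R A)
  let M := (I ^ n).map (algebraMap R (chartRing f i))
  have hNM : N ≤ M.comap (algebraMap A (chartRing f i)) := by
    rw [← Ideal.map_le_iff_le_comap, Ideal.map_map, ← IsScalarTower.algebraMap_eq]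
  have h0 := RingHom.finitePresentation_algebraMap.2 (finitePresentation_chartRing f i hR hA hT)
  have hM : (RingHom.ker (Ideal.Quotient.mk M)).FG := by
    rw [Ideal.mk_ker]
    exact ((AdicRingLib.fg_of_isBase hR).pow (n := n)).map _
  have h1 :=
    (RingHom.FinitePresentation.of_surjective (A := chartRing f i) (B := chartRing f i ⧸ M) _
      Ideal.Quotient.mk_surjective hM).comp h0
  have h2 : RingHom.FinitePresentation (A := A ⧸ N) (B := chartRing f i ⧸ M)
      (Ideal.quotientMap M (algebraMap A (chartRing f i)) hNM) := by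
    refine RingHom.FinitePresentation.of_comp_finiteType (Ideal.Quotient.mk N) ?_
      (RingHom.FiniteType.of_surjective _ Ideal.Quotient.mk_surjective)
    exact h1
  exact RingHom.finitePresentation_algebraMap.1 (h2.comp (RingHom.finitePresentation_algebraMap.2 hlev))

theorem exists_ar_chartRing (hR : AdicRing.IsBase R I) (hA : AdicRing.TopFiniteType R I A)
    (hT : AdicRing.NoPowTorsion I A) (n : ℕ) :
    ∃ N, n ≤ N ∧ ∀ b : chartRing f i, (∀ r ∈ I, r • b ∈ (I ^ (N + 1)).map (algebraMap R (chartRing f i))) →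
      b ∈ (I ^ (n + 1)).map (algebraMap R (chartRing f i)) := by
  classical
  obtain ⟨G, hG⟩ := AdicRingLib.fg_of_isBase hR
  let B := chartRing f i
  let ψ : B →ₗ[B] (G → B) := LinearMap.pi fun g : G => algebraMap R B g.1 • LinearMap.id
  have hinj : Function.Injective ψ := by
    rw [injective_iff_map_eq_zero]
    intro b hb
    refine noPowTorsion_chartRing f i ⟨G, hG⟩ hT b 1 fun x hx => ?_
    rw [pow_one, ← hG] at hx
    induction hx using Submodule.span_induction with
    | mem g hg => exact (Algebra.smul_def _ _).trans (congrFun hb ⟨g, hg⟩)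
    | zero => rw [zero_smul]
    | add x y _ _ hx hy => rw [add_smul, hx, hy, add_zero]
    | smul c x _ hx => rw [smul_eq_mul, mul_smul, hx, smul_zero]
  obtain ⟨n₀, hn₀⟩ := (good_chartRing f i hR hA).2 (G → B) (LinearMap.range ψ)
  refine ⟨n + n₀, by omega, fun b hb => ?_⟩
  have h1 : ψ b ∈ (I ^ (n + 1 + n₀) • (⊤ : Submodule R (G → B))) := by
    rw [show ψ b = ∑ g : G, Pi.single g (g.1 • b) from funext fun g => by
      rw [Finset.sum_apply, Finset.sum_pi_single]
      simp [ψ, Algebra.smul_def]; rfl]
    refine Submodule.sum_mem _ fun g _ => ?_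
    have h2 : g.1 • b ∈ (I ^ (n + n₀ + 1) • (⊤ : Submodule R B)) := by
      rw [Ideal.smul_top_eq_map]
      exact hb g.1 (hG ▸ Ideal.subset_span g.2)
    rw [show n + 1 + n₀ = n + n₀ + 1 by omega]
    have h3 := Submodule.mem_map_of_mem (f := LinearMap.single R (fun _ : G => B) g) h2
    rw [Submodule.map_smul''] at h3
    exact Submodule.smul_mono le_rfl le_top h3
  have h2 := hn₀ (n + 1) ⟨h1, ⟨b, rfl⟩⟩
  have h3 : (LinearMap.range ψ).restrictScalars R = (⊤ : Submodule R B).map (ψ.restrictScalars R) := by
    ext v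
    simp
  rw [h3, ← Submodule.map_smul''] at h2
  obtain ⟨b', hb', e⟩ := h2
  obtain rfl := hinj e
  rwa [SetLike.mem_coe, Ideal.smul_top_eq_map] at hb'

end Groth.Agent.FormBlow
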