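/-
Completions along closed subschemes: sections over affine pieces and adic morphisms.
-/
import Groth.Agent.FormBlow.SchIdeal
import Groth.Agent.ThickSys.Sheaf
import Groth.Agent.ThickSys.Sys

set_option autoImplicit false
set_option backward.isDefEq.respectTransparency false
set_option linter.style.haveILetI false

universe u

open CategoryTheory CategoryTheory.Limits AlgebraicGeometry TopologicalSpace Opposite FBlow
open Groth.Agent.FSchCoh (OA RA projR transR transR_projR OA_ext OA_lift projR_surjective)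

noncomputable section

namespace Groth.Agent.FormBlow

variable {𝔛 : FSch.Sys.{u}} (h : 𝔛.IsFormal)

/-- A non-zero-divisor criterion through a ring presenting the levels. -/
theorem nzdOn_of_ring {U : (𝔛.X 0).Opens} (hU : IsAffineOpen U) {B : Type u} [CommRing B] (σ : B →+* OA 𝔛 h U)
    (L : Ideal B) (hsurj : ∀ n, Function.Surjective fun b => projR 𝔛 h U n (σ b))
    (hker : ∀ n b, projR 𝔛 h U n (σ b) = 0 ↔ b ∈ L ^ (n + 1))
    {x : B} (hx : ∀ b, x * b = 0 → b = 0) {c : ℕ} (hc : L ^ (c + 1) ≤ Ideal.span {x}) :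
    NzdOn (O := 𝔛.Osh h) U (σ x) := by
  refine nzdOn_of_levels h hU _ fun n => ⟨n + c + 1, by omega, fun a ha => ?_⟩
  obtain ⟨b, hb⟩ := hsurj (n + c + 1) (projR 𝔛 h U (n + c + 1) a)
  simp only at hb
  rw [map_mul, ← hb, ← map_mul, ← map_mul, hker, show n + c + 1 + 1 = (c + 1) + (n + 1) by omega, pow_add] at ha
  obtain ⟨y, hy, hyb⟩ := Ideal.mem_span_singleton_mul.1 (Ideal.mul_mono_left hc ha)
  obtain rfl : y = b := sub_eq_zero.1 (hx _ (by rw [mul_sub, hyb, sub_self]))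
  have h1 : projR 𝔛 h U (n + c + 1) (a - σ y) = 0 := by rw [map_sub, hb, sub_self]
  have h2 := projR_eq_zero_of_le h (show n ≤ n + c + 1 by omega) h1
  rwa [map_sub, (hker n y).2 hy, sub_zero] at h2

variable {A : Type u} [CommRing A]

/-- Pulling back a function along a morphism over an affine scheme. -/
theorem shPb_schFun {𝔜 : FSch.Sys.{u}} (hY : 𝔜.IsFormal) (φ : 𝔜 ⟶ 𝔛) (p : ∀ n, 𝔛.X n ⟶ Spec (CommRingCat.of A))
    (hp : ∀ n, 𝔛.ι n ≫ p (n + 1) = p n) (t : ∀ n, 𝔜.X n ⟶ Spec (CommRingCat.of A))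
    (ht : ∀ n, 𝔜.ι n ≫ t (n + 1) = t n) (hφ : ∀ n, (φ : FSch.Hom 𝔜 𝔛).app n ≫ p n = t n)
    (j : ⊤ ≤ (φ : FSch.Hom 𝔜 𝔛).app 0 ⁻¹ᵁ ⊤) (a : A) :
    shPb h hY φ j (schFun h p hp a) = schFun hY t ht a := by
  refine OA_ext 𝔜 hY ⊤ fun n => ?_
  rw [projR_shPb, schFun, schFun, RingHom.comp_apply, RingHom.comp_apply, projR_scPb, projR_scPb]
  have h4 : ∀ (s : 𝔜.X n ⟶ Spec (CommRingCat.of A)) (_ : s = t n) (e' : 𝔜.lvU hY n ⊤ ≤ s ⁻¹ᵁ ⊤),
      s.appLE ⊤ (𝔜.lvU hY n ⊤) e' = (t n).appLE ⊤ (𝔜.lvU hY n ⊤) (fun _ _ => trivial) := by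
    rintro s rfl e'
    rfl
  have h3 := Scheme.Hom.appLE_comp_appLE ((φ : FSch.Hom 𝔜 𝔛).app n) (p n) ⊤ (𝔛.lvU h n ⊤) (𝔜.lvU hY n ⊤)
    (fun _ _ => trivial) (lvU_le_preimage h hY φ j n)
  rw [h4 _ (hφ n)] at h3
  exact congr($h3 ((Scheme.ΓSpecIso (CommRingCat.of A)).inv a))

variable {P : Scheme.{u}} (𝓛 : P.IdealSheafData)

theorem key_completion (n : ℕ) (D : P.affineOpens) (O : ((FSch.completionAlong P 𝓛).X n).Opens)
    (e : O ≤ FSch.completionToX P 𝓛 n ⁻¹ᵁ D.1) (hO : O = FSch.completionToX P 𝓛 n ⁻¹ᵁ D.1) :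
    Function.Surjective ((FSch.completionToX P 𝓛 n).appLE D.1 O e) ∧
      ∀ b, (FSch.completionToX P 𝓛 n).appLE D.1 O e b = 0 ↔ b ∈ 𝓛.ideal D ^ (n + 1) := by
  subst hO
  rw [← Scheme.Hom.app_eq_appLE]
  refine ⟨(𝓛 ^ (n + 1)).subschemeι_app_surjective D, fun b => ?_⟩
  rw [← RingHom.mem_ker, Scheme.IdealSheafData.ker_subschemeι_app, Scheme.IdealSheafData.ideal_pow]
  rfl

/-- A local equation whose multiples contain a power of the ideal of the completion is regular on the completion. -/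
theorem nzdOn_completion (hP : (FSch.completionAlong P 𝓛).IsFormal) (D : P.affineOpens) {x : Γ(P, D.1)}
    (hx : ∀ b, x * b = 0 → b = 0) {c : ℕ} (hc : 𝓛.ideal D ^ (c + 1) ≤ Ideal.span {x}) :
    NzdOn (O := (FSch.completionAlong P 𝓛).Osh hP) (FSch.completionToX P 𝓛 0 ⁻¹ᵁ D.1)
      (scPb hP (FSch.completionToX P 𝓛) (FSch.completionToX_comm P 𝓛) (le_refl (FSch.completionToX P 𝓛 0 ⁻¹ᵁ D.1)) x) := by
  have hlv : ∀ n, (FSch.completionAlong P 𝓛).lvU hP n (FSch.completionToX P 𝓛 0 ⁻¹ᵁ D.1) =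
      FSch.completionToX P 𝓛 n ⁻¹ᵁ D.1 := fun n =>
    (FSch.lvU_p (FSch.completionAlong P 𝓛) hP (FSch.completionToX P 𝓛) (FSch.completionToX_comm P 𝓛) n D.1).symm
  refine nzdOn_of_ring hP (D.2.preimage _) (scPb hP (FSch.completionToX P 𝓛) (FSch.completionToX_comm P 𝓛) le_rfl)
    (𝓛.ideal D) (fun n s => ?_) (fun n b => ?_) hx hc
  · obtain ⟨b, hb⟩ := (key_completion 𝓛 n D _
      (lvU_le_scPreimage hP _ (FSch.completionToX_comm P 𝓛) le_rfl n) (hlv n)).1 s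
    exact ⟨b, (projR_scPb hP _ (FSch.completionToX_comm P 𝓛) le_rfl n b).trans hb⟩
  · rw [projR_scPb]
    exact (key_completion 𝓛 n D _ _ (hlv n)).2 b

variable {Q : Scheme.{u}} (f : P ⟶ Q) (𝓚 : Q.IdealSheafData) (hc : FSch.PowCompat f (𝓚.comap f) 𝓚)

theorem isPullback_completionLevel (n : ℕ) :
    IsPullback (FSch.completionToX P (𝓚.comap f) n) ((FSch.completionMap f (𝓚.comap f) 𝓚 hc : FSch.Hom _ _).app n) f
      (FSch.completionToX Q 𝓚 n) :=
  ThickSys.isPullback_subschemeMap f _ _ (Scheme.IdealSheafData.le_map_iff_comap_le.mpr (hc n))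
    (ThickSys.comap_pow 𝓚 f (n + 1))

theorem isAdicHom_completionMap : FSch.IsAdicHom (FSch.completionMap f (𝓚.comap f) 𝓚 hc) := fun n => by
  refine IsPullback.of_right ?_ ((FSch.completionMap f (𝓚.comap f) 𝓚 hc : FSch.Hom _ _).comm n).symm
    (isPullback_completionLevel f 𝓚 hc (n + 1))
  rw [show (FSch.completionAlong P (𝓚.comap f)).ι n ≫ FSch.completionToX P (𝓚.comap f) (n + 1) =
    FSch.completionToX P (𝓚.comap f) n from FSch.completionToX_comm _ _ n,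
    show (FSch.completionAlong Q 𝓚).ι n ≫ FSch.completionToX Q 𝓚 (n + 1) = FSch.completionToX Q 𝓚 n from
    FSch.completionToX_comm _ _ n]
  exact isPullback_completionLevel f 𝓚 hc n

end Groth.Agent.FormBlow
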