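/-
Preliminaries for the existence of admissible formal blowing-ups: opens, generators, affine completions.
-/
import Groth.Agent.FormBlow.Completion

set_option autoImplicit false
set_option backward.isDefEq.respectTransparency false
set_option linter.style.haveILetI false

universe u

open CategoryTheory CategoryTheory.Limits AlgebraicGeometry TopologicalSpace Opposite FBlow
open Groth.Agent.FSchCoh (OA RA projR transR transR_projR OA_ext OA_lift projR_surjective)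

noncomputable section

namespace Groth.Agent.FormBlow

/-- Ideal sheaves with the same generating sections agree. -/
theorem idealSh_eq_of_gens {T : TopCat.{u}} {O : Sheaf (Opens.grothendieckTopology T) CommRingCat.{u}} {ι : Type*}
    {J J' : IdealSh O} (F : ι → sec O ⊤) (hJ : ∀ j, F j ∈ J.sect ⊤) (hJ' : ∀ j, F j ∈ J'.sect ⊤)
    (hle : J ≤ relGen ⊤ F) (hle' : J' ≤ relGen ⊤ F) : J = J' :=
  idealSh_antisymm (fun V _ hs => mem_of_mem_relGen J' le_top hJ' (hle V hs))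
    (fun V _ hs => mem_of_mem_relGen J le_top hJ (hle' V hs))

variable {𝔛 𝔜 : FSch.Sys.{u}} (h : 𝔛.IsFormal) (h𝔜 : 𝔜.IsFormal)

/-- A morphism with image in an open factors through the induced system. -/
def toOpen (g : 𝔜 ⟶ 𝔛) (U : (𝔛.X 0).Opens) (e : ⊤ ≤ (g : FSch.Hom 𝔜 𝔛).app 0 ⁻¹ᵁ U) :
    𝔜 ⟶ 𝔛.restrictOpen h U :=
  ⟨fun n => IsOpenImmersion.lift (𝔛.lvU h n U).ι ((g : FSch.Hom 𝔜 𝔛).app n) (by
      rintro _ ⟨y, rfl⟩
      exact (Scheme.Opens.range_ι (𝔛.lvU h n U)).ge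
        (lvU_le_preimage h h𝔜 g e n (show y ∈ 𝔜.lvU h𝔜 n ⊤ from trivial))),
    fun n => by
      haveI : Mono ((𝔛.restrictOpenι h U : FSch.Hom _ _).app (n + 1)) :=
        inferInstanceAs (Mono (𝔛.lvU h (n + 1) U).ι)
      rw [← cancel_mono ((𝔛.restrictOpenι h U : FSch.Hom _ _).app (n + 1))]
      simp only [Category.assoc]
      rw [← (𝔛.restrictOpenι h U : FSch.Hom _ _).comm n]
      refine Eq.trans ?_ (congrArg (𝔜.ι n ≫ ·) (IsOpenImmersion.lift_fac _ _ _).symm)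
      rw [← Category.assoc]
      exact (congrArg (· ≫ 𝔛.ι n) (IsOpenImmersion.lift_fac _ _ _)).trans ((g : FSch.Hom 𝔜 𝔛).comm n)⟩

theorem toOpen_ι (g : 𝔜 ⟶ 𝔛) (U : (𝔛.X 0).Opens) (e : ⊤ ≤ (g : FSch.Hom 𝔜 𝔛).app 0 ⁻¹ᵁ U) :
    toOpen h h𝔜 g U e ≫ 𝔛.restrictOpenι h U = g :=
  FSch.Hom.ext (funext fun _ => IsOpenImmersion.lift_fac _ _ _)

theorem hom_eq_of_restrictOpenι (U : (𝔛.X 0).Opens) {g g' : 𝔜 ⟶ 𝔛.restrictOpen h U}
    (e : g ≫ 𝔛.restrictOpenι h U = g' ≫ 𝔛.restrictOpenι h U) : g = g' :=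
  FSch.Hom.ext (funext fun n => (cancel_mono (𝔛.lvU h n U).ι).1
    (congrArg (fun φ : 𝔜 ⟶ 𝔛 => (φ : FSch.Hom 𝔜 𝔛).app n) e))

theorem mem_idealMap {J : IdealSh (𝔛.Osh h)} (g : 𝔜 ⟶ 𝔛) {W : (𝔛.X 0).Opens} {V : (𝔜.X 0).Opens}
    (j : V ≤ (g : FSch.Hom 𝔜 𝔛).app 0 ⁻¹ᵁ W) {a : OA 𝔛 h W} (ha : a ∈ J.sect W) :
    shPb h h𝔜 g j a ∈ (idealMap g h𝔜 h J).sect V :=
  pb_mem_map _ _ J j ha

theorem idealMap_le_relGen {J : IdealSh (𝔛.Osh h)} (g : 𝔜 ⟶ 𝔛) {W : (𝔛.X 0).Opens} {V : (𝔜.X 0).Opens} {ι : Type*}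
    {f : ι → OA 𝔛 h W} (hf : J ≤ relGen W f) (j : V ≤ (g : FSch.Hom 𝔜 𝔛).app 0 ⁻¹ᵁ W) :
    idealMap g h𝔜 h J ≤ relGen V fun l => shPb h h𝔜 g j (f l) :=
  map_le_relGen _ _ hf j

/-- Invertibility passes to open pieces. -/
theorem isInvertible_restrictOpen {J : IdealSh (𝔛.Osh h)} (U : (𝔛.X 0).Opens) (hJ : J.IsInvertible) :
    (idealMap (𝔛.restrictOpenι h U) (isFormal_restrictOpen h U) h J).IsInvertible := by
  rw [isInvertible_iff] at hJ ⊢
  intro y
  obtain ⟨V, hyV, g, hg⟩ := hJ ((𝔛.restrictOpenι h U : FSch.Hom _ _).app 0 y)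
  let ιU : 𝔛.restrictOpen h U ⟶ 𝔛 := 𝔛.restrictOpenι h U
  let hU := isFormal_restrictOpen h U
  refine ⟨(ιU : FSch.Hom _ _).app 0 ⁻¹ᵁ V, hyV, shPb h hU ιU (le_refl _) g, mem_idealMap h hU ιU _ hg.1, ?_,
    idealMap_le_relGen h hU ιU hg.2.2 _⟩
  intro V' i t ht
  haveI : IsOpenImmersion ((ιU : FSch.Hom _ _).app 0) := inferInstanceAs (IsOpenImmersion (𝔛.lvU h 0 U).ι)
  obtain ⟨W, hWU, rfl⟩ : ∃ W, W ≤ U ∧ V' = (ιU : FSch.Hom _ _).app 0 ⁻¹ᵁ W :=
    ⟨(ιU : FSch.Hom _ _).app 0 ''ᵁ V', fun _ ⟨y, _, e⟩ => e ▸ range_restrictOpenι h U y,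
      (((ιU : FSch.Hom _ _).app 0).preimage_image_eq V').symm⟩
  have hWV : W ≤ V := by
    intro w hw
    have hw' : w ∈ (ιU : FSch.Hom _ _).app 0 '' Set.univ :=
      ⟨⟨w, (lvU_zero h U).ge (hWU hw)⟩, trivial, rfl⟩
    obtain ⟨z, -, rfl⟩ := hw'
    exact i hw
  obtain ⟨s, rfl⟩ := surjective_shPb_restrictOpenι h U hWU t
  have he : rs i (shPb h hU ιU (le_refl _) g) = shPb h hU ιU (le_refl ((ιU : FSch.Hom _ _).app 0 ⁻¹ᵁ W)) (rs hWV g) :=
    (pb_rs _ _ _ i g).trans (rs_pb _ _ hWV (le_refl ((ιU : FSch.Hom _ _).app 0 ⁻¹ᵁ W)) g).symm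
  rw [he, ← map_mul] at ht
  rw [hg.2.1 W hWV s (eq_zero_of_shPb_restrictOpenι h U hWU ht), map_zero]

section AffineCompletion

variable {A : Type u} [CommRing A] (K : Ideal A)

theorem ker_spfToSpec (n : ℕ) :
    (FSch.spfToSpec A K n).ker = (FSch.idealSpec A K ^ (n + 1)).subschemeι.ker := by
  rw [Scheme.IdealSheafData.ker_subschemeι, ← ThickSys.idealSpec_pow]
  rfl

instance isClosedImmersion_spfToSpec (n : ℕ) : IsClosedImmersion (FSch.spfToSpec A K n) :=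
  IsClosedImmersion.spec_of_surjective _ Ideal.Quotient.mk_surjective

/-- the completion of an affine scheme is its formal spectrum -/
def completionIsoSpf : FSch.completionAlong (Spec (CommRingCat.of A)) (FSch.idealSpec A K) ≅ FSch.spf A K where
  hom := ⟨fun n => IsClosedImmersion.lift (FSch.spfToSpec A K n) (FSch.completionToX _ _ n)
      (ker_spfToSpec K n).le, fun n => by
    rw [← cancel_mono (FSch.spfToSpec A K (n + 1))]
    simp only [Category.assoc, FSch.spfToSpec_comm, IsClosedImmersion.lift_fac, FSch.completionToX_comm]⟩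
  inv := ⟨fun n => IsClosedImmersion.lift (FSch.completionToX _ _ n) (FSch.spfToSpec A K n)
      (ker_spfToSpec K n).ge, fun n => by
    rw [← cancel_mono (FSch.completionToX (Spec (CommRingCat.of A)) (FSch.idealSpec A K) (n + 1))]
    simp only [Category.assoc, FSch.completionToX_comm, IsClosedImmersion.lift_fac, FSch.spfToSpec_comm]⟩
  hom_inv_id := FSch.Hom.ext (funext fun n => by
    rw [← cancel_mono (FSch.completionToX (Spec (CommRingCat.of A)) (FSch.idealSpec A K) n)]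
    exact ((Category.assoc _ _ _).trans ((congrArg (_ ≫ ·) (IsClosedImmersion.lift_fac _ _ _)).trans
      (IsClosedImmersion.lift_fac _ _ _))).trans (Category.id_comp _).symm)
  inv_hom_id := FSch.Hom.ext (funext fun n => by
    rw [← cancel_mono (FSch.spfToSpec A K n)]
    exact ((Category.assoc _ _ _).trans ((congrArg (_ ≫ ·) (IsClosedImmersion.lift_fac _ _ _)).trans
      (IsClosedImmersion.lift_fac _ _ _))).trans (Category.id_comp _).symm)

theorem completionIsoSpf_hom_spfToSpec (n : ℕ) :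
    ((completionIsoSpf K).hom : FSch.Hom _ _).app n ≫ FSch.spfToSpec A K n = FSch.completionToX _ _ n :=
  IsClosedImmersion.lift_fac _ _ _

end AffineCompletion

/-- isomorphisms are adic -/
theorem isAdicHom_iso (e : 𝔜 ≅ 𝔛) : FSch.IsAdicHom e.hom := fun n => by
  haveI : ∀ m, IsIso ((e.hom : FSch.Hom _ _).app m) := fun m =>
    ⟨(e.inv : FSch.Hom _ _).app m, congrArg (fun φ : 𝔜 ⟶ 𝔜 => (φ : FSch.Hom _ _).app m) e.hom_inv_id,
      congrArg (fun φ : 𝔛 ⟶ 𝔛 => (φ : FSch.Hom _ _).app m) e.inv_hom_id⟩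
  exact IsPullback.of_vert_isIso ⟨((e.hom : FSch.Hom _ _).comm n).symm⟩

theorem isFormal_completion_spec {A : Type u} [CommRing A] (K : Ideal A) :
    (FSch.completionAlong (Spec (CommRingCat.of A)) (FSch.idealSpec A K)).IsFormal :=
  ThickSys.isFormal_of_isAdicHom _ (isFormal_spf A K) (isAdicHom_iso (completionIsoSpf K))

end Groth.Agent.FormBlow
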