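/-
Admissible formal blowing-ups over affine pieces.
-/
import Groth.Agent.FormBlow.ExistBasic
import Groth.Agent.FormBlow.BlowLift
import Groth.Agent.BlowUpExist.Global
import Groth.Agent.S13659

set_option autoImplicit false
set_option backward.isDefEq.respectTransparency false
set_option linter.style.haveILetI false

universe u

open CategoryTheory CategoryTheory.Limits AlgebraicGeometry TopologicalSpace Opposite FBlow
open Groth.Agent.FSchCoh (OA RA projR transR transR_projR OA_ext OA_lift projR_surjective)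

noncomputable section

namespace Groth.Agent.FormBlow

variable {𝔛 : FSch.Sys.{u}} (h : 𝔛.IsFormal)

/-- `b` is an admissible formal blowing-up over the open `U`. -/
structure IsBlowOver (J : IdealSh (𝔛.Osh h)) (U : (𝔛.X 0).Opens) {𝔏 : FSch.Sys.{u}} (h𝔏 : 𝔏.IsFormal)
    (b : 𝔏 ⟶ 𝔛) : Prop where
  lands : ⊤ ≤ (b : FSch.Hom 𝔏 𝔛).app 0 ⁻¹ᵁ U
  adic : FSch.IsAdicHom b
  inv : (idealMap b h𝔏 h J).IsInvertible
  lift : ∀ (𝔜 : FSch.Sys.{u}) (h𝔜 : 𝔜.IsFormal) (g : 𝔜 ⟶ 𝔛), FSch.IsAdicHom g →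
    ⊤ ≤ (g : FSch.Hom 𝔜 𝔛).app 0 ⁻¹ᵁ U → (idealMap g h𝔜 h J).IsInvertible → ∃! k : 𝔜 ⟶ 𝔏, k ≫ b = g

/-- An affine open on which `J` is generated by finitely many sections generating a power of `I`. -/
def GoodOpen {R : Type u} [CommRing R] {I : Ideal R} (p : 𝔛 ⟶ FSch.spf R I) (J : IdealSh (𝔛.Osh h))
    (U : (𝔛.X 0).Opens) : Prop :=
  IsAffineOpen U ∧ ∃ (s c : ℕ) (f : Fin s → OA 𝔛 h U), (∀ k, f k ∈ J.sect U) ∧ J ≤ relGen U f ∧
    ∀ r ∈ I ^ (c + 1), rho h p U r ∈ Ideal.span (Set.range f)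

variable {R : Type u} [CommRing R] {I : Ideal R} {p : 𝔛 ⟶ FSch.spf R I} {J : IdealSh (𝔛.Osh h)}

theorem GoodOpen.res {U V : (𝔛.X 0).Opens} (hU : GoodOpen h p J U) (i : V ≤ U) (hV : IsAffineOpen V) :
    GoodOpen h p J V := by
  obtain ⟨-, s, c, f, hfJ, hJf, hpow⟩ := hU
  refine ⟨hV, s, c, fun k => rs i (f k), fun k => rs_mem J i (hfJ k),
    fun W _ hs => relGen_mono i f W (hJf W hs), fun r hr => ?_⟩
  have h1 := Ideal.mem_map_of_mem (rs (O := 𝔛.Osh h) i) (hpow r hr)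
  rw [rho_rs, Ideal.map_span, ← Set.range_comp] at h1
  exact h1

theorem exists_goodOpen (hp : FSch.IsAdicHom p) (hI : I.FG) (hJ : IsCohOpen 𝔛 h J) (x : 𝔛.X 0)
    (O : (𝔛.X 0).Opens) (hx : x ∈ O) : ∃ V ≤ O, x ∈ V ∧ GoodOpen h p J V := by
  obtain ⟨U, hU, hxU, s, c, f, hfJ, hJf, hpow⟩ := exists_generators h p hp hI hJ x
  obtain ⟨V, hV, hxV, hVle⟩ := exists_isAffineOpen_mem_and_subset (U := U ⊓ O) (⟨hxU, hx⟩ : x ∈ U ⊓ O)
  exact ⟨V, fun y hy => (hVle hy).2, hxV, GoodOpen.res h (U := U) ⟨hU, s, c, f, hfJ, hJf, hpow⟩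
    (fun y hy => (hVle hy).1) hV⟩

theorem exists_blowOver_of_good (hp : FSch.IsAdicHom p) (hI : I.FG) {U : (𝔛.X 0).Opens} (hgood : GoodOpen h p J U) :
    ∃ (𝔏 : FSch.Sys.{u}) (h𝔏 : 𝔏.IsFormal) (b : 𝔏 ⟶ 𝔛), IsBlowOver h J U h𝔏 b := by
  obtain ⟨hU, s, c, f, hfJ, hJf, hpow⟩ := hgood
  let K : Ideal (OA 𝔛 h U) := I.map (rho h p U)
  let 𝒦 := FSch.idealSpec (OA 𝔛 h U) K
  let hX := isFormal_completion_spec K
  have hc : K ^ (c + 1) ≤ Ideal.span (Set.range f) := by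
    rw [← Ideal.map_pow, Ideal.map_le_iff_le_comap]
    exact hpow
  obtain ⟨P, q, hq⟩ := BlowUpExist.exists_blowUp_spec (CommRingCat.of (OA 𝔛 h U))
    (FSch.idealSpec (OA 𝔛 h U) (Ideal.span (Set.range f)))
  have hpc : FSch.PowCompat q (𝒦.comap q) 𝒦 := fun n => le_of_eq (ThickSys.comap_pow 𝒦 q (n + 1))
  let cm := FSch.completionMap q (𝒦.comap q) 𝒦 hpc
  have hcm : FSch.IsAdicHom cm := isAdicHom_completionMap q 𝒦 hpc
  let hP := ThickSys.isFormal_of_isAdicHom cm hX hcm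
  let hS := isFormal_spf (OA 𝔛 h U) K
  have hη : ∀ n a, projR 𝔛 h U n a = 0 →
      projR _ hS ⊤ n (((toSections (OA 𝔛 h U) K).comp (RingHom.id _)) a) = 0 := by
    intro n a ha
    refine projR_toSections_eq_zero K n ?_
    rw [← Ideal.map_pow, ← ker_projR_eq h p hp hI hU n]
    exact RingHom.mem_ker.2 ha
  let jU := homOfRing h hS hU ((toSections (OA 𝔛 h U) K).comp (RingHom.id _)) hη
  have hjU : FSch.IsAdicHom jU := isAdic_homOfRing_spf h p hp hU (RingHom.id _) rfl hη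
  have hjUtop := top_le_preimage_homOfRing h hS hU ((toSections (OA 𝔛 h U) K).comp (RingHom.id _)) hη
  have hja : ∀ a, shPb h hS jU hjUtop a = toSections _ K a := fun a => shPb_homOfRing h hS hU _ hη a
  let Φ := completionIsoSpf K
  let b := cm ≫ Φ.hom ≫ jU
  let pX := FSch.completionToX (Spec (CommRingCat.of (OA 𝔛 h U))) 𝒦
  have hpX := FSch.completionToX_comm (Spec (CommRingCat.of (OA 𝔛 h U))) 𝒦
  -- pullback of a section of `U` to the completion of the affine scheme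
  have hΦj : ⊤ ≤ (Φ.hom ≫ jU : FSch.Hom _ _).app 0 ⁻¹ᵁ U := fun y _ => hjUtop (trivial)
  have hΦa : ∀ a, shPb h hX (Φ.hom ≫ jU) hΦj a = schFun hX pX hpX a := fun a => by
    rw [shPb_comp h hS jU hX Φ.hom hjUtop (V := ⊤) (fun _ _ => trivial), hja, ← schFun_spf _ K hS]
    exact shPb_schFun hS hX Φ.hom _ _ pX hpX (completionIsoSpf_hom_spfToSpec K) _ a
  let 𝔄 := schIdealMap (FSch.completionAlong (Spec (CommRingCat.of (OA 𝔛 h U))) 𝒦) hX pX hpX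
    (IdealSh.ofData (FSch.idealSpec (OA 𝔛 h U) (Ideal.span (Set.range f))))
  -- both ideals have the same generators
  have hideal : ∀ (𝔜 : FSch.Sys.{u}) (h𝔜 : 𝔜.IsFormal)
      (g : 𝔜 ⟶ FSch.completionAlong (Spec (CommRingCat.of (OA 𝔛 h U))) 𝒦) (g' : 𝔜 ⟶ 𝔛),
      g ≫ Φ.hom ≫ jU = g' → idealMap g' h𝔜 h J = idealMap g h𝔜 hX 𝔄 := by
    rintro 𝔜 h𝔜 g g' rfl
    have e : ⊤ ≤ (g ≫ Φ.hom ≫ jU : FSch.Hom _ _).app 0 ⁻¹ᵁ U := fun y _ => hΦj trivial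
    have hF : ∀ a, shPb h h𝔜 (g ≫ Φ.hom ≫ jU) e a =
        shPb hX h𝔜 g (W := ⊤) (V := ⊤) (fun _ _ => trivial) (schFun hX pX hpX a) := fun a => by
      rw [shPb_comp h hX (Φ.hom ≫ jU) h𝔜 g hΦj (V := ⊤) (fun _ _ => trivial), hΦa]
    refine idealSh_eq_of_gens (fun k => shPb h h𝔜 (g ≫ Φ.hom ≫ jU) e (f k)) (fun k => mem_idealMap h h𝔜 _ e (hfJ k))
      (fun k => ?_) (idealMap_le_relGen h h𝔜 _ hJf e) ?_
    · rw [hF]
      exact mem_idealMap hX h𝔜 g _ (schFun_mem_schIdealMap hX pX hpX f _ rfl k)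
    · rw [show (fun k => shPb h h𝔜 (g ≫ Φ.hom ≫ jU) e (f k)) =
        fun k => shPb hX h𝔜 g (W := ⊤) (V := ⊤) (fun _ _ => trivial) (schFun hX pX hpX (f k)) from
        funext fun k => hF (f k)]
      exact idealMap_le_relGen hX h𝔜 g (schIdealMap_le_relGen hX pX hpX f _ rfl) _
  refine ⟨_, hP, b, fun y _ => hjUtop (trivial),
    isAdicHom_comp hcm (isAdicHom_comp (isAdicHom_iso Φ) hjU), ?_, fun 𝔜 h𝔜 g hg hgU hinv => ?_⟩
  · rw [hideal _ hP cm b rfl]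
    exact S13659.isInvertible_completion f q K hpc hX hP hq.1 c hc
  · have hgK : ∀ n, ∀ a ∈ K ^ (n + 1), projR 𝔜 h𝔜 ⊤ n (shPb h h𝔜 g hgU a) = 0 := by
      intro n a ha
      rw [← Ideal.map_pow, ← ker_projR_eq h p hp hI hU n, RingHom.mem_ker] at ha
      rw [projR_shPb, ha, map_zero]
    let g' := toSpf h𝔜 K (shPb h h𝔜 g hgU) hgK
    have hg'top : ⊤ ≤ (g' : FSch.Hom _ _).app 0 ⁻¹ᵁ ⊤ := fun _ _ => trivial
    have hg'j : g' ≫ jU = g := by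
      refine hom_ext_of_shPb h h𝔜 hU _ _ (fun y hy => hjUtop (hg'top hy)) hgU fun a => ?_
      rw [shPb_comp h hS jU h𝔜 g' hjUtop hg'top (fun y hy => hjUtop (hg'top hy)), hja]
      exact shPb_toSpf h𝔜 K _ hgK a
    have hg'' : (g' ≫ Φ.inv) ≫ Φ.hom ≫ jU = g := by
      rw [Category.assoc, Iso.inv_hom_id_assoc, hg'j]
    rw [hideal 𝔜 h𝔜 _ g hg''] at hinv
    obtain ⟨k, hk, huniq⟩ := S13659.existsUnique_completion_lift f q K hq hpc hX 𝔜 h𝔜 (g' ≫ Φ.inv) hinv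
    refine ⟨k, ?_, fun k' hk' => huniq k' ?_⟩
    · show k ≫ cm ≫ Φ.hom ≫ jU = g
      rw [← Category.assoc, show k ≫ cm = g' ≫ Φ.inv from hk, hg'']
    · refine (cancel_mono Φ.hom).1 ?_
      show (k' ≫ cm) ≫ Φ.hom = (g' ≫ Φ.inv) ≫ Φ.hom
      rw [Category.assoc (g'), Iso.inv_hom_id, Category.comp_id]
      have hm : ⊤ ≤ ((k' ≫ cm) ≫ Φ.hom : FSch.Hom _ _).app 0 ⁻¹ᵁ ⊤ := fun _ _ => trivial
      refine hom_spf_ext h𝔜 K _ _ fun a => ?_
      rw [shPb_toSpf h𝔜 K _ hgK a]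
      rw [← hja, ← shPb_comp h hS jU h𝔜 ((k' ≫ cm) ≫ Φ.hom) hjUtop hm (fun y hy => hjUtop (hm hy))]
      exact shPb_congr h h𝔜 (by rw [Category.assoc, Category.assoc]; exact hk') _ _ a

end Groth.Agent.FormBlow
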