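/-
Charts of admissible formal blowing-ups: the chart maps are open immersions; torsion on the charts.
-/
import Groth.Agent.FormBlow.ExistLocal
import Groth.Agent.FormBlow.Restrict
import Groth.Agent.FormBlow.AffineRing
import Groth.Agent.FormBlow.ChartRingAlg

set_option autoImplicit false
set_option backward.isDefEq.respectTransparency false
set_option linter.style.haveILetI false

universe u

open CategoryTheory CategoryTheory.Limits AlgebraicGeometry TopologicalSpace Opposite FBlow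
open Groth.Agent.FSchCoh (OA RA projR transR transR_projR OA_ext OA_lift projR_surjective)

noncomputable section

namespace Groth.Agent.FormBlow

/-- Ring maps out of a chart ring agreeing on the base agree, if the distinguished generator stays regular. -/
theorem chartRing_hom_ext {A : Type u} [CommRing A] {r : ℕ} (f : Fin r → A) (i : Fin r)
    {S : Type*} [CommRing S] (σ τ : chartRing f i →+* S)
    (h : ∀ a, σ (algebraMap A _ a) = τ (algebraMap A _ a))
    (hnz : ∀ t, t * σ (algebraMap A _ (f i)) = 0 → t = 0) : σ = τ := by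
  refine RingHom.ext fun z => ?_
  obtain ⟨⟨a, s⟩, hs⟩ := IsLocalization.surj (Submonoid.powers (f i)) (z : Localization.Away (f i))
  obtain ⟨n, hn⟩ := s.2
  have hz : z * algebraMap A (chartRing f i) (f i) ^ n = algebraMap A _ a := Subtype.ext (by
    push_cast
    rw [← map_pow, show f i ^ n = (s : A) from hn]
    exact hs)
  have h1 := congrArg σ hz
  rw [h a, ← hz, map_mul, map_mul, map_pow, map_pow, ← h (f i)] at h1
  refine sub_eq_zero.1 ?_
  have h2 : ∀ (m : ℕ) (t : S), t * σ (algebraMap A _ (f i)) ^ m = 0 → t = 0 := by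
    intro m
    induction m with
    | zero => intro t ht; rwa [pow_zero, mul_one] at ht
    | succ m ih => intro t ht; exact ih t (hnz _ (by rwa [mul_assoc, ← pow_succ]))
  exact h2 n _ (by rw [sub_mul, h1, sub_self])

variable {𝔛 : FSch.Sys.{u}} (h : 𝔛.IsFormal)

/-- Sections killed by a finite family vanish, if this holds up to a shift of the levels on an affine piece. -/
theorem eq_zero_of_levels_family {U : (𝔛.X 0).Opens} (hU : IsAffineOpen U) {ι : Type*} [Fintype ι]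
    (g : ι → OA 𝔛 h U)
    (hg : ∀ n, ∃ N, n ≤ N ∧ ∀ a : OA 𝔛 h U, (∀ l, projR 𝔛 h U N (g l * a) = 0) → projR 𝔛 h U n a = 0)
    {V : (𝔛.X 0).Opens} (hVU : V ≤ U) (t : OA 𝔛 h V) (ht : ∀ l, t * rs hVU (g l) = 0) : t = 0 := by
  classical
  refine OA_ext 𝔛 h V fun n => ?_
  rw [map_zero]
  obtain ⟨N, hnN, hN⟩ := hg n
  refine RingHom.mem_ker.1 ((IdealSh.ker (𝔛.OshProj h n)).mem_of_local fun x hx => ?_)
  obtain ⟨a, W, i, hxW, hW, hlev, hu⟩ := exists_basic_le h hU hVU hx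
  refine ⟨W, i, hxW, RingHom.mem_ker.2 ?_⟩
  show projR 𝔛 h W n (rs i t) = 0
  have hWU : W ≤ U := i.trans hVU
  have key : ∀ (D : (𝔛.X N).Opens) (e : D ≤ 𝔛.lvU h N U), D = (𝔛.X N).basicOpen (projR 𝔛 h U N a) →
      ∀ t' : Γ(𝔛.X N, D), (∀ l, (𝔛.X N).presheaf.map (homOfLE e).op (projR 𝔛 h U N (g l)) * t' = 0) →
        ∃ (k j : ℕ) (b : OA 𝔛 h U),
          t' * (𝔛.X N).presheaf.map (homOfLE e).op (projR 𝔛 h U N a) ^ k =
            (𝔛.X N).presheaf.map (homOfLE e).op (projR 𝔛 h U N b) ∧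
          ∀ l, projR 𝔛 h U N (g l * (a ^ j * b)) = 0 := by
    rintro D e rfl t' ht'
    haveI := (FSchAff.isAffineOpen_lvU 𝔛 h hU N).isLocalization_basicOpen (projR 𝔛 h U N a)
    obtain ⟨k, b, hb⟩ := IsLocalization.Away.surj (projR 𝔛 h U N a) t'
    obtain ⟨b, rfl⟩ := projR_surjective 𝔛 h hU N b
    have hres : algebraMap (RA 𝔛 h U N) Γ(𝔛.X N, (𝔛.X N).basicOpen (projR 𝔛 h U N a)) =
        ((𝔛.X N).presheaf.map (homOfLE e).op).hom := rfl
    have hgb : ∀ l, ∃ j : ℕ, projR 𝔛 h U N a ^ j * projR 𝔛 h U N (g l * b) = 0 := fun l => by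
      have hgb : algebraMap (RA 𝔛 h U N) Γ(𝔛.X N, (𝔛.X N).basicOpen (projR 𝔛 h U N a))
          (projR 𝔛 h U N (g l * b)) = 0 := by
        rw [map_mul, map_mul, ← hb, hres, ← mul_assoc, ht' l, zero_mul]
      obtain ⟨⟨_, j, rfl⟩, hj⟩ :=
        (IsLocalization.map_eq_zero_iff (Submonoid.powers (projR 𝔛 h U N a)) _ _).1 hgb
      exact ⟨j, hj⟩
    choose j hj using hgb
    refine ⟨k, ∑ l, j l, b, hb, fun l => ?_⟩
    obtain ⟨d, hd⟩ := Nat.exists_eq_add_of_le
      (Finset.single_le_sum (f := j) (fun _ _ => Nat.zero_le _) (Finset.mem_univ l))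
    rw [hd, pow_add, show g l * (a ^ j l * a ^ d * b) = a ^ d * (a ^ j l * (g l * b)) by ring,
      map_mul (projR 𝔛 h U N) (a ^ d), map_mul (projR 𝔛 h U N) (a ^ j l), map_pow _ a (j l), hj l, mul_zero]
  have ht' : ∀ l, (𝔛.X N).presheaf.map (homOfLE (lvU_mono h hWU N)).op (projR 𝔛 h U N (g l)) *
      projR 𝔛 h W N (rs i t) = 0 := fun l => by
    rw [← projR_rs h hWU, ← map_mul]
    have := congrArg (rs i) (ht l)
    rw [map_mul, map_zero, rs_rs] at this
    rw [mul_comm, this, map_zero]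
  obtain ⟨k, j, b, hb, hgb⟩ := key _ (lvU_mono h hWU N) (hlev N) _ ht'
  rw [← projR_rs h hWU, ← projR_rs h hWU, ← map_pow, ← map_mul] at hb
  have hb' : projR 𝔛 h W n (rs i t * rs hWU a ^ k) = projR 𝔛 h W n (rs hWU b) := by
    rw [← sub_eq_zero, ← map_sub]
    exact projR_eq_zero_of_le h hnN (by rw [map_sub, hb, sub_self])
  have h1 := congrArg ((𝔛.X n).presheaf.map (homOfLE (lvU_mono h hWU n)).op) (hN _ hgb)
  rw [← projR_rs h hWU, map_zero, map_mul, map_pow, map_mul, map_pow] at h1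
  have hua := hu.map (projR 𝔛 h W n)
  rw [(hua.pow j).mul_right_eq_zero] at h1
  rw [h1, map_mul, map_pow, (hua.pow k).mul_left_eq_zero] at hb'
  exact hb'

/-- On the formal spectrum of a ring, sections killed by all elements of `I` vanish if this holds up to a shift. -/
theorem eq_zero_spf {R : Type u} [CommRing R] {I : Ideal R} (hI : I.FG) {B : Type u} [CommRing B] (σ : R →+* B)
    (har : ∀ n, ∃ N, n ≤ N ∧ ∀ b : B, (∀ r ∈ I, σ r * b ∈ (I.map σ) ^ (N + 1)) → b ∈ (I.map σ) ^ (n + 1))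
    {V : ((FSch.spf B (I.map σ)).X 0).Opens} (t : OA _ (isFormal_spf B (I.map σ)) V)
    (ht : ∀ r ∈ I, t * rs (le_top : V ≤ ⊤) (toSections B (I.map σ) (σ r)) = 0) : t = 0 := by
  obtain ⟨G, hG⟩ := hI
  haveI : IsAffine ((FSch.spf B (I.map σ)).X 0) := inferInstanceAs (IsAffine (Spec _))
  refine eq_zero_of_levels_family _ (isAffineOpen_top _) (fun l : G => toSections B (I.map σ) (σ l.1))
    (fun n => ?_) le_top t fun l => ht _ (hG ▸ Ideal.subset_span l.2)
  obtain ⟨N, hnN, hN⟩ := har n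
  refine ⟨N, hnN, fun a ha => ?_⟩
  obtain ⟨b, hb⟩ := toLevel_surjective B (I.map σ) N (projR _ (isFormal_spf B (I.map σ)) ⊤ N a)
  have hb' : b ∈ (I.map σ) ^ (n + 1) := by
    refine hN b fun r hr => ?_
    rw [← hG] at hr
    induction hr using Submodule.span_induction with
    | mem g hg =>
      have h1 := ha ⟨g, hg⟩
      rw [map_mul, ← hb, projR_toSections, ← map_mul, toLevel_eq_zero_iff] at h1
      exact h1
    | zero => rw [map_zero, zero_mul]; exact zero_mem _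
    | add x y _ _ hx hy => rw [map_add, add_mul]; exact add_mem hx hy
    | smul c x _ hx => rw [smul_eq_mul, map_mul, mul_assoc]; exact Ideal.mul_mem_left _ _ hx
  have h1 : projR _ (isFormal_spf B (I.map σ)) ⊤ N (a - toSections B (I.map σ) b) = 0 := by
    rw [map_sub, projR_toSections, hb, sub_self]
  have h2 := projR_eq_zero_of_le (isFormal_spf B (I.map σ)) hnN h1
  rwa [map_sub, projR_toSections_eq_zero (I.map σ) n hb', sub_zero] at h2

variable {𝔜 : FSch.Sys.{u}} (h𝔜 : 𝔜.IsFormal) {R : Type u} [CommRing R] {I : Ideal R}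

/-- A chart of an admissible formal blowing-up at a point: an open immersion into the formal spectrum of a chart
ring, compatible with the maps to the base. -/
theorem exists_openImm_chart (p : 𝔛 ⟶ FSch.spf R I) (hp : FSch.IsAdicHom p)
    (hI : I.FG) (J : IdealSh (𝔛.Osh h)) (hJ : IsCohOpen 𝔛 h J) (b : 𝔜 ⟶ 𝔛) (hb : IsAdmBlowUp b h𝔜 h J)
    (x : 𝔜.X 0) :
    ∃ (U : (𝔛.X 0).Opens) (_ : IsAffineOpen U) (r : ℕ) (f : Fin r → OA 𝔛 h U) (i : Fin r)
      (V : (𝔜.X 0).Opens) (_ : x ∈ V)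
      (k : FSch.spf (chartRing f i) (I.map ((algebraMap (OA 𝔛 h U) (chartRing f i)).comp (rho h p U))) ⟶ 𝔜)
      (φ : 𝔜.restrictOpen h𝔜 V ⟶ FSch.spf (chartRing f i) (I.map ((algebraMap (OA 𝔛 h U) (chartRing f i)).comp (rho h p U)))),
      φ ≫ k = 𝔜.restrictOpenι h𝔜 V ∧ (∀ n, IsOpenImmersion ((φ : FSch.Hom _ _).app n)) ∧
      k ≫ b ≫ p = FSch.spfMap _ I ((algebraMap (OA 𝔛 h U) (chartRing f i)).comp (rho h p U)) Ideal.le_comap_map := by
  obtain ⟨U, -, hxU, hgood⟩ := exists_goodOpen h hp hI hJ ((b : FSch.Hom 𝔜 𝔛).app 0 x) ⊤ trivial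
  obtain ⟨hU, r, c, f, hfJ, hJf, hpow⟩ := hgood
  obtain ⟨V, jV, i, hxV, hinv⟩ := exists_generator_nhd h h𝔜 f hfJ hJf b hb.2.1 hxU
  obtain ⟨k, φ, e, e', ek, -, hka, hφa⟩ := exists_chart h h𝔜 p hp hI hU J b hb f hfJ hJf hpow i jV hinv
  let B := ↥(chartRing f i)
  let σ₀ : R →+* B := (algebraMap (OA 𝔛 h U) (chartRing f i)).comp (rho h p U)
  let KB : Ideal B := I.map σ₀
  let hZ := isFormal_spf B KB
  let ιV := 𝔜.restrictOpenι h𝔜 V
  let hVf := isFormal_restrictOpen h𝔜 V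
  let Ω : ((FSch.spf B KB).X 0).Opens := (k : FSch.Hom _ _).app 0 ⁻¹ᵁ V
  let hΩf := isFormal_restrictOpen hZ Ω
  let ιΩ := (FSch.spf B KB).restrictOpenι hZ Ω
  refine ⟨U, hU, r, f, i, V, hxV, k, φ, ek, ?_, ?_⟩
  · have hφΩ : ⊤ ≤ (φ : FSch.Hom _ _).app 0 ⁻¹ᵁ Ω := by
      intro y _
      show ((φ ≫ k : FSch.Hom _ _).app 0) y ∈ V
      rw [ek]
      exact range_restrictOpenι h𝔜 V y
    have hΩk : ⊤ ≤ (ιΩ ≫ k : FSch.Hom _ _).app 0 ⁻¹ᵁ V := fun y _ => range_restrictOpenι hZ Ω y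
    let φ' := toOpen hZ hVf φ Ω hφΩ
    let k' := toOpen h𝔜 hΩf (ιΩ ≫ k) V hΩk
    have eφ' : φ' ≫ ιΩ = φ := toOpen_ι hZ hVf φ Ω hφΩ
    have ek' : k' ≫ ιV = ιΩ ≫ k := toOpen_ι h𝔜 hΩf (ιΩ ≫ k) V hΩk
    have hid : φ' ≫ k' = 𝟙 _ := by
      refine hom_eq_of_restrictOpenι h𝔜 V ?_
      rw [Category.assoc, Category.id_comp, show k' ≫ 𝔜.restrictOpenι h𝔜 V = ιΩ ≫ k from ek', ← Category.assoc, eφ']
      exact ek
    -- the other composite is the inclusion
    have htop : ∀ {ℨ : FSch.Sys.{u}} (g : ℨ ⟶ FSch.spf B KB), (⊤ : (ℨ.X 0).Opens) ≤ (g : FSch.Hom _ _).app 0 ⁻¹ᵁ ⊤ :=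
      fun _ _ _ => trivial
    have hagree : ∀ a, shPb hZ hΩf (k' ≫ φ) (W := ⊤) (V := ⊤) (fun _ hx => hx)
        (toSections B KB (algebraMap (OA 𝔛 h U) (chartRing f i) a)) =
        shPb hZ hΩf ιΩ (W := ⊤) (V := ⊤) (fun _ hx => hx)
          (toSections B KB (algebraMap (OA 𝔛 h U) (chartRing f i) a)) := by
      intro a
      have hk1 : (⊤ : (((FSch.spf B KB).restrictOpen hZ Ω).X 0).Opens) ≤ (k' : FSch.Hom _ _).app 0 ⁻¹ᵁ ⊤ :=
        fun _ _ => trivial
      have hk2 : (⊤ : (((FSch.spf B KB).restrictOpen hZ Ω).X 0).Opens) ≤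
          (k' ≫ ιV ≫ b : FSch.Hom _ _).app 0 ⁻¹ᵁ U := fun y _ => e' trivial
      have hk3 : (⊤ : (((FSch.spf B KB).restrictOpen hZ Ω).X 0).Opens) ≤
          (ιΩ ≫ k ≫ b : FSch.Hom _ _).app 0 ⁻¹ᵁ U := fun y _ => e trivial
      refine (shPb_comp hZ hVf φ hΩf k' (W := ⊤) (V' := ⊤) (fun _ hx => hx) hk1 _ _).trans ?_
      refine (congrArg (shPb hVf hΩf k' hk1) (hφa a)).trans ?_
      refine (shPb_comp h hVf (ιV ≫ b) hΩf k' e' hk1 hk2 a).symm.trans ?_
      refine (shPb_congr h hΩf (by rw [← Category.assoc, ek', Category.assoc]) hk2 hk3 a).trans ?_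
      refine (shPb_comp h hZ (k ≫ b) hΩf ιΩ e (fun _ hx => hx) hk3 a).trans ?_
      exact congrArg (shPb hZ hΩf ιΩ (W := ⊤) (V := ⊤) (fun _ hx => hx)) (hka a)
    have hkk : k' ≫ φ = ιΩ := by
      refine hom_spf_ext hΩf KB _ _ fun z => ?_
      refine RingHom.congr_fun (chartRing_hom_ext f i
        ((shPb hZ hΩf (k' ≫ φ) (W := ⊤) (V := ⊤) (fun _ hx => hx)).comp (toSections B KB))
        ((shPb hZ hΩf ιΩ (W := ⊤) (V := ⊤) (fun _ hx => hx)).comp (toSections B KB)) hagree ?_) z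
      intro t ht
      have hdiv : ∀ z ∈ KB ^ (c + 1), algebraMap (OA 𝔛 h U) (chartRing f i) (f i) ∣ z := by
        intro z hz
        rw [← Ideal.mem_span_singleton]
        refine (?_ : KB ^ (c + 1) ≤ Ideal.span {algebraMap (OA 𝔛 h U) (chartRing f i) (f i)}) hz
        rw [← Ideal.map_pow, Ideal.map_le_iff_le_comap]
        intro a ha
        show algebraMap (OA 𝔛 h U) (chartRing f i) (rho h p U a) ∈
          Ideal.span {algebraMap (OA 𝔛 h U) (chartRing f i) (f i)}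
        refine (Ideal.map_le_iff_le_comap (f := algebraMap (OA 𝔛 h U) (chartRing f i))).2 ?_
          (Ideal.mem_map_of_mem _ (hpow a ha))
        rw [Ideal.span_le]
        rintro _ ⟨j, rfl⟩
        exact Ideal.mem_span_singleton.2 (chartRing_dvd f i j)
      have hfi : NzdOn (O := (FSch.spf B KB).Osh hZ) ⊤
          (toSections B KB (algebraMap (OA 𝔛 h U) (chartRing f i) (f i))) :=
        nzdOn_spf KB (chartRing_nzd_self f i) hdiv
      have hΩ := nzdOn_restrictOpen hZ (hfi.res (le_top : Ω ≤ ⊤))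
      refine hΩ ⊤ le_rfl t ?_
      rw [rs_self]
      refine Eq.trans (congrArg (t * ·) ?_) ht
      refine Eq.trans ?_ (hagree (f i)).symm
      exact rs_pb _ _ (le_top : Ω ≤ ⊤) (top_le_restrictOpenι hZ Ω) _
    have hid' : k' ≫ φ' = 𝟙 _ := by
      refine hom_eq_of_restrictOpenι hZ Ω ?_
      rw [Category.assoc, Category.id_comp, show φ' ≫ (FSch.spf B KB).restrictOpenι hZ Ω = φ from eφ']
      exact hkk
    intro n
    haveI : IsIso ((φ' : FSch.Hom _ _).app n) :=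
      ⟨(k' : FSch.Hom _ _).app n, congrArg (fun ψ : _ ⟶ _ => (ψ : FSch.Hom _ _).app n) hid,
        congrArg (fun ψ : _ ⟶ _ => (ψ : FSch.Hom _ _).app n) hid'⟩
    rw [← eφ']
    show IsOpenImmersion ((φ' : FSch.Hom _ _).app n ≫ (ιΩ : FSch.Hom _ _).app n)
    haveI : IsOpenImmersion ((ιΩ : FSch.Hom _ _).app n) :=
      inferInstanceAs (IsOpenImmersion ((FSch.spf B KB).lvU hZ n Ω).ι)
    infer_instance
  · refine hom_spf_ext hZ I _ _ fun a => ?_
    rw [shPb_spfMap, ← Category.assoc, shPb_comp (W := ⊤) (isFormal_spf R I) h p hZ (k ≫ b) (fun _ _ => trivial) e]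
    exact hka (rho h p U a)

end Groth.Agent.FormBlow
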