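/-
Ring maps from the completed chart algebras to sections of formal systems.
-/
import Groth.Agent.FormBlow.Hom
import Groth.Agent.AdicRingLib.Lift

set_option autoImplicit false
set_option backward.isDefEq.respectTransparency false
set_option linter.style.haveILetI false

universe u

open CategoryTheory CategoryTheory.Limits AlgebraicGeometry TopologicalSpace Opposite FBlow
open Groth.Agent.FSchCoh (OA RA projR transR transR_projR OA_ext OA_lift projR_surjective)

noncomputable section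

namespace Groth.Agent.FormBlow

open AdicRing

variable {R : Type u} [CommRing R] {I : Ideal R} {A : Type u} [CommRing A] [Algebra R A] {r : ℕ}
  (f : Fin r → A) (i : Fin r)

theorem map_pow_chart (C : Type u) [CommRing C] [Algebra R C] [Algebra A C] [IsScalarTower R A C] (n : ℕ) :
    (I.map (algebraMap R C)) ^ n = ((I.map (algebraMap R A)) ^ n).map (algebraMap A C) := by
  rw [← Ideal.map_pow, ← Ideal.map_pow, Ideal.map_map, ← IsScalarTower.algebraMap_eq]

theorem exists_approx (hI : I.FG) {S : Type u} [CommRing S] [Algebra R S]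
    (z : AdicCompletion (I.map (algebraMap R S)) S) (n : ℕ) :
    ∃ s : S, z - algebraMap S (AdicCompletion (I.map (algebraMap R S)) S) s ∈
      (I ^ n).map (algebraMap R (AdicCompletion (I.map (algebraMap R S)) S)) := by
  obtain ⟨s, hs⟩ := Submodule.Quotient.mk_surjective _
    (AdicCompletion.eval (I.map (algebraMap R S)) S n z)
  refine ⟨s, ?_⟩
  have hker : z - AdicCompletion.of _ S s ∈
      LinearMap.ker (AdicCompletion.eval (I.map (algebraMap R S)) S n) := by
    rw [LinearMap.mem_ker, map_sub, sub_eq_zero, ← hs]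
    rfl
  rw [← AdicCompletion.pow_smul_top_eq_ker_eval (hI.map _), Ideal.smul_top_eq_map, Submodule.restrictScalars_mem,
    ← Ideal.map_pow, Ideal.map_map, ← IsScalarTower.algebraMap_eq] at hker
  exact hker

theorem chartAdm_dvd (j : Fin r) :
    algebraMap A (chartAdm I f i) (f i) ∣ algebraMap A (chartAdm I f i) (f j) := by
  by_cases hj : j = i
  · subst hj
    exact dvd_rfl
  · refine Dvd.intro (Ideal.Quotient.mk _ (algebraMap (chartAlg f i) (chartCompl I f i)
      (Ideal.Quotient.mk _ (MvPolynomial.X ⟨j, hj⟩)))) ?_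
    show Ideal.Quotient.mk _ (algebraMap (chartAlg f i) (chartCompl I f i) (algebraMap A (chartAlg f i) (f i))) * _ =
      Ideal.Quotient.mk _ (algebraMap (chartAlg f i) (chartCompl I f i) (algebraMap A (chartAlg f i) (f j)))
    rw [← map_mul, ← map_mul]
    congr 2
    show (Ideal.Quotient.mk _ (MvPolynomial.C (f i) : MvPolynomial {j : Fin r // j ≠ i} A) : chartAlg f i) *
        Ideal.Quotient.mk _ (MvPolynomial.X (⟨j, hj⟩ : {j : Fin r // j ≠ i})) =
      Ideal.Quotient.mk _ (MvPolynomial.C (f j))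
    rw [← map_mul]
    exact Ideal.Quotient.eq.2 (Ideal.subset_span ⟨⟨j, hj⟩, rfl⟩)

theorem chartAdm_nzd (b : chartAdm I f i) (hb : algebraMap A (chartAdm I f i) (f i) * b = 0) : b = 0 := by
  obtain ⟨z, rfl⟩ := Ideal.Quotient.mk_surjective b
  change Ideal.Quotient.mk _ (algebraMap A (chartCompl I f i) (f i)) * Ideal.Quotient.mk _ z = 0 at hb
  rw [← map_mul, Ideal.Quotient.eq_zero_iff_mem] at hb
  have hmono : Monotone fun n : ℕ => (Submodule.torsionBy (chartCompl I f i) (chartCompl I f i)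
      (algebraMap A (chartCompl I f i) (f i) ^ n) : Submodule (chartCompl I f i) (chartCompl I f i)) := by
    intro m n hmn y hy
    rw [Submodule.mem_torsionBy_iff, smul_eq_mul] at hy ⊢
    rw [← Nat.add_sub_cancel' hmn, pow_add, mul_right_comm, hy, zero_mul]
  rw [Submodule.mem_iSup_of_directed _ hmono.directed_le] at hb
  obtain ⟨n, hn⟩ := hb
  rw [Ideal.Quotient.eq_zero_iff_mem, Submodule.mem_iSup_of_directed _ hmono.directed_le]
  refine ⟨n + 1, ?_⟩
  rw [Submodule.mem_torsionBy_iff, smul_eq_mul] at hn ⊢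
  rw [pow_succ, mul_assoc, hn]

variable {𝔖 : FSch.Sys.{u}} (hS : 𝔖.IsFormal) (η : A →+* OA 𝔖 hS ⊤)
  (hη : ∀ n, ∀ a ∈ (I.map (algebraMap R A)) ^ (n + 1), projR 𝔖 hS ⊤ n (η a) = 0)
  (hnz : ∀ t : OA 𝔖 hS ⊤, t * η (f i) = 0 → t = 0)

include hη in
theorem projR_eq_zero_of_chart {C : Type u} [CommRing C] [Algebra R C] [Algebra A C] [IsScalarTower R A C]
    (ψ : C →+* OA 𝔖 hS ⊤) (hψ : ∀ a, ψ (algebraMap A C a) = η a) (n : ℕ) {z : C}
    (hz : z ∈ (I.map (algebraMap R C)) ^ (n + 1)) : projR 𝔖 hS ⊤ n (ψ z) = 0 := by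
  rw [map_pow_chart (A := A)] at hz
  refine RingHom.mem_ker.1 (show z ∈ RingHom.ker ((projR 𝔖 hS ⊤ n).comp ψ) from ?_)
  refine (Ideal.map_le_iff_le_comap.2 fun a ha => ?_) hz
  show projR 𝔖 hS ⊤ n (ψ (algebraMap A C a)) = 0
  rw [hψ]
  exact hη n a ha

include hη hnz in
/-- A map from `A` under which `f i` is regular and divides every `f j` extends to the chart. -/
theorem exists_chartAdm_hom (hdvd : ∀ j, η (f i) ∣ η (f j)) :
    ∃ ψ : chartAdm I f i →+* OA 𝔖 hS ⊤, ∀ a, ψ (algebraMap A (chartAdm I f i) a) = η a := by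
  choose e he using hdvd
  let g₀ : MvPolynomial {j : Fin r // j ≠ i} A →+* OA 𝔖 hS ⊤ := MvPolynomial.eval₂Hom η fun j => e j.1
  let g : chartAlg f i →+* OA 𝔖 hS ⊤ := Ideal.Quotient.lift _ g₀ (by
    intro p hp
    refine RingHom.mem_ker.1 ((Ideal.span_le.2 ?_) hp)
    rintro _ ⟨j, rfl⟩
    show g₀ _ = 0
    simp [g₀, ← he j.1])
  have hgA : ∀ a, g (algebraMap A (chartAlg f i) a) = η a := fun a => by
    show g₀ (MvPolynomial.C a) = η a
    simp [g₀]
  let J : Ideal (chartAlg f i) := I.map (algebraMap R (chartAlg f i))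
  have hgJ : ∀ n, ∀ s ∈ J ^ (n + 1), (projR 𝔖 hS ⊤ n).comp g s = 0 := fun n s hs =>
    projR_eq_zero_of_chart hS η hη g hgA n hs
  let φ : ∀ n, chartCompl I f i →+* RA 𝔖 hS ⊤ n := fun n =>
    (Ideal.Quotient.lift (J ^ (n + 1)) ((projR 𝔖 hS ⊤ n).comp g) (hgJ n)).comp
      (AdicCompletion.evalₐ J (n + 1)).toRingHom
  have hφ : ∀ n z, transR 𝔖 hS ⊤ n (φ (n + 1) z) = φ n z := by
    intro n z
    obtain ⟨y, rfl⟩ := AdicCompletion.mk_surjective J (chartAlg f i) z
    have e₁ := AdicCompletion.evalₐ_mk J (n + 1 + 1) y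
    have e₂ := AdicCompletion.evalₐ_mk J (n + 1) y
    show transR 𝔖 hS ⊤ n (Ideal.Quotient.lift _ _ (hgJ (n + 1))
        (AdicCompletion.evalₐ J (n + 1 + 1) (AdicCompletion.mk J (chartAlg f i) y))) =
      Ideal.Quotient.lift _ _ (hgJ n) (AdicCompletion.evalₐ J (n + 1) (AdicCompletion.mk J (chartAlg f i) y))
    refine (congrArg (fun t => transR 𝔖 hS ⊤ n (Ideal.Quotient.lift _ _ (hgJ (n + 1)) t)) e₁).trans
      (Eq.trans ?_ (congrArg (fun t => Ideal.Quotient.lift _ _ (hgJ n) t) e₂).symm)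
    show transR 𝔖 hS ⊤ n (projR 𝔖 hS ⊤ (n + 1) (g (y.val (n + 1 + 1)))) = projR 𝔖 hS ⊤ n (g (y.val (n + 1)))
    rw [transR_projR, ← sub_eq_zero, ← map_sub, ← map_sub]
    refine hgJ n _ ?_
    have h1 := y.property (show n + 1 ≤ n + 1 + 1 by omega)
    rw [SModEq.comm, SModEq.sub_mem] at h1
    simpa using h1
  let ψ₁ := liftHom hS φ hφ
  have hof : ∀ s, ψ₁ (algebraMap (chartAlg f i) (chartCompl I f i) s) = g s := fun s => by
    refine OA_ext 𝔖 hS ⊤ fun n => ?_
    rw [projR_liftHom]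
    show Ideal.Quotient.lift (J ^ (n + 1)) _ (hgJ n) (AdicCompletion.evalₐ J (n + 1) (AdicCompletion.of J _ s)) = _
    rw [AdicCompletion.evalₐ_of]
    rfl
  have hT : (⨆ n : ℕ, Submodule.torsionBy (chartCompl I f i) (chartCompl I f i)
      (algebraMap A (chartCompl I f i) (f i) ^ n) : Ideal (chartCompl I f i)) ≤ RingHom.ker ψ₁ := by
    refine iSup_le fun n y hy => ?_
    rw [Submodule.mem_torsionBy_iff, smul_eq_mul] at hy
    have h1 := congrArg ψ₁ hy
    rw [map_mul, map_pow, map_zero, show ψ₁ (algebraMap A (chartCompl I f i) (f i)) = η (f i) from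
      (hof _).trans (hgA _)] at h1
    clear hy
    rw [RingHom.mem_ker]
    induction n generalizing y with
    | zero => simpa using h1
    | succ n ih =>
      rw [pow_succ, mul_right_comm] at h1
      have h2 := hnz _ h1
      generalize ψ₁ y = w at h2 ⊢
      clear h1 ih
      induction n with
      | zero => simpa using h2
      | succ n ih2 =>
        rw [pow_succ, mul_right_comm] at h2
        exact ih2 (hnz _ h2)
  exact ⟨Ideal.Quotient.lift _ ψ₁ hT, fun a => (hof _).trans (hgA a)⟩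

include hη hnz in
theorem chartAdm_hom_ext (hI : I.FG) (ψ ψ' : chartAdm I f i →+* OA 𝔖 hS ⊤)
    (h₁ : ∀ a, ψ (algebraMap A (chartAdm I f i) a) = η a)
    (h₂ : ∀ a, ψ' (algebraMap A (chartAdm I f i) a) = η a) : ψ = ψ' := by
  let π : chartAlg f i →+* chartAdm I f i :=
    (Ideal.Quotient.mk _).comp (algebraMap (chartAlg f i) (chartCompl I f i))
  have hπ : ψ.comp π = ψ'.comp π := by
    refine Ideal.Quotient.ringHom_ext (MvPolynomial.ringHom_ext (fun a => (h₁ a).trans (h₂ a).symm) fun j => ?_)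
    refine sub_eq_zero.1 (hnz _ ?_)
    rw [sub_mul, sub_eq_zero]
    have hrel : algebraMap A (chartAdm I f i) (f i) * π (Ideal.Quotient.mk _ (MvPolynomial.X j)) =
        algebraMap A (chartAdm I f i) (f j.1) := by
      show π (Ideal.Quotient.mk _ (MvPolynomial.C (f i))) * _ = π (Ideal.Quotient.mk _ (MvPolynomial.C (f j.1)))
      rw [← map_mul, ← map_mul]
      exact congrArg π (Ideal.Quotient.eq.2 (Ideal.subset_span ⟨j, rfl⟩))
    have e₁ := congrArg ψ hrel
    have e₂ := congrArg ψ' hrel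
    rw [map_mul, h₁, h₁] at e₁
    rw [map_mul, h₂, h₂] at e₂
    rw [mul_comm, mul_comm _ (η (f i))]
    exact e₁.trans e₂.symm
  refine Ideal.Quotient.ringHom_ext (RingHom.ext fun z => OA_ext 𝔖 hS ⊤ fun n => ?_)
  obtain ⟨s, hs⟩ := exists_approx hI z (n + 1)
  have hs' : Ideal.Quotient.mk _ z - π s ∈ (I.map (algebraMap R (chartAdm I f i))) ^ (n + 1) := by
    rw [← Ideal.map_pow]
    show Ideal.Quotient.mk _ z - Ideal.Quotient.mk _ (algebraMap (chartAlg f i) (chartCompl I f i) s) ∈ _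
    rw [← map_sub]
    have h := Ideal.mem_map_of_mem (Ideal.Quotient.mk (⨆ n : ℕ, Submodule.torsionBy (chartCompl I f i)
      (chartCompl I f i) (algebraMap A (chartCompl I f i) (f i) ^ n) : Ideal (chartCompl I f i))) hs
    rw [Ideal.map_map] at h
    exact h
  have k₁ := projR_eq_zero_of_chart hS η hη ψ h₁ n hs'
  have k₂ := projR_eq_zero_of_chart hS η hη ψ' h₂ n hs'
  rw [map_sub, map_sub, sub_eq_zero] at k₁ k₂
  show projR 𝔖 hS ⊤ n (ψ (Ideal.Quotient.mk _ z)) = projR 𝔖 hS ⊤ n (ψ' (Ideal.Quotient.mk _ z))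
  rw [k₁, k₂]
  exact congrArg (fun φ : chartAlg f i →+* OA 𝔖 hS ⊤ => projR 𝔖 hS ⊤ n (φ s)) hπ

end Groth.Agent.FormBlow
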