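/-
Open ideals of formal systems and ideal data on the levels.
-/
import Groth.Agent.FormBlow.Local
import Groth.Agent.FormBlow.ExistBasic
import Groth.Agent.RZExt.ExtendIdeal

set_option autoImplicit false
set_option backward.isDefEq.respectTransparency false
set_option linter.style.haveILetI false

universe u

open CategoryTheory CategoryTheory.Limits AlgebraicGeometry TopologicalSpace Opposite FBlow
open Groth.Agent.FSchCoh (OA RA projR transR transR_projR OA_ext OA_lift projR_surjective transR_surjective)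

noncomputable section

namespace Groth.Agent.FormBlow

/-- On an affine open the sections of the sheaf of ideal data are its ideal there. -/
theorem mem_ofData_iff_affine {X : Scheme.{u}} (𝓘 : X.IdealSheafData) (U : X.affineOpens) (s : Γ(X, U.1)) :
    s ∈ (IdealSh.ofData 𝓘).sect U.1 ↔ s ∈ 𝓘.ideal U := by
  refine ⟨fun hs => ?_, fun hs x hx => ⟨U, le_rfl, hx, ?_⟩⟩
  · rw [← 𝓘.ker_subschemeι_app, RingHom.mem_ker]
    refine 𝓘.subscheme.IsSheaf.section_ext fun p hp => ?_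
    obtain ⟨V, i, hpV, hV⟩ := hs (𝓘.subschemeι p) hp
    refine ⟨𝓘.subschemeι ⁻¹ᵁ V.1, fun q hq => i hq, hpV, ?_⟩
    rw [← 𝓘.ker_subschemeι_app, RingHom.mem_ker] at hV
    rw [map_zero, ← hV]
    exact (congr($(𝓘.subschemeι.naturality (homOfLE i).op) s)).symm
  · rwa [show X.presheaf.map (homOfLE (le_refl U.1)).op s = s from congr($(X.presheaf.map_id _) s)]

/-- Direct images of ideal data along affine morphisms. -/
theorem mem_map_ideal_iff {X Y : Scheme.{u}} (f : X ⟶ Y) [QuasiCompact f] (I : X.IdealSheafData)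
    (U : Y.affineOpens) (V : X.affineOpens) (e : V.1 = f ⁻¹ᵁ U.1) (c : Γ(Y, U.1)) :
    c ∈ (I.map f).ideal U ↔ f.appLE U.1 V.1 e.le c ∈ I.ideal V := by
  obtain ⟨V, hV⟩ := V
  change V = f ⁻¹ᵁ U.1 at e
  subst e
  rw [Scheme.IdealSheafData.ideal_map I f U hV, Ideal.mem_comap, Scheme.Hom.app_eq_appLE]

variable {𝔛 𝔜 : FSch.Sys.{u}} (h : 𝔛.IsFormal)
include h

/-- The open of a level over an affine open, as an affine open. -/
abbrev lvA {U : (𝔛.X 0).Opens} (hU : IsAffineOpen U) (n : ℕ) : (𝔛.X n).affineOpens :=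
  ⟨𝔛.lvU h n U, FSchAff.isAffineOpen_lvU 𝔛 h hU n⟩

/-- Every affine open of a level lies over an affine open of the common space. -/
theorem exists_lvA_eq (n : ℕ) (D : (𝔛.X n).affineOpens) :
    ∃ (W : (𝔛.X 0).Opens) (hW : IsAffineOpen W), lvA h hW n = D := by
  haveI := 𝔛.toX_isClosedImmersion h n
  refine ⟨𝔛.toX n ⁻¹ᵁ D.1, D.2.preimage _, Subtype.ext (Opens.ext (Set.ext fun y => ?_))⟩
  show (𝔛.toX n).base (𝔛.gInv h n y) ∈ D.1 ↔ y ∈ D.1
  rw [← ConcreteCategory.comp_apply, FSch.Sys.gInv_toX_base]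
  rfl

theorem mem_ofLevel_affine_iff (n : ℕ) (𝒜 : (𝔛.X n).IdealSheafData) {U : (𝔛.X 0).Opens} (hU : IsAffineOpen U)
    (s : OA 𝔛 h U) : s ∈ (ofLevel 𝔛 h n 𝒜).sect U ↔ projR 𝔛 h U n s ∈ 𝒜.ideal (lvA h hU n) :=
  (mem_ofLevel_iff 𝔛 h n 𝒜 U s).trans (mem_ofData_iff_affine 𝒜 (lvA h hU n) _)

theorem map_projR_sect (n : ℕ) (𝒜 : (𝔛.X n).IdealSheafData) {U : (𝔛.X 0).Opens} (hU : IsAffineOpen U) :
    ((ofLevel 𝔛 h n 𝒜).sect U).map (projR 𝔛 h U n) = 𝒜.ideal (lvA h hU n) := by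
  refine le_antisymm (Ideal.map_le_iff_le_comap.2 fun s hs => (mem_ofLevel_affine_iff h n 𝒜 hU s).1 hs)
    fun z hz => ?_
  obtain ⟨s, rfl⟩ := projR_surjective 𝔛 h hU n z
  exact Ideal.mem_map_of_mem _ ((mem_ofLevel_affine_iff h n 𝒜 hU s).2 hz)

/-- Ideal sheaves agreeing on the affine opens agree. -/
theorem idealSh_ext_affine {J K : IdealSh (𝔛.Osh h)}
    (he : ∀ U : (𝔛.X 0).Opens, IsAffineOpen U → J.sect U = K.sect U) : J = K := by
  refine idealSh_antisymm (fun V s hs => K.mem_of_local fun x hx => ?_) (fun V s hs => J.mem_of_local fun x hx => ?_)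
  all_goals
    obtain ⟨U, hU, hxU, hUV⟩ := exists_isAffineOpen_mem_and_subset (show x ∈ V from hx)
  · exact ⟨U, hUV, hxU, (he U hU).le (rs_mem J hUV hs)⟩
  · exact ⟨U, hUV, hxU, (he U hU).ge (rs_mem K hUV hs)⟩

variable {R : Type u} [CommRing R] {I : Ideal R} (p : 𝔛 ⟶ FSch.spf R I) (hp : FSch.IsAdicHom p) (hI : I.FG)
include hp hI

theorem ofLevel_le_relGen {n : ℕ} (𝒜 : (𝔛.X n).IdealSheafData) {U : (𝔛.X 0).Opens} (hU : IsAffineOpen U)
    {ι : Type*} (f : ι → OA 𝔛 h U)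
    (hgen : 𝒜.ideal (lvA h hU n) ≤ (Ideal.span (Set.range f)).map (projR 𝔛 h U n))
    (hpow : ∀ r ∈ I ^ (n + 1), rho h p U r ∈ Ideal.span (Set.range f)) :
    ofLevel 𝔛 h n 𝒜 ≤ relGen U f := by
  intro V s hs x hx
  obtain ⟨W, hW, hxW, hWle⟩ := exists_isAffineOpen_mem_and_subset (show x ∈ V ⊓ U from hx)
  have iV : W ≤ V := fun y hy => (hWle hy).1
  have iU : W ≤ U := fun y hy => (hWle hy).2
  refine ⟨W, iV, iU, hxW, ?_⟩
  have hsp : (Ideal.span (Set.range f)).map (rs (O := 𝔛.Osh h) iU) = Ideal.span (Set.range fun k => rs iU (f k)) := by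
    rw [Ideal.map_span, ← Set.range_comp]
    rfl
  have h1 := (mem_ofLevel_affine_iff h n 𝒜 hW (rs iV s)).1 (rs_mem _ iV hs)
  rw [← 𝒜.map_ideal (U := lvA h hW n) (V := lvA h hU n) (lvU_mono h iU n)] at h1
  have hkey : ((Ideal.span (Set.range f)).map (projR 𝔛 h U n)).map
      ((𝔛.X n).presheaf.map (homOfLE (lvU_mono h iU n)).op).hom ≤
      (Ideal.span (Set.range fun k => rs iU (f k))).map (projR 𝔛 h W n) := by
    refine Ideal.map_le_iff_le_comap.2 (Ideal.map_le_iff_le_comap.2 (Ideal.span_le.2 ?_))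
    rintro _ ⟨k, rfl⟩
    show ((𝔛.X n).presheaf.map (homOfLE (lvU_mono h iU n)).op).hom (projR 𝔛 h U n (f k)) ∈
      (Ideal.span (Set.range fun k => rs iU (f k))).map (projR 𝔛 h W n)
    rw [← projR_rs h iU]
    exact Ideal.mem_map_of_mem _ (Ideal.subset_span ⟨k, rfl⟩)
  have h2 := hkey (Ideal.map_mono hgen h1)
  rw [Ideal.mem_map_iff_of_surjective _ (projR_surjective 𝔛 h hW n)] at h2
  obtain ⟨e, he, hes⟩ := h2
  have hker : rs iV s - e ∈ RingHom.ker (projR 𝔛 h W n) := by rw [RingHom.mem_ker, map_sub, hes, sub_self]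
  rw [ker_projR_eq h p hp hI hW] at hker
  have hle : (I ^ (n + 1)).map (rho h p W) ≤ Ideal.span (Set.range fun k => rs iU (f k)) := by
    refine Ideal.map_le_iff_le_comap.2 fun r hr => ?_
    have h3 := Ideal.mem_map_of_mem (rs (O := 𝔛.Osh h) iU) (hpow r hr)
    rwa [rho_rs, hsp] at h3
  simpa using Ideal.add_mem _ (hle hker) he

theorem relGen_sect_eq_ofLevel {n : ℕ} (𝒜 : (𝔛.X n).IdealSheafData) {U : (𝔛.X 0).Opens} (hU : IsAffineOpen U)
    {ι : Type*} (f : ι → OA 𝔛 h U)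
    (hgen : 𝒜.ideal (lvA h hU n) = (Ideal.span (Set.range f)).map (projR 𝔛 h U n))
    (hpow : ∀ r ∈ I ^ (n + 1), rho h p U r ∈ Ideal.span (Set.range f)) {V : (𝔛.X 0).Opens} (hVU : V ≤ U) :
    (ofLevel 𝔛 h n 𝒜).sect V = (relGen U f).sect V := by
  refine le_antisymm (ofLevel_le_relGen h p hp hI 𝒜 hU f hgen.le hpow V) fun s hs => ?_
  refine mem_of_mem_relGen _ hVU (fun k => (mem_ofLevel_affine_iff h n 𝒜 hU (f k)).2 ?_) hs
  rw [hgen]
  exact Ideal.mem_map_of_mem _ (Ideal.subset_span ⟨k, rfl⟩)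

theorem rho_mem_ofLevel (n : ℕ) (𝒜 : (𝔛.X n).IdealSheafData) (U : (𝔛.X 0).Opens) {r : R} (hr : r ∈ I ^ (n + 1)) :
    rho h p U r ∈ (ofLevel 𝔛 h n 𝒜).sect U := by
  refine (mem_ofLevel_iff 𝔛 h n 𝒜 U _).2 ?_
  show projR 𝔛 h U n (rho h p U r) ∈ _
  rw [projR_rho_eq_zero h p U n hr]
  exact Ideal.zero_mem _

/-- The sections of an open ideal over an affine open generate it there. -/
theorem ofLevel_le_relGen_sect (n : ℕ) (𝒜 : (𝔛.X n).IdealSheafData) {U : (𝔛.X 0).Opens} (hU : IsAffineOpen U) :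
    ofLevel 𝔛 h n 𝒜 ≤ relGen U (fun a : (ofLevel 𝔛 h n 𝒜).sect U => a.1) := by
  have hspan : Ideal.span (Set.range fun a : (ofLevel 𝔛 h n 𝒜).sect U => (a.1 : OA 𝔛 h U)) = (ofLevel 𝔛 h n 𝒜).sect U := by
    refine le_antisymm (Ideal.span_le.2 ?_) fun z hz => Ideal.subset_span ⟨⟨z, hz⟩, rfl⟩
    rintro _ ⟨a, rfl⟩
    exact a.2
  refine ofLevel_le_relGen h p hp hI 𝒜 hU _ (by rw [hspan, map_projR_sect h n 𝒜 hU]) fun r hr => ?_
  rw [hspan]
  exact rho_mem_ofLevel h p hp hI n 𝒜 U hr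

theorem mem_map_ι_ideal_iff (n : ℕ) (𝒜 : (𝔛.X n).IdealSheafData) {U : (𝔛.X 0).Opens} (hU : IsAffineOpen U)
    (c : RA 𝔛 h U (n + 1)) :
    c ∈ (𝒜.map (𝔛.ι n)).ideal (lvA h hU (n + 1)) ↔ transR 𝔛 h U n c ∈ 𝒜.ideal (lvA h hU n) := by
  haveI := (h n).1
  rw [mem_map_ideal_iff (𝔛.ι n) 𝒜 (lvA h hU (n + 1)) (lvA h hU n) (𝔛.lvU_succ h n U).symm c]
  rfl

theorem ofLevel_map_ι (n : ℕ) (𝒜 : (𝔛.X n).IdealSheafData) :
    ofLevel 𝔛 h (n + 1) (𝒜.map (𝔛.ι n)) = ofLevel 𝔛 h n 𝒜 :=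
  idealSh_ext_affine h fun U hU => SetLike.ext fun s => by
    rw [mem_ofLevel_affine_iff h _ _ hU, mem_ofLevel_affine_iff h _ _ hU, mem_map_ι_ideal_iff h p hp hI n 𝒜 hU,
      transR_projR]

theorem idealFT_map_ι (n : ℕ) {𝒜 : (𝔛.X n).IdealSheafData} (h𝒜 : FSch.IdealFT 𝒜) :
    FSch.IdealFT (𝒜.map (𝔛.ι n)) := by
  classical
  intro D
  obtain ⟨U, hU, rfl⟩ := exists_lvA_eq h (n + 1) D
  obtain ⟨S, hS⟩ := h𝒜 (lvA h hU n)
  choose g hg using fun a : RA 𝔛 h U n => transR_surjective 𝔛 h hU n a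
  have hker : (RingHom.ker (transR 𝔛 h U n)).FG := by
    rw [ker_transR_eq h p hp hU n]
    exact (hI.pow (n := n + 1)).map _
  obtain ⟨G, hG⟩ := hker
  refine ⟨S.image g ∪ G, le_antisymm (Ideal.span_le.2 fun z hz => ?_) fun c hc => ?_⟩
  · rw [Finset.coe_union, Finset.coe_image] at hz
    refine (mem_map_ι_ideal_iff h p hp hI n 𝒜 hU z).2 ?_
    rcases hz with ⟨a, ha, rfl⟩ | hz
    · rw [hg, ← hS]
      exact Ideal.subset_span ha
    · rw [RingHom.mem_ker.1 (hG ▸ Ideal.subset_span hz)]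
      exact Ideal.zero_mem _
  · have h1 := (mem_map_ι_ideal_iff h p hp hI n 𝒜 hU c).1 hc
    rw [← hS] at h1
    have h2 : (Ideal.span (S : Set (RA 𝔛 h U n))) = (Ideal.span ((S.image g : Finset _) : Set _)).map (transR 𝔛 h U n) := by
      rw [Ideal.map_span, Finset.coe_image, ← Set.image_comp]
      congr 1
      ext a
      simp [hg]
    rw [h2, Ideal.mem_map_iff_of_surjective _ (transR_surjective 𝔛 h hU n)] at h1
    obtain ⟨e, he, hec⟩ := h1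
    have h3 : c - e ∈ Ideal.span (G : Set _) := hG.symm ▸ RingHom.mem_ker.2 (by rw [map_sub, hec, sub_self])
    rw [show c = (c - e) + e by ring, Finset.coe_union]
    exact Ideal.add_mem _ (Ideal.span_mono Set.subset_union_right h3) (Ideal.span_mono Set.subset_union_left he)

/-- Ideal data can be moved to higher levels. -/
theorem exists_raise {n N : ℕ} (hnN : n ≤ N) {𝒜 : (𝔛.X n).IdealSheafData} (h𝒜 : FSch.IdealFT 𝒜) :
    ∃ 𝒜' : (𝔛.X N).IdealSheafData, FSch.IdealFT 𝒜' ∧ ofLevel 𝔛 h N 𝒜' = ofLevel 𝔛 h n 𝒜 := by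
  induction N, hnN using Nat.le_induction with
  | base => exact ⟨𝒜, h𝒜, rfl⟩
  | succ m _ ih =>
    obtain ⟨𝒜', h', e⟩ := ih
    exact ⟨_, idealFT_map_ι h p hp hI m h', (ofLevel_map_ι h p hp hI m 𝒜').trans e⟩

omit hp hI

/-- Being a coherent open ideal is local. -/
theorem isCohOpen_of_local {J : IdealSh (𝔛.Osh h)}
    (hJ : ∀ x : 𝔛.X 0, ∃ (U : (𝔛.X 0).Opens) (K : IdealSh (𝔛.Osh h)), x ∈ U ∧ IsCohOpen 𝔛 h K ∧
      ∀ V ≤ U, J.sect V = K.sect V) : IsCohOpen 𝔛 h J := by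
  intro x
  obtain ⟨U, K, hxU, hK, he⟩ := hJ x
  obtain ⟨U', hxU', n, 𝒜, h𝒜, h𝒜e⟩ := hK x
  exact ⟨U ⊓ U', ⟨hxU, hxU'⟩, n, 𝒜, h𝒜, fun V hV =>
    (he V (hV.trans inf_le_left)).trans (h𝒜e V (hV.trans inf_le_right))⟩

theorem isCohOpen_ofLevel {n : ℕ} {𝒜 : (𝔛.X n).IdealSheafData} (h𝒜 : FSch.IdealFT 𝒜) :
    IsCohOpen 𝔛 h (ofLevel 𝔛 h n 𝒜) :=
  fun _ => ⟨⊤, trivial, n, 𝒜, h𝒜, fun _ _ => rfl⟩

theorem quasiSeparatedSpace_level [QuasiSeparatedSpace (𝔛.X 0)] (n : ℕ) : QuasiSeparatedSpace (𝔛.X n) := by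
  let e : 𝔛.X n ≃ₜ 𝔛.X 0 :=
    { toFun := fun y => 𝔛.gInv h n y
      invFun := fun x => (𝔛.toX n).base x
      left_inv := fun y => by
        show (𝔛.toX n).base (𝔛.gInv h n y) = y
        rw [← ConcreteCategory.comp_apply, FSch.Sys.gInv_toX_base]; rfl
      right_inv := fun x => by
        show 𝔛.gInv h n ((𝔛.toX n).base x) = x
        rw [← ConcreteCategory.comp_apply, FSch.Sys.toX_base_gInv]; rfl
      continuous_toFun := (𝔛.gInv h n).hom.continuous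
      continuous_invFun := (𝔛.toX n).base.hom.continuous }
  exact (quasiSeparatedSpace_congr e).2 inferInstance

theorem compactSpace_level [CompactSpace (𝔛.X 0)] (n : ℕ) : CompactSpace (𝔛.X n) :=
  ⟨by
    have h1 := (isCompact_univ (X := 𝔛.X 0)).image (𝔛.toX n).base.hom.continuous
    rwa [Set.image_univ, Set.range_eq_univ.2 (𝔛.toX_surjective h n)] at h1⟩

include hp hI

/-- On a quasi-compact quasi-separated space a coherent open ideal comes from a single level. -/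
theorem exists_level [CompactSpace (𝔛.X 0)] [QuasiSeparatedSpace (𝔛.X 0)] {J : IdealSh (𝔛.Osh h)}
    (hJ : IsCohOpen 𝔛 h J) (N₀ : ℕ) :
    ∃ (N : ℕ) (𝒜 : (𝔛.X N).IdealSheafData), N₀ ≤ N ∧ FSch.IdealFT 𝒜 ∧ J = ofLevel 𝔛 h N 𝒜 := by
  classical
  have hloc : ∀ x : 𝔛.X 0, ∃ (U : (𝔛.X 0).Opens) (n : ℕ) (𝒜 : (𝔛.X n).IdealSheafData),
      x ∈ U ∧ IsAffineOpen U ∧ FSch.IdealFT 𝒜 ∧ ∀ V ≤ U, J.sect V = (ofLevel 𝔛 h n 𝒜).sect V := by
    intro x
    obtain ⟨U₀, hxU₀, n, 𝒜, h𝒜, he⟩ := hJ x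
    obtain ⟨U, hU, hxU, hUU₀⟩ := exists_isAffineOpen_mem_and_subset hxU₀
    exact ⟨U, n, 𝒜, hxU, hU, h𝒜, fun V hV => he V (hV.trans hUU₀)⟩
  choose U n 𝒜 hxU hU h𝒜 he using hloc
  obtain ⟨t, ht⟩ := isCompact_univ.elim_finite_subcover (fun x => (U x : Set (𝔛.X 0))) (fun x => (U x).2)
    (fun x _ => Set.mem_iUnion.2 ⟨x, hxU x⟩)
  let N := max N₀ (t.sup n)
  choose ℬ hℬ hℬe using fun a : t => exists_raise h p hp hI
    ((Finset.le_sup (f := n) a.2).trans (le_max_right _ _) : n a.1 ≤ N) (h𝒜 a.1)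
  have heℬ : ∀ (a : t), ∀ V ≤ U a.1, J.sect V = (ofLevel 𝔛 h N (ℬ a)).sect V := fun a V hV => by
    rw [hℬe a]; exact he a.1 V hV
  haveI := quasiSeparatedSpace_level h N
  haveI := compactSpace_level h N
  let L : t → (𝔛.X N).Opens := fun a => 𝔛.lvU h N (U a.1)
  haveI hqcι : ∀ a, QuasiCompact (L a).ι := fun a => by
    haveI : IsAffine (L a).toScheme := FSchAff.isAffineOpen_lvU 𝔛 h (hU a.1) N
    exact quasiCompact_of_compactSpace _
  let 𝒞 := ⨅ a : t, ((ℬ a).comap (L a).ι).map (L a).ι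
  -- membership over an affine open inside a piece
  have hpiece : ∀ (a : t) {W : (𝔛.X 0).Opens} (hW : IsAffineOpen W) (_ : W ≤ U a.1) (c : RA 𝔛 h W N),
      c ∈ (((ℬ a).comap (L a).ι).map (L a).ι).ideal (lvA h hW N) ↔ c ∈ (ℬ a).ideal (lvA h hW N) := by
    intro a W hW hWU c
    have hle : 𝔛.lvU h N W ≤ L a := lvU_mono h hWU N
    have hG : IsAffineOpen ((L a).ι ⁻¹ᵁ 𝔛.lvU h N W) :=
      (lvA h hW N).2.preimage_of_isOpenImmersion _ (by rwa [Scheme.Opens.opensRange_ι])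
    have hbij : Function.Bijective ((L a).ι.appLE (𝔛.lvU h N W) ((L a).ι ⁻¹ᵁ 𝔛.lvU h N W) le_rfl) := by
      rw [← Scheme.Hom.app_eq_appLE]
      haveI : IsIso ((L a).ι.app (𝔛.lvU h N W)) :=
        Scheme.Hom.isIso_app (L a).ι _ (by rwa [Scheme.Opens.opensRange_ι])
      exact ConcreteCategory.bijective_of_isIso _
    rw [mem_map_ideal_iff (L a).ι _ (lvA h hW N) ⟨_, hG⟩ rfl c,
      FpqcDescent.ideal_comap_appLE (ℬ a) (L a).ι (lvA h hW N) ⟨_, hG⟩ le_rfl]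
    refine ⟨fun hc => ?_, Ideal.mem_map_of_mem _⟩
    obtain ⟨d, hd, hdc⟩ := (Ideal.mem_map_iff_of_surjective _ hbij.2).1 hc
    exact hbij.1 hdc ▸ hd
  have hJC : J = ofLevel 𝔛 h N 𝒞 := by
    refine idealSh_ext_affine h fun W hW => SetLike.ext fun s => ?_
    rw [mem_ofLevel_affine_iff h N 𝒞 hW]
    simp only [𝒞, Scheme.IdealSheafData.ideal_iInf, iInf_apply, Ideal.mem_iInf]
    constructor
    · intro hs a
      refine RZExt.mem_map_ideal _ (lvA h hW N) _ fun z hz => ?_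
      have hz' : 𝔛.gInv h N ((L a).ι z) ∈ W ⊓ U a.1 := ⟨hz, z.2⟩
      obtain ⟨W', hW', hzW', hW'le⟩ := exists_isAffineOpen_mem_and_subset hz'
      have iW : W' ≤ W := fun y hy => (hW'le hy).1
      have iU : W' ≤ U a.1 := fun y hy => (hW'le hy).2
      have hG : IsAffineOpen ((L a).ι ⁻¹ᵁ 𝔛.lvU h N W') :=
        (lvA h hW' N).2.preimage_of_isOpenImmersion _ (by
          rw [Scheme.Opens.opensRange_ι]; exact lvU_mono h iU N)
      refine ⟨⟨_, hG⟩, Scheme.Hom.preimage_mono _ (lvU_mono h iW N), hzW', ?_⟩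
      have h1 := (mem_ofLevel_affine_iff h N (ℬ a) hW' _).1 ((heℬ a W' iU).le (rs_mem J iW hs))
      rw [FpqcDescent.ideal_comap_appLE (ℬ a) (L a).ι (lvA h hW' N) ⟨_, hG⟩ le_rfl]
      refine Eq.subst (motive := (· ∈ _)) ?_ (Ideal.mem_map_of_mem ((L a).ι.appLE _ _ le_rfl).hom h1)
      rw [projR_rs h iW]
      show ((𝔛.X N).presheaf.map (homOfLE (lvU_mono h iW N)).op ≫ (L a).ι.appLE _ _ le_rfl) _ = _
      rw [Scheme.Hom.map_appLE]
    · intro hs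
      refine J.mem_of_local fun x hx => ?_
      obtain ⟨a, ha, hxa⟩ := Set.mem_iUnion₂.1 (ht (Set.mem_univ x))
      obtain ⟨W', hW', hxW', hW'le⟩ := exists_isAffineOpen_mem_and_subset (show x ∈ W ⊓ U a from ⟨hx, hxa⟩)
      have iW : W' ≤ W := fun y hy => (hW'le hy).1
      have iU : W' ≤ U a := fun y hy => (hW'le hy).2
      refine ⟨W', iW, hxW', (heℬ ⟨a, ha⟩ W' iU).ge ((mem_ofLevel_affine_iff h N _ hW' _).2 ?_)⟩
      refine (hpiece ⟨a, ha⟩ hW' iU _).1 ?_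
      show projR 𝔛 h W' N (rs iW s) ∈ _
      rw [projR_rs h iW]
      exact (((ℬ ⟨a, ha⟩).comap _).map _).ideal_le_comap_ideal (U := lvA h hW' N) (V := lvA h hW N)
        (lvU_mono h iW N) (hs ⟨a, ha⟩)
  refine ⟨N, 𝒞, le_max_left _ _, RZExt.isFiniteType_of_cover fun y => ?_, hJC⟩
  obtain ⟨a, ha, hya⟩ := Set.mem_iUnion₂.1 (ht (Set.mem_univ (𝔛.gInv h N y)))
  refine ⟨lvA h (hU a) N, hya, ?_⟩
  rw [← map_projR_sect h N 𝒞 (hU a), ← hJC, heℬ ⟨a, ha⟩ (U a) le_rfl, map_projR_sect h N _ (hU a)]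
  exact hℬ _ _

end Groth.Agent.FormBlow
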