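/-
Inverse images and products of open ideals through the levels.
-/
import Groth.Agent.FormBlow.Level

set_option autoImplicit false
set_option backward.isDefEq.respectTransparency false
set_option linter.style.haveILetI false

universe u

open CategoryTheory CategoryTheory.Limits AlgebraicGeometry TopologicalSpace Opposite FBlow
open Groth.Agent.FSchCoh (OA RA projR transR transR_projR OA_ext OA_lift projR_surjective transR_surjective)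

noncomputable section

namespace Groth.Agent.FormBlow

section General

variable {T : TopCat.{u}} {O : Sheaf (Opens.grothendieckTopology T) CommRingCat.{u}}

theorem idealSh_eq_of_locally {J K : IdealSh O}
    (he : ∀ x : T, ∃ V : Opens T, x ∈ V ∧ ∀ W ≤ V, J.sect W = K.sect W) : J = K := by
  refine idealSh_antisymm (fun U s hs => K.mem_of_local fun x hx => ?_) (fun U s hs => J.mem_of_local fun x hx => ?_)
  all_goals obtain ⟨V, hxV, hV⟩ := he x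
  · exact ⟨U ⊓ V, inf_le_left, ⟨hx, hxV⟩, (hV _ inf_le_right).le (rs_mem J inf_le_left hs)⟩
  · exact ⟨U ⊓ V, inf_le_left, ⟨hx, hxV⟩, (hV _ inf_le_right).ge (rs_mem K inf_le_left hs)⟩

/-- Products are local. -/
theorem mul_sect_eq {J J' K K' : IdealSh O} {U : Opens T} (hJ : ∀ V ≤ U, J.sect V = J'.sect V)
    (hK : ∀ V ≤ U, K.sect V = K'.sect V) :
    ∀ V ≤ U, (IdealSh.mul J K).sect V = (IdealSh.mul J' K').sect V := by
  suffices key : ∀ {J J' K K' : IdealSh O}, (∀ V ≤ U, J.sect V = J'.sect V) → (∀ V ≤ U, K.sect V = K'.sect V) →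
      ∀ V ≤ U, (IdealSh.mul J K).sect V ≤ (IdealSh.mul J' K').sect V from
    fun V hV => le_antisymm (key hJ hK V hV)
      (key (fun W hW => (hJ W hW).symm) (fun W hW => (hK W hW).symm) V hV)
  intro J J' K K' hJ hK V hV s hs
  refine (IdealSh.mul J' K').mem_of_local fun x hx => ?_
  obtain ⟨V', i, hxV', hV'⟩ := hs x hx
  refine ⟨V', i, hxV', (Ideal.span_le.2 ?_) hV'⟩
  rintro _ ⟨W, j, _, ⟨a, ha, b, hb, rfl⟩, rfl⟩
  refine IdealSh.subset_gen _ V' ⟨rs j a, (hJ V' (i.trans hV)).le (rs_mem J j ha), rs j b,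
    (hK V' (i.trans hV)).le (rs_mem K j hb), map_mul (rs j) a b⟩

theorem mul_mem_mul {J K : IdealSh O} {U : Opens T} {a b : sec O U} (ha : a ∈ J.sect U) (hb : b ∈ K.sect U) :
    a * b ∈ (IdealSh.mul J K).sect U :=
  IdealSh.subset_gen _ U ⟨a, ha, b, hb, rfl⟩

theorem mul_le_relGen {J K : IdealSh O} {U : Opens T} {ι κ : Type*} {f : ι → sec O U} {g : κ → sec O U}
    (hJ : J ≤ relGen U f) (hK : K ≤ relGen U g) :
    IdealSh.mul J K ≤ relGen U (fun q : ι × κ => f q.1 * g q.2) := by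
  refine IdealSh.gen_le ?_
  rintro W _ ⟨a, ha, b, hb, rfl⟩ x hx
  obtain ⟨W₁, i₁, j₁, hx₁, h₁⟩ := hJ W ha x hx
  obtain ⟨W₂, i₂, j₂, hx₂, h₂⟩ := hK W hb x hx
  refine ⟨W₁ ⊓ W₂, inf_le_left.trans i₁, inf_le_left.trans j₁, ⟨hx₁, hx₂⟩, ?_⟩
  have h1' := Ideal.mem_map_of_mem (rs (O := O) (inf_le_left : W₁ ⊓ W₂ ≤ W₁)) h₁
  have h2' := Ideal.mem_map_of_mem (rs (O := O) (inf_le_right : W₁ ⊓ W₂ ≤ W₂)) h₂
  rw [Ideal.map_span, ← Set.range_comp] at h1' h2'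
  simp only [Function.comp_def, rs_rs] at h1' h2'
  have h3 := Ideal.mul_mem_mul h1' h2'
  rw [map_mul]
  rw [Ideal.span_mul_span'] at h3
  refine (Ideal.span_le.2 ?_) h3
  rintro _ ⟨_, ⟨k, rfl⟩, _, ⟨l, rfl⟩, rfl⟩
  exact Ideal.subset_span ⟨(k, l), map_mul _ _ _⟩

end General

variable {𝔛 𝔜 : FSch.Sys.{u}} (h : 𝔛.IsFormal) (h𝔜 : 𝔜.IsFormal)
variable {R : Type u} [CommRing R] {I : Ideal R} (p : 𝔛 ⟶ FSch.spf R I) (hp : FSch.IsAdicHom p) (hI : I.FG)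
include hp hI

/-- The inverse image along an adic morphism of an open ideal given on a level is given by the inverse image data. -/
theorem idealMap_ofLevel (b : 𝔜 ⟶ 𝔛) (hb : FSch.IsAdicHom b) (n : ℕ) (𝒜 : (𝔛.X n).IdealSheafData) :
    idealMap b h𝔜 h (ofLevel 𝔛 h n 𝒜) = ofLevel 𝔜 h𝔜 n (𝒜.comap ((b : FSch.Hom 𝔜 𝔛).app n)) := by
  refine idealSh_eq_of_locally fun y => ?_
  obtain ⟨U, hU, hyU, -⟩ := exists_isAffineOpen_mem_and_subset (X := 𝔛.X 0) (U := ⊤)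
    (x := (b : FSch.Hom 𝔜 𝔛).app 0 y) trivial
  obtain ⟨V, hV, hyV, jV⟩ := exists_isAffineOpen_mem_and_subset (X := 𝔜.X 0)
    (U := (b : FSch.Hom 𝔜 𝔛).app 0 ⁻¹ᵁ U) (x := y) hyU
  replace jV : V ≤ (b : FSch.Hom 𝔜 𝔛).app 0 ⁻¹ᵁ U := jV
  refine ⟨V, hyV, fun W hW => ?_⟩
  let S := (ofLevel 𝔛 h n 𝒜).sect U
  let f : S → OA 𝔛 h U := fun a => a.1
  let g : S → OA 𝔜 h𝔜 V := fun a => shPb h h𝔜 b jV (f a)
  have hspan : Ideal.span (Set.range f) = S := by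
    refine le_antisymm (Ideal.span_le.2 ?_) fun z hz => Ideal.subset_span ⟨⟨z, hz⟩, rfl⟩
    rintro _ ⟨a, rfl⟩
    exact a.2
  have hgspan : Ideal.span (Set.range g) = S.map (shPb h h𝔜 b jV) := by
    refine Eq.trans ?_ (congrArg (Ideal.map (shPb h h𝔜 b jV)) hspan)
    rw [Ideal.map_span, ← Set.range_comp]
    rfl
  have hgen : (𝒜.comap ((b : FSch.Hom 𝔜 𝔛).app n)).ideal (lvA h𝔜 hV n) =
      (Ideal.span (Set.range g)).map (projR 𝔜 h𝔜 V n) := by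
    rw [FpqcDescent.ideal_comap_appLE 𝒜 _ (lvA h hU n) (lvA h𝔜 hV n) (lvU_le_preimage h h𝔜 b jV n),
      ← map_projR_sect h n 𝒜 hU, Ideal.map_map, hgspan, Ideal.map_map]
    refine congrArg (Ideal.map · S) (RingHom.ext fun a => ?_)
    exact (projR_shPb h h𝔜 b jV n a).symm
  have hpow : ∀ r ∈ I ^ (n + 1), rho h𝔜 (b ≫ p) V r ∈ Ideal.span (Set.range g) := fun r hr => by
    rw [hgspan, ← shPb_rho h h𝔜 p b jV r]
    exact Ideal.mem_map_of_mem _ (rho_mem_ofLevel h p hp hI n 𝒜 U hr)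
  rw [relGen_sect_eq_ofLevel h𝔜 (b ≫ p) (isAdicHom_comp hb hp) hI _ hV g hgen hpow hW]
  refine le_antisymm (idealMap_le_relGen h h𝔜 b (ofLevel_le_relGen_sect h p hp hI n 𝒜 hU) jV W) fun s hs => ?_
  exact mem_of_mem_relGen _ hW (fun a => mem_idealMap h h𝔜 b jV a.2) hs

/-- The product of open ideals given on levels is given on a higher level. -/
theorem exists_mul_level {n m : ℕ} {𝒜 : (𝔛.X n).IdealSheafData} {ℬ : (𝔛.X m).IdealSheafData}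
    (h𝒜 : FSch.IdealFT 𝒜) (hℬ : FSch.IdealFT ℬ) :
    ∃ 𝒞 : (𝔛.X (n + m + 1)).IdealSheafData, FSch.IdealFT 𝒞 ∧
      IdealSh.mul (ofLevel 𝔛 h n 𝒜) (ofLevel 𝔛 h m ℬ) = ofLevel 𝔛 h (n + m + 1) 𝒞 := by
  obtain ⟨𝒜', h𝒜', eA⟩ := exists_raise h p hp hI (show n ≤ n + m + 1 by omega) h𝒜
  obtain ⟨ℬ', hℬ', eB⟩ := exists_raise h p hp hI (show m ≤ n + m + 1 by omega) hℬ
  refine ⟨𝒜' * ℬ', fun D => ?_, idealSh_eq_of_locally fun x => ?_⟩
  · rw [Scheme.IdealSheafData.ideal_mul, Pi.mul_apply]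
    exact (h𝒜' D).mul (hℬ' D)
  obtain ⟨U, hU, hxU, -⟩ := exists_isAffineOpen_mem_and_subset (X := 𝔛.X 0) (U := ⊤) (x := x) trivial
  refine ⟨U, hxU, fun V hV => ?_⟩
  let SA := (ofLevel 𝔛 h n 𝒜).sect U
  let SB := (ofLevel 𝔛 h m ℬ).sect U
  let f : SA → OA 𝔛 h U := fun a => a.1
  let g : SB → OA 𝔛 h U := fun a => a.1
  let q : SA × SB → OA 𝔛 h U := fun z => f z.1 * g z.2
  have hspan : Ideal.span (Set.range q) = SA * SB := by
    refine le_antisymm (Ideal.span_le.2 ?_) (Ideal.mul_le.2 fun a ha b hb =>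
      Ideal.subset_span ⟨(⟨a, ha⟩, ⟨b, hb⟩), rfl⟩)
    rintro _ ⟨z, rfl⟩
    exact Ideal.mul_mem_mul z.1.2 z.2.2
  have hgen : (𝒜' * ℬ').ideal (lvA h hU (n + m + 1)) = (Ideal.span (Set.range q)).map (projR 𝔛 h U (n + m + 1)) := by
    rw [hspan, Ideal.map_mul, Scheme.IdealSheafData.ideal_mul, Pi.mul_apply,
      ← map_projR_sect h (n + m + 1) 𝒜' hU, ← map_projR_sect h (n + m + 1) ℬ' hU, eA, eB]
  have hpow : ∀ r ∈ I ^ (n + m + 1 + 1), rho h p U r ∈ Ideal.span (Set.range q) := fun r hr => by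
    rw [show n + m + 1 + 1 = (n + 1) + (m + 1) by omega, pow_add] at hr
    rw [hspan]
    refine Submodule.mul_induction_on hr (fun a ha b hb => ?_) fun a b ha hb => by rw [map_add]; exact add_mem ha hb
    rw [map_mul]
    exact Ideal.mul_mem_mul (rho_mem_ofLevel h p hp hI n 𝒜 U ha) (rho_mem_ofLevel h p hp hI m ℬ U hb)
  rw [relGen_sect_eq_ofLevel h p hp hI _ hU q hgen hpow hV]
  refine le_antisymm (mul_le_relGen (ofLevel_le_relGen_sect h p hp hI n 𝒜 hU)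
    (ofLevel_le_relGen_sect h p hp hI m ℬ hU) V) fun s hs => ?_
  exact mem_of_mem_relGen _ hV (fun z => mul_mem_mul z.1.2 z.2.2) hs

theorem isCohOpen_mul {J K : IdealSh (𝔛.Osh h)} (hJ : IsCohOpen 𝔛 h J) (hK : IsCohOpen 𝔛 h K) :
    IsCohOpen 𝔛 h (IdealSh.mul J K) := by
  refine isCohOpen_of_local h fun x => ?_
  obtain ⟨U, hxU, n, 𝒜, h𝒜, hA⟩ := hJ x
  obtain ⟨U', hxU', m, ℬ, hℬ, hB⟩ := hK x
  obtain ⟨𝒞, h𝒞, e⟩ := exists_mul_level h p hp hI h𝒜 hℬ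
  exact ⟨U ⊓ U', _, ⟨hxU, hxU'⟩, isCohOpen_ofLevel h h𝒞, e ▸ mul_sect_eq
    (fun V hV => hA V (hV.trans inf_le_left)) (fun V hV => hB V (hV.trans inf_le_right))⟩

theorem isCohOpen_idealMap (b : 𝔜 ⟶ 𝔛) (hb : FSch.IsAdicHom b) {J : IdealSh (𝔛.Osh h)} (hJ : IsCohOpen 𝔛 h J) :
    IsCohOpen 𝔜 h𝔜 (idealMap b h𝔜 h J) := by
  refine isCohOpen_of_local h𝔜 fun y => ?_
  obtain ⟨U, hyU, n, 𝒜, h𝒜, hA⟩ := hJ ((b : FSch.Hom 𝔜 𝔛).app 0 y)
  refine ⟨(b : FSch.Hom 𝔜 𝔛).app 0 ⁻¹ᵁ U, _, hyU,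
    isCohOpen_ofLevel h𝔜 (RZExt.isFiniteType_comap ((b : FSch.Hom 𝔜 𝔛).app n) h𝒜),
    fun V hV => ?_⟩
  rw [← idealMap_ofLevel h h𝔜 p hp hI b hb n 𝒜]
  suffices key : ∀ {J K : IdealSh (𝔛.Osh h)}, (∀ W ≤ U, J.sect W = K.sect W) →
      (idealMap b h𝔜 h J).sect V ≤ (idealMap b h𝔜 h K).sect V from
    le_antisymm (key hA) (key fun W hW => (hA W hW).symm)
  intro J K he s hs
  refine (idealMap b h𝔜 h K).mem_of_local fun x hx => ?_
  obtain ⟨V', i, hxV', hV'⟩ := hs x hx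
  refine ⟨V', i, hxV', (Ideal.span_le.2 ?_) hV'⟩
  rintro _ ⟨W', j, _, ⟨W, jW, a, ha, rfl⟩, rfl⟩
  have hWU : V' ≤ (b : FSch.Hom 𝔜 𝔛).app 0 ⁻¹ᵁ (W ⊓ U) := fun z hz => ⟨jW (j hz), hV (i hz)⟩
  have h1 := mem_idealMap h h𝔜 b hWU (a := rs inf_le_left a) ((he _ inf_le_right).le (rs_mem J inf_le_left ha))
  refine Eq.subst (motive := (· ∈ (idealMap b h𝔜 h K).sect V')) ?_ h1
  exact (rs_pb _ _ (inf_le_left : W ⊓ U ≤ W) hWU a).trans (pb_rs _ _ jW j a).symm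

end Groth.Agent.FormBlow
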