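/-
Locally finite products of open ideals.
-/
import Groth.Agent.FormBlow.LevelOps

set_option autoImplicit false
set_option backward.isDefEq.respectTransparency false
set_option linter.style.haveILetI false

universe u

open CategoryTheory CategoryTheory.Limits AlgebraicGeometry TopologicalSpace Opposite FBlow
open Groth.Agent.FSchCoh (OA RA projR)

noncomputable section

namespace Groth.Agent.FormBlow

section General

variable {T : TopCat.{u}} {O : Sheaf (Opens.grothendieckTopology T) CommRingCat.{u}} {ι : Type*}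

/-- The product of a finite set of members of a family of ideal sheaves. -/
def piSh (J : ι → IdealSh O) (F : Finset ι) : IdealSh O :=
  IdealSh.gen fun W => {t | ∃ a : ι → sec O W, (∀ i ∈ F, a i ∈ (J i).sect W) ∧ t = ∏ i ∈ F, a i}

theorem prod_mem_piSh {J : ι → IdealSh O} {F : Finset ι} {W : Opens T} {a : ι → sec O W}
    (ha : ∀ i ∈ F, a i ∈ (J i).sect W) : ∏ i ∈ F, a i ∈ (piSh J F).sect W :=
  IdealSh.subset_gen _ W ⟨a, ha, rfl⟩

theorem piSh_empty (J : ι → IdealSh O) (U : Opens T) : (piSh J ∅).sect U = ⊤ := by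
  rw [Ideal.eq_top_iff_one]
  exact IdealSh.subset_gen _ U ⟨fun _ => 0, by simp, by simp⟩

theorem piSh_insert [DecidableEq ι] (J : ι → IdealSh O) {i : ι} {F : Finset ι} (hi : i ∉ F) :
    piSh J (insert i F) = IdealSh.mul (J i) (piSh J F) := by
  refine idealSh_antisymm (IdealSh.gen_le ?_) (IdealSh.gen_le ?_)
  · rintro W _ ⟨a, ha, rfl⟩
    rw [Finset.prod_insert hi]
    exact mul_mem_mul (ha i (Finset.mem_insert_self _ _))
      (prod_mem_piSh fun j hj => ha j (Finset.mem_insert_of_mem hj))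
  · rintro W _ ⟨a, ha, b, hb, rfl⟩
    refine (piSh J (insert i F)).mem_of_local fun x hx => ?_
    obtain ⟨V, iV, hxV, hV⟩ := hb x hx
    refine ⟨V, iV, hxV, ?_⟩
    suffices key : Ideal.span (IdealSh.seed _ V) ≤
        ((piSh J (insert i F)).sect V).colon (Ideal.span {rs iV a}) by
      have h1 := Submodule.mem_colon.1 (key hV) (rs iV a) (Ideal.mem_span_singleton_self _)
      rw [smul_eq_mul, mul_comm] at h1
      rw [show O.obj.map (homOfLE iV).op (a * b) = rs iV a * rs iV b from map_mul (rs iV) a b]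
      exact h1
    refine Ideal.span_le.2 ?_
    rintro _ ⟨W', j, _, ⟨c, hc, rfl⟩, rfl⟩
    refine Submodule.mem_colon.2 fun z hz => ?_
    obtain ⟨d, rfl⟩ := Ideal.mem_span_singleton'.1 hz
    rw [smul_eq_mul, show O.obj.map (homOfLE j).op (∏ k ∈ F, c k) * (d * rs iV a) =
      d * (rs iV a * rs j (∏ k ∈ F, c k)) by show rs j _ * _ = _; ring]
    refine Ideal.mul_mem_left _ _ ?_
    rw [map_prod]
    have h2 := prod_mem_piSh (J := J) (F := insert i F)
      (a := fun k => if k = i then rs iV a else rs j (c k)) (W := V) fun k hk => by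
        by_cases hki : k = i
        · subst hki
          simp only [if_pos]
          exact rs_mem _ iV ha
        · simp only [if_neg hki]
          exact rs_mem _ j (hc k ((Finset.mem_insert.1 hk).resolve_left hki))
    rw [Finset.prod_insert hi, if_pos rfl] at h2
    refine Eq.subst (motive := (· ∈ (piSh J (insert i F)).sect V)) ?_ h2
    exact congrArg (_ * ·) (Finset.prod_congr rfl fun k hk => if_neg fun (hk' : k = i) => hi (hk' ▸ hk))

/-- Factors which are the unit ideal on an open do not matter there. -/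
theorem piSh_sect_le (J : ι → IdealSh O) {F F' : Finset ι} {U : Opens T}
    (htop : ∀ i ∈ F', i ∉ F → ∀ V ≤ U, (J i).sect V = ⊤) :
    ∀ V ≤ U, (piSh J F).sect V ≤ (piSh J F').sect V := by
  classical
  intro V hV s hs
  refine (piSh J F').mem_of_local fun x hx => ?_
  obtain ⟨W, i, hxW, hW⟩ := hs x hx
  refine ⟨W, i, hxW, (Ideal.span_le.2 ?_) hW⟩
  rintro _ ⟨W', j, _, ⟨a, ha, rfl⟩, rfl⟩
  show rs j _ ∈ (piSh J F').sect W
  rw [map_prod]
  let a' : ι → sec O W := fun k => if k ∈ F then rs j (a k) else 1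
  have h1 : ∏ k ∈ F', a' k ∈ (piSh J F').sect W := prod_mem_piSh fun k hk => by
    by_cases hkF : k ∈ F
    · simp only [a', if_pos hkF]
      exact rs_mem _ j (ha k hkF)
    · rw [htop k hk hkF W (i.trans hV)]
      exact Submodule.mem_top
  have h2 : ∏ k ∈ F, rs j (a k) = (∏ k ∈ F \ F', rs j (a k)) * ∏ k ∈ F', a' k := by
    rw [Finset.prod_ite, Finset.prod_const_one, mul_one,
      show F'.filter (· ∈ F) = F ∩ F' by ext; simp [and_comm], mul_comm]
    exact (Finset.prod_inter_mul_prod_sdiff F F' _).symm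
  rw [h2]
  exact Ideal.mul_mem_left _ _ h1

end General

variable {𝔛 : FSch.Sys.{u}} (h : 𝔛.IsFormal) {ι : Type*}
variable {R : Type u} [CommRing R] {I : Ideal R} (p : 𝔛 ⟶ FSch.spf R I) (hp : FSch.IsAdicHom p) (hI : I.FG)

theorem idealMap_congr {𝔜 : FSch.Sys.{u}} (h𝔜 : 𝔜.IsFormal) {b : 𝔜 ⟶ 𝔛} {U : (𝔛.X 0).Opens}
    (e : ⊤ ≤ (b : FSch.Hom 𝔜 𝔛).app 0 ⁻¹ᵁ U) {J K : IdealSh (𝔛.Osh h)} (he : ∀ W ≤ U, J.sect W = K.sect W) :
    idealMap b h𝔜 h J = idealMap b h𝔜 h K := by
  suffices key : ∀ {J K : IdealSh (𝔛.Osh h)}, (∀ W ≤ U, J.sect W = K.sect W) →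
      idealMap b h𝔜 h J ≤ idealMap b h𝔜 h K from
    idealSh_antisymm (key he) (key fun W hW => (he W hW).symm)
  intro J K he
  refine map_le_of_pb _ _ fun W a ha V j => ?_
  have hWU : V ≤ (b : FSch.Hom 𝔜 𝔛).app 0 ⁻¹ᵁ (W ⊓ U) := fun z hz => ⟨j hz, e trivial⟩
  refine Eq.subst (motive := (· ∈ (idealMap b h𝔜 h K).sect V)) ?_
    (mem_idealMap h h𝔜 b hWU (a := rs inf_le_left a) ((he _ inf_le_right).le (rs_mem J inf_le_left ha)))
  exact rs_pb _ _ (inf_le_left : W ⊓ U ≤ W) hWU a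

include hp hI in
theorem isCohOpen_piSh {J : ι → IdealSh (𝔛.Osh h)} (hJ : ∀ i, IsCohOpen 𝔛 h (J i)) (F : Finset ι) :
    IsCohOpen 𝔛 h (piSh J F) := by
  classical
  induction F using Finset.induction_on with
  | empty =>
    have hft : FSch.IdealFT (⊤ : (𝔛.X 0).IdealSheafData) := fun D => by
      rw [Scheme.IdealSheafData.ideal_top, Pi.top_apply]
      exact ⟨{1}, by simp⟩
    refine isCohOpen_of_local h fun x => ⟨⊤, _, trivial, isCohOpen_ofLevel h hft, fun V _ => ?_⟩
    rw [piSh_empty, eq_comm, Ideal.eq_top_iff_one, mem_ofLevel_iff]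
    intro y hy
    obtain ⟨D, hD, hyD, hDV⟩ := exists_isAffineOpen_mem_and_subset hy
    exact ⟨⟨D, hD⟩, hDV, hyD, by rw [Scheme.IdealSheafData.ideal_top]; exact Submodule.mem_top⟩
  | insert i F hi ih =>
    rw [piSh_insert J hi]
    exact isCohOpen_mul h p hp hI (hJ i) ih

include hp hI in
/-- A locally finite family of coherent open ideals has a product. -/
theorem exists_locProd {κ : Type*} (J : ι → IdealSh (𝔛.Osh h)) (hJ : ∀ i, IsCohOpen 𝔛 h (J i))
    (V : κ → (𝔛.X 0).Opens) (hV : (⨆ a, V a) = ⊤) (F : κ → Finset ι)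
    (htop : ∀ a i, i ∉ F a → ∀ W ≤ V a, (J i).sect W = ⊤) :
    ∃ P : IdealSh (𝔛.Osh h), IsCohOpen 𝔛 h P ∧ ∀ a, ∀ W ≤ V a, P.sect W = (piSh J (F a)).sect W := by
  let P : IdealSh (𝔛.Osh h) := IdealSh.gen fun W => {t | ∃ a, W ≤ V a ∧ t ∈ (piSh J (F a)).sect W}
  have hP : ∀ a, ∀ W ≤ V a, P.sect W = (piSh J (F a)).sect W := by
    intro a W hW
    refine le_antisymm (fun s hs => ?_) fun s hs => IdealSh.subset_gen _ W ⟨a, hW, hs⟩
    refine (piSh J (F a)).mem_of_local fun x hx => ?_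
    obtain ⟨W', i, hxW', hW'⟩ := hs x hx
    refine ⟨W', i, hxW', (Ideal.span_le.2 ?_) hW'⟩
    rintro _ ⟨W'', j, t, ⟨a', ha', ht⟩, rfl⟩
    have hle : W' ≤ V a ⊓ V a' := le_inf (i.trans hW) (j.trans ha')
    exact piSh_sect_le J (U := V a ⊓ V a') (fun k _ hk V' hV' => htop a' k hk V' (hV'.trans inf_le_right))
      W' hle (rs_mem _ j ht)
  refine ⟨P, isCohOpen_of_local h fun x => ?_, hP⟩
  obtain ⟨a, ha⟩ := Opens.mem_iSup.1 (hV.ge (Opens.mem_top x))
  exact ⟨V a, _, ha, isCohOpen_piSh h p hp hI hJ (F a), hP a⟩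

end Groth.Agent.FormBlow
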