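/-
Coherent open ideals of an admissible formal blowing-up come from the base up to a power of the exceptional ideal.
-/
import Groth.Agent.FormBlow.LocProd
import Groth.Agent.FormBlow.ExistLocal

set_option autoImplicit false
set_option backward.isDefEq.respectTransparency false
set_option linter.style.haveILetI false

universe u

open CategoryTheory CategoryTheory.Limits AlgebraicGeometry TopologicalSpace Opposite FBlow
open Groth.Agent.FSchCoh (OA RA projR projR_surjective)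

noncomputable section

namespace Groth.Agent.FormBlow

section Ring

/-- Elements of a chart ring are fractions with numerators in the powers of the ideal. -/
theorem exists_frac_chartRing {A : Type u} [CommRing A] {r : ℕ} (f : Fin r → A) (i : Fin r) (z : chartRing f i) :
    ∃ (k : ℕ) (a : A), a ∈ Ideal.span (Set.range f) ^ k ∧
      z * algebraMap A (chartRing f i) (f i) ^ k = algebraMap A (chartRing f i) a := by
  obtain ⟨z, hz⟩ := z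
  suffices h : ∃ (k : ℕ) (a : A), a ∈ Ideal.span (Set.range f) ^ k ∧
      z * algebraMap A (Localization.Away (f i)) (f i) ^ k = algebraMap A (Localization.Away (f i)) a by
    obtain ⟨k, a, ha, e⟩ := h
    exact ⟨k, a, ha, Subtype.ext (by push_cast; exact e)⟩
  induction hz using Algebra.adjoin_induction with
  | mem x hx =>
    obtain ⟨j, rfl⟩ := hx
    refine ⟨1, f j, ?_, ?_⟩
    · rw [pow_one]; exact Ideal.subset_span ⟨j, rfl⟩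
    · rw [pow_one]
      exact IsLocalization.mk'_spec (Localization.Away (f i)) (f j) ⟨f i, Submonoid.mem_powers _⟩
  | algebraMap a => exact ⟨0, a, by rw [pow_zero, Ideal.one_eq_top]; exact Submodule.mem_top, by rw [pow_zero, mul_one]⟩
  | add x y _ _ hx hy =>
    obtain ⟨k, a, ha, e⟩ := hx
    obtain ⟨l, b, hb, e'⟩ := hy
    have hfi : f i ∈ Ideal.span (Set.range f) := Ideal.subset_span ⟨i, rfl⟩
    refine ⟨k + l, a * f i ^ l + b * f i ^ k, add_mem ?_ ?_, ?_⟩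
    · rw [pow_add]
      exact Ideal.mul_mem_mul ha (Ideal.pow_mem_pow hfi l)
    · rw [add_comm k l, pow_add]
      exact Ideal.mul_mem_mul hb (Ideal.pow_mem_pow hfi k)
    · rw [map_add, map_mul, map_mul, map_pow, map_pow, ← e, ← e', pow_add]
      ring
  | mul x y _ _ hx hy =>
    obtain ⟨k, a, ha, e⟩ := hx
    obtain ⟨l, b, hb, e'⟩ := hy
    refine ⟨k + l, a * b, by rw [pow_add]; exact Ideal.mul_mem_mul ha hb, ?_⟩
    rw [map_mul, ← e, ← e', pow_add]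
    ring

theorem fg_comap_of_surjective {A B : Type*} [CommRing A] [CommRing B] (π : A →+* B) (hπ : Function.Surjective π)
    {J : Ideal B} (hJ : J.FG) (hker : (RingHom.ker π).FG) : (J.comap π).FG := by
  classical
  obtain ⟨S, hS⟩ := hJ
  choose g hg using fun b => hπ b
  have e : J.comap π = Ideal.span ((S.image g : Finset A) : Set A) ⊔ RingHom.ker π := by
    have e1 : J = (Ideal.span ((S.image g : Finset A) : Set A)).map π := by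
      rw [Ideal.map_span, Finset.coe_image, ← Set.image_comp, ← hS]
      congr 1
      ext b
      simp [hg]
    rw [e1, Ideal.comap_map_of_surjective π hπ, ← RingHom.ker_eq_comap_bot]
  rw [e]
  exact Submodule.FG.sup ⟨_, rfl⟩ hker

end Ring

variable {𝔛 : FSch.Sys.{u}} (h : 𝔛.IsFormal)

theorem invOn_of_local (J : IdealSh (𝔛.Osh h)) (U : (𝔛.X 0).Opens) (g : OA 𝔛 h U)
    (hloc : ∀ x ∈ U, ∃ (V : (𝔛.X 0).Opens) (i : V ≤ U), x ∈ V ∧ InvOn J V (rs i g)) :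
    InvOn J U g := by
  refine ⟨J.mem_of_local fun x hx => ?_, NzdOn.of_local fun x hx => ?_, fun V s hs y hy => ?_⟩
  · obtain ⟨V, i, hxV, hV⟩ := hloc x hx
    exact ⟨V, i, hxV, hV.1⟩
  · obtain ⟨V, i, hxV, hV⟩ := hloc x hx
    exact ⟨V, i, hxV, hV.2.1⟩
  · obtain ⟨V', i, hyV', hV'⟩ := hloc y hy.2
    obtain ⟨W, iW, jW, hyW, hW⟩ := hV'.2.2 V hs y ⟨hy.1, hyV'⟩
    refine ⟨W, iW, jW.trans i, hyW, ?_⟩
    simpa only [rs_rs] using hW

/-- A section whose restriction to the induced system lies in the inverse image ideal lies in the ideal. -/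
theorem mem_of_shPb_mem_idealMap (U : (𝔛.X 0).Opens) (K : IdealSh (𝔛.Osh h)) {W : (𝔛.X 0).Opens} (hWU : W ≤ U)
    {s : OA 𝔛 h W} (hs : shPb h (isFormal_restrictOpen h U) (𝔛.restrictOpenι h U)
        (le_refl ((𝔛.restrictOpenι h U : FSch.Hom _ _).app 0 ⁻¹ᵁ W)) s ∈
      (idealMap (𝔛.restrictOpenι h U) (isFormal_restrictOpen h U) h K).sect
        ((𝔛.restrictOpenι h U : FSch.Hom _ _).app 0 ⁻¹ᵁ W)) :
    s ∈ K.sect W := by
  refine K.mem_of_local fun x hx => ?_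
  set ιU : FSch.Hom (𝔛.restrictOpen h U) 𝔛 := 𝔛.restrictOpenι h U
  haveI : IsOpenImmersion (ιU.app 0) := inferInstanceAs (IsOpenImmersion (𝔛.lvU h 0 U).ι)
  let y : (𝔛.restrictOpen h U).X 0 := ⟨x, (lvU_zero h U).ge (hWU hx)⟩
  obtain ⟨V', i, hyV', hV'⟩ := hs y hx
  let D := ιU.app 0 ''ᵁ V'
  have hDW : D ≤ W := fun _ ⟨z, hz, e⟩ => e ▸ i hz
  have hDV : ιU.app 0 ⁻¹ᵁ D ≤ V' := ((ιU.app 0).preimage_image_eq V').le
  refine ⟨D, hDW, ⟨y, hyV', rfl⟩, ?_⟩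
  have hDU : D ≤ U := hDW.trans hWU
  let Φ := shPb h (isFormal_restrictOpen h U) (𝔛.restrictOpenι h U) (le_refl (ιU.app 0 ⁻¹ᵁ D))
  have hinj : Function.Injective Φ := (injective_iff_map_eq_zero _).2 fun a ha =>
    eq_zero_of_shPb_restrictOpenι h U hDU ha
  have h1 : Φ (rs hDW s) ∈ (K.sect D).map Φ := by
    have h2 := IdealSh.map_span_seed hDV hV'
    rw [show Φ (rs hDW s) = rs hDV (rs i (shPb h (isFormal_restrictOpen h U) (𝔛.restrictOpenι h U)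
        (le_refl (ιU.app 0 ⁻¹ᵁ W)) s)) from by
      rw [rs_rs]
      exact (rs_pb _ _ hDW (le_refl (ιU.app 0 ⁻¹ᵁ D)) s).trans (pb_rs _ _ _ (hDV.trans i) s).symm]
    refine (Ideal.span_le.2 ?_) h2
    rintro _ ⟨W', j, _, ⟨W'', j', a, ha, rfl⟩, rfl⟩
    have hDW'' : D ≤ W'' := fun _ ⟨z, hz, e⟩ =>
      e ▸ j' (j (show z ∈ ιU.app 0 ⁻¹ᵁ D from ((ιU.app 0).preimage_image_eq V').ge hz))
    refine Eq.subst (motive := (· ∈ (K.sect D).map Φ)) ?_ (Ideal.mem_map_of_mem Φ (rs_mem K hDW'' ha))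
    exact (rs_pb _ _ hDW'' (le_refl (ιU.app 0 ⁻¹ᵁ D)) a).trans (pb_rs _ _ j' j a).symm
  obtain ⟨b, hb, e⟩ := (Ideal.mem_map_iff_of_surjective Φ (surjective_shPb_restrictOpenι h U hDU)).1 h1
  exact hinj e ▸ hb

/-- Powers of an ideal sheaf (`pw J m` is the power of exponent `m + 1`). -/
def pw (J : IdealSh (𝔛.Osh h)) : ℕ → IdealSh (𝔛.Osh h)
  | 0 => J
  | m + 1 => IdealSh.mul (pw J m) J

theorem pow_mem_pw {J : IdealSh (𝔛.Osh h)} {U : (𝔛.X 0).Opens} {g : OA 𝔛 h U} (hg : g ∈ J.sect U) :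
    ∀ m, g ^ (m + 1) ∈ (pw h J m).sect U
  | 0 => by rw [zero_add, pow_one]; exact hg
  | m + 1 => by rw [pow_succ]; exact mul_mem_mul (pow_mem_pw hg m) hg

variable {𝔜 : FSch.Sys.{u}} (h𝔜 : 𝔜.IsFormal) (b : 𝔜 ⟶ 𝔛)

theorem pw_le_relGen {J : IdealSh (𝔛.Osh h)} {Ω : (𝔜.X 0).Opens} {φ : OA 𝔜 h𝔜 Ω}
    (hJ : idealMap b h𝔜 h J ≤ relGen Ω fun _ : Unit => φ) :
    ∀ m, idealMap b h𝔜 h (pw h J m) ≤ relGen Ω fun _ : Unit => φ ^ (m + 1)
  | 0 => by simpa only [pw, zero_add, pow_one] using hJ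
  | m + 1 => by
    rw [show pw h J (m + 1) = IdealSh.mul (pw h J m) J from rfl, idealMap_mul h h𝔜]
    intro V s hs
    refine relGen_le_of_mem (le_refl Ω) (fun q => ?_) V (mul_le_relGen (pw_le_relGen hJ m) hJ V hs)
    rw [rs_self, ← pow_succ]
    exact mem_relGen_self (fun _ : Unit => φ ^ (m + 1 + 1)) ()

theorem isInvertible_pw {J : IdealSh (𝔛.Osh h)} (hJ : (idealMap b h𝔜 h J).IsInvertible) :
    ∀ m, (idealMap b h𝔜 h (pw h J m)).IsInvertible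
  | 0 => hJ
  | m + 1 => by
    rw [show pw h J (m + 1) = IdealSh.mul (pw h J m) J from rfl, idealMap_mul h h𝔜]
    exact isInvertible_mul (isInvertible_pw hJ m) hJ

/-- The open where the pullback of a section generates the inverse image ideal. -/
def locus (J : IdealSh (𝔛.Osh h)) {U : (𝔛.X 0).Opens} (g : OA 𝔛 h U) : (𝔜.X 0).Opens :=
  sSup {V | ∃ j : V ≤ (b : FSch.Hom 𝔜 𝔛).app 0 ⁻¹ᵁ U, InvOn (idealMap b h𝔜 h J) V (shPb h h𝔜 b j g)}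

theorem locus_le (J : IdealSh (𝔛.Osh h)) {U : (𝔛.X 0).Opens} (g : OA 𝔛 h U) :
    locus h h𝔜 b J g ≤ (b : FSch.Hom 𝔜 𝔛).app 0 ⁻¹ᵁ U :=
  sSup_le fun _ hV => hV.1

theorem invOn_locus (J : IdealSh (𝔛.Osh h)) {U : (𝔛.X 0).Opens} (g : OA 𝔛 h U) :
    InvOn (idealMap b h𝔜 h J) (locus h h𝔜 b J g) (shPb h h𝔜 b (locus_le h h𝔜 b J g) g) := by
  refine invOn_of_local h𝔜 _ _ _ fun x hx => ?_
  obtain ⟨V, hV, hxV⟩ := Opens.mem_sSup.1 hx
  obtain ⟨j, hinv⟩ := hV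
  refine ⟨V, le_sSup (show V ∈ {V | ∃ j : V ≤ (b : FSch.Hom 𝔜 𝔛).app 0 ⁻¹ᵁ U,
    InvOn (idealMap b h𝔜 h J) V (shPb h h𝔜 b j g)} from ⟨j, hinv⟩), hxV, ?_⟩
  rwa [show rs _ (shPb h h𝔜 b (locus_le h h𝔜 b J g) g) = shPb h h𝔜 b j g from pb_rs _ _ _ _ g]

theorem le_locus (J : IdealSh (𝔛.Osh h)) {U : (𝔛.X 0).Opens} (g : OA 𝔛 h U) {V : (𝔜.X 0).Opens}
    (j : V ≤ (b : FSch.Hom 𝔜 𝔛).app 0 ⁻¹ᵁ U) (hinv : InvOn (idealMap b h𝔜 h J) V (shPb h h𝔜 b j g)) :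
    V ≤ locus h h𝔜 b J g :=
  le_sSup (show V ∈ {V | ∃ j : V ≤ (b : FSch.Hom 𝔜 𝔛).app 0 ⁻¹ᵁ U,
    InvOn (idealMap b h𝔜 h J) V (shPb h h𝔜 b j g)} from ⟨j, hinv⟩)

variable {R : Type u} [CommRing R] {I : Ideal R} (p : 𝔛 ⟶ FSch.spf R I) (hp : FSch.IsAdicHom p) (hI : I.FG)
  {J : IdealSh (𝔛.Osh h)} (hb : IsAdmBlowUp b h𝔜 h J)
include hp hI hb

/-- Blowing-ups are quasi-compact over the good opens. -/
theorem isCompact_preimage_good {U : (𝔛.X 0).Opens} (hgood : GoodOpen h p J U) :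
    IsCompact ((b : FSch.Hom 𝔜 𝔛).app 0 ⁻¹ᵁ U : Set (𝔜.X 0)) := by
  obtain ⟨hU, r, c, f, hfJ, hJf, hpow⟩ := hgood
  choose k φ e e' ek hk hka hφa using fun i : Fin r => exists_chart h h𝔜 p hp hI hU J b hb f hfJ hJf hpow i
    (locus_le h h𝔜 b J (f i)) (invOn_locus h h𝔜 b J (f i))
  have heq : ((b : FSch.Hom 𝔜 𝔛).app 0 ⁻¹ᵁ U : Set (𝔜.X 0)) =
      ⋃ i, Set.range ((k i : FSch.Hom _ _).app 0).base := by
    refine subset_antisymm (fun y hy => ?_) (Set.iUnion_subset fun i => ?_)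
    · obtain ⟨V, jV, i, hyV, hinv⟩ := exists_generator_nhd h h𝔜 f hfJ hJf b hb.2.1 hy
      have hyΩ := le_locus h h𝔜 b J (f i) jV hinv hyV
      refine Set.mem_iUnion.2 ⟨i, (φ i : FSch.Hom _ _).app 0 ⟨y, (lvU_zero h𝔜 _).ge hyΩ⟩, ?_⟩
      show ((φ i ≫ k i : FSch.Hom _ _).app 0) _ = y
      rw [ek i]
      rfl
    · rintro _ ⟨z, rfl⟩
      exact e i (show z ∈ (⊤ : TopologicalSpace.Opens _) from trivial)
  rw [heq]
  exact isCompact_iUnion fun i => by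
    haveI : CompactSpace ((FSch.spf (chartRing (f) i)
        (I.map ((algebraMap (OA 𝔛 h U) (chartRing f i)).comp (rho h p U)))).X 0) :=
      inferInstanceAs (CompactSpace (Spec _))
    exact isCompact_range ((k i : FSch.Hom _ _).app 0).base.hom.continuous

/-- On a chart a coherent open ideal is generated by finitely many fractions. -/
theorem exists_chart_generators {J' : IdealSh (𝔜.Osh h𝔜)} (hJ' : IsCohOpen 𝔜 h𝔜 J')
    {U : (𝔛.X 0).Opens} (hU : IsAffineOpen U) {s : ℕ} (f : Fin s → OA 𝔛 h U) (hfJ : ∀ l, f l ∈ J.sect U)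
    (hJf : J ≤ relGen U f) {c : ℕ} (hpow : ∀ a ∈ I ^ (c + 1), rho h p U a ∈ Ideal.span (Set.range f)) (i : Fin s) :
    ∃ (n : ℕ) (r : Fin n → OA 𝔜 h𝔜 (locus h h𝔜 b J (f i))) (k : Fin n → ℕ) (a : Fin n → OA 𝔛 h U),
      (∀ l, r l ∈ J'.sect (locus h h𝔜 b J (f i))) ∧ J' ≤ relGen (locus h h𝔜 b J (f i)) r ∧
      (∀ l, a l ∈ Ideal.span (Set.range f) ^ k l) ∧
      ∀ l, r l * shPb h h𝔜 b (locus_le h h𝔜 b J (f i)) (f i) ^ k l =
        shPb h h𝔜 b (locus_le h h𝔜 b J (f i)) (a l) := by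
  classical
  obtain ⟨k, φ, e, e', ek, hk, hka, hφa⟩ := exists_chart h h𝔜 p hp hI hU J b hb f hfJ hJf hpow i
    (locus_le h h𝔜 b J (f i)) (invOn_locus h h𝔜 b J (f i))
  let Ω := locus h h𝔜 b J (f i)
  let ψ₀ := algebraMap (OA 𝔛 h U) (chartRing f i)
  let KB : Ideal (chartRing f i) := I.map (ψ₀.comp (rho h p U))
  let hZ := isFormal_spf (chartRing f i) KB
  haveI hZc : CompactSpace ((FSch.spf (chartRing f i) KB).X 0) := inferInstanceAs (CompactSpace (Spec _))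
  haveI : IsAffine ((FSch.spf (chartRing f i) KB).X 0) := inferInstanceAs (IsAffine (Spec _))
  have hbp : FSch.IsAdicHom (b ≫ p) := isAdicHom_comp hb.1 hp
  have hkadic : FSch.IsAdicHom k := isAdicHom_of_comp hk hb.1
  have hq : FSch.IsAdicHom (k ≫ b ≫ p) := isAdicHom_comp hkadic hbp
  obtain ⟨N, 𝒜, -, h𝒜, hN⟩ := exists_level hZ (k ≫ b ≫ p) hq hI
    (isCohOpen_idealMap h𝔜 hZ (b ≫ p) hbp hI k hkadic hJ') 0
  let S : Ideal (chartRing f i) := (𝒜.ideal (lvA hZ (isAffineOpen_top _) N)).comap (toLevel _ KB N)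
  have hSfg : S.FG := by
    refine fg_comap_of_surjective _ (toLevel_surjective _ KB N) (h𝒜 _) ?_
    rw [show RingHom.ker (toLevel _ KB N) = KB ^ (N + 1) from
      SetLike.ext fun z => toLevel_eq_zero_iff _ KB N z]
    exact (hI.map _).pow (n := N + 1)
  obtain ⟨n, z, hz⟩ := Submodule.fg_iff_exists_fin_generating_family.1 hSfg
  have hz' : Ideal.span (Set.range z) = S := hz
  let g : Fin n → OA _ hZ ⊤ := fun l => toSections _ KB (z l)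
  have hgspan : Ideal.span (Set.range g) = S.map (toSections _ KB) := by
    rw [← hz', Ideal.map_span, ← Set.range_comp]
    rfl
  have hgen : 𝒜.ideal (lvA hZ (isAffineOpen_top _) N) =
      (Ideal.span (Set.range g)).map (projR _ hZ ⊤ N) := by
    rw [hgspan, Ideal.map_map, show (projR _ hZ ⊤ N).comp (toSections _ KB) = toLevel _ KB N from
      RingHom.ext fun x => projR_toSections _ KB N x, Ideal.map_comap_of_surjective _ (toLevel_surjective _ KB N)]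
  have hpowZ : ∀ x ∈ I ^ (N + 1), rho hZ (k ≫ b ≫ p) ⊤ x ∈ Ideal.span (Set.range g) := fun x hx => by
    rw [hgspan, ← Category.assoc, ← shPb_rho h hZ p (k ≫ b) e x, hka]
    refine Ideal.mem_map_of_mem _ ?_
    show toLevel _ KB N (ψ₀ (rho h p U x)) ∈ 𝒜.ideal (lvA hZ (isAffineOpen_top _) N)
    rw [(toLevel_eq_zero_iff _ KB N _).2 (by
      rw [← Ideal.map_pow]; exact Ideal.mem_map_of_mem (ψ₀.comp (rho h p U)) hx)]
    exact Ideal.zero_mem _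
  have hle := ofLevel_le_relGen hZ (k ≫ b ≫ p) hq hI 𝒜 (isAffineOpen_top _) g hgen.le hpowZ
  rw [← hN] at hle
  have hgmem : ∀ l, g l ∈ (idealMap k hZ h𝔜 J').sect ⊤ := fun l => by
    rw [hN, mem_ofLevel_affine_iff hZ N 𝒜 (isAffineOpen_top _), hgen]
    exact Ideal.mem_map_of_mem _ (Ideal.subset_span ⟨l, rfl⟩)
  -- transport to the open
  let hΩ := isFormal_restrictOpen h𝔜 Ω
  let ιΩ := 𝔜.restrictOpenι h𝔜 Ω
  let T := (ιΩ : FSch.Hom _ _).app 0 ⁻¹ᵁ Ω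
  have hφtop : (⊤ : ((𝔜.restrictOpen h𝔜 Ω).X 0).Opens) ≤ (φ : FSch.Hom _ _).app 0 ⁻¹ᵁ ⊤ := fun _ hx => hx
  let χ : chartRing f i →+* OA _ hΩ T :=
    (rs (le_top : T ≤ ⊤)).comp ((shPb hZ hΩ φ hφtop).comp (toSections _ KB))
  let Φ := shPb h𝔜 hΩ ιΩ (le_refl T)
  have hχ : ∀ x, χ (ψ₀ x) = Φ (shPb h h𝔜 b (locus_le h h𝔜 b J (f i)) x) := fun x => by
    show rs (le_top : T ≤ ⊤) (shPb hZ hΩ φ hφtop (toSections _ KB (ψ₀ x))) = _
    refine (congrArg (rs (le_top : T ≤ ⊤)) (hφa x)).trans ?_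
    refine (pb_rs _ _ e' (le_top : T ≤ ⊤) x).trans ?_
    exact shPb_comp h h𝔜 b hΩ ιΩ (locus_le h h𝔜 b J (f i)) (le_refl T)
      (fun y hy => locus_le h h𝔜 b J (f i) hy) x
  have hmap : idealMap φ hΩ hZ (idealMap k hZ h𝔜 J') = idealMap ιΩ hΩ h𝔜 J' := by
    rw [idealMap_comp h𝔜 hZ k hΩ φ, ek]
  have hle' : idealMap ιΩ hΩ h𝔜 J' ≤ relGen T fun l => χ (z l) := by
    rw [← hmap]
    exact fun W s hs => relGen_mono (le_top : T ≤ ⊤) _ W (idealMap_le_relGen hZ hΩ φ hle hφtop W hs)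
  choose r hr using fun l => surjective_shPb_restrictOpenι h𝔜 Ω (le_refl Ω) (χ (z l))
  choose kk aa haa hkaa using fun l => exists_frac_chartRing f i (z l)
  have hinj : Function.Injective Φ := (injective_iff_map_eq_zero _).2 fun x hx =>
    eq_zero_of_shPb_restrictOpenι h𝔜 Ω le_rfl hx
  have hrmem : ∀ l, r l ∈ J'.sect Ω := fun l => by
    refine mem_of_shPb_mem_idealMap h𝔜 Ω J' le_rfl ?_
    rw [hr l, ← hmap]
    exact rs_mem _ le_top (mem_idealMap hZ hΩ φ hφtop (hgmem l))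
  refine ⟨n, r, kk, aa, hrmem, fun W s hs x hx => ?_, haa, fun l => hinj ?_⟩
  · have hmem : rs (inf_le_left : W ⊓ Ω ≤ W) s ∈ (relGen Ω r).sect (W ⊓ Ω) := by
      refine mem_of_shPb_mem_idealMap h𝔜 Ω _ inf_le_right ?_
      have h1 := hle' _ (mem_idealMap h𝔜 hΩ ιΩ (le_refl ((ιΩ : FSch.Hom _ _).app 0 ⁻¹ᵁ (W ⊓ Ω)))
        (rs_mem J' inf_le_left hs))
      refine mem_of_mem_relGen _ (Scheme.Hom.preimage_mono _ (inf_le_right : W ⊓ Ω ≤ Ω)) (fun l => ?_) h1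
      rw [← hr l]
      exact mem_idealMap h𝔜 hΩ ιΩ _ (mem_relGen_self r l)
    obtain ⟨W', i', j', hxW', hW'⟩ := hmem x ⟨hx, hx.2⟩
    exact ⟨W', i'.trans inf_le_left, j', hxW', by rw [← rs_rs _ i']; exact hW'⟩
  · rw [map_mul, map_pow, ← hχ, ← hχ, show Φ (r l) = χ (z l) from hr l, ← map_pow, ← map_mul, hkaa l]

/-- A numerator times a high power of the chart element pulls back into the product of the ideals. -/
theorem exists_bound {J' : IdealSh (𝔜.Osh h𝔜)} (hJ' : IsCohOpen 𝔜 h𝔜 J')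
    {U : (𝔛.X 0).Opens} (hgood : GoodOpen h p J U) {s : ℕ} (f : Fin s → OA 𝔛 h U) (hfJ : ∀ l, f l ∈ J.sect U)
    (hJf : J ≤ relGen U f) (i : Fin s) {r : OA 𝔜 h𝔜 (locus h h𝔜 b J (f i))}
    (hr : r ∈ J'.sect (locus h h𝔜 b J (f i))) {k : ℕ} {a : OA 𝔛 h U} (ha : a ∈ Ideal.span (Set.range f) ^ k)
    (hra : r * shPb h h𝔜 b (locus_le h h𝔜 b J (f i)) (f i) ^ k = shPb h h𝔜 b (locus_le h h𝔜 b J (f i)) a) :
    ∃ m₀, ∀ m ≥ m₀, k ≤ m + 1 ∧
      shPb h h𝔜 b (le_refl ((b : FSch.Hom 𝔜 𝔛).app 0 ⁻¹ᵁ U)) (a * f i ^ (m + 1 - k)) ∈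
        (IdealSh.mul J' (idealMap b h𝔜 h (pw h J m))).sect ((b : FSch.Hom 𝔜 𝔛).app 0 ⁻¹ᵁ U) := by
  classical
  let Ω := locus h h𝔜 b J (f i)
  have hloc : ∀ y : ((b : FSch.Hom 𝔜 𝔛).app 0 ⁻¹ᵁ U : (𝔜.X 0).Opens), ∃ (V : (𝔜.X 0).Opens)
      (j : V ≤ (b : FSch.Hom 𝔜 𝔛).app 0 ⁻¹ᵁ U) (l : Fin s) (t u : OA 𝔜 h𝔜 V) (m : ℕ), (y : 𝔜.X 0) ∈ V ∧
      shPb h h𝔜 b j (f i) = t * shPb h h𝔜 b j (f l) ∧ shPb h h𝔜 b j a = u * shPb h h𝔜 b j (f l) ^ k ∧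
      u * t ^ m ∈ J'.sect V := by
    intro y
    obtain ⟨V₁, jV₁, l, hyV₁, hinv₁⟩ := exists_generator_nhd h h𝔜 f hfJ hJf b hb.2.1 y.2
    obtain ⟨V₂, hyV₂, N, 𝒜, -, hN⟩ := hJ' y
    obtain ⟨V, hV, hyV, hVle⟩ := exists_isAffineOpen_mem_and_subset (show (y : 𝔜.X 0) ∈ V₁ ⊓ V₂ from ⟨hyV₁, hyV₂⟩)
    have i₁ : V ≤ V₁ := fun z hz => (hVle hz).1
    have i₂ : V ≤ V₂ := fun z hz => (hVle hz).2
    have j : V ≤ (b : FSch.Hom 𝔜 𝔛).app 0 ⁻¹ᵁ U := i₁.trans jV₁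
    have hinv : InvOn (idealMap b h𝔜 h J) V (shPb h h𝔜 b j (f l)) := by
      rw [show shPb h h𝔜 b j (f l) = rs i₁ (shPb h h𝔜 b jV₁ (f l)) from (pb_rs _ _ jV₁ i₁ (f l)).symm]
      exact hinv₁.res i₁
    have hdvd : ∀ x ∈ J.sect U, ∃ d, shPb h h𝔜 b j x = d * shPb h h𝔜 b j (f l) := fun x hx => by
      obtain ⟨d, hd⟩ := hinv.exists_eq le_rfl (mem_idealMap h h𝔜 b j hx)
      exact ⟨d, by rwa [rs_self] at hd⟩
    obtain ⟨t, ht⟩ := hdvd _ (hfJ i)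
    obtain ⟨u, hu⟩ : ∃ u, shPb h h𝔜 b j a = u * shPb h h𝔜 b j (f l) ^ k := by
      have h1 : shPb h h𝔜 b j a ∈ Ideal.span {shPb h h𝔜 b j (f l)} ^ k := by
        have h2 := Ideal.mem_map_of_mem (shPb h h𝔜 b j) ha
        rw [Ideal.map_pow, Ideal.map_span] at h2
        refine Ideal.pow_right_mono (Ideal.span_le.2 ?_) k h2
        rintro _ ⟨_, ⟨q, rfl⟩, rfl⟩
        obtain ⟨d, hd⟩ := hdvd _ (hfJ q)
        exact Ideal.mem_span_singleton'.2 ⟨d, hd.symm⟩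
      rw [Ideal.span_singleton_pow] at h1
      obtain ⟨u, hu⟩ := Ideal.mem_span_singleton'.1 h1
      exact ⟨u, hu.symm⟩
    -- where `t` is a unit
    let W := (𝔜.X 0).basicOpen (projR 𝔜 h𝔜 V 0 t)
    have hWV : W ≤ V := ((𝔜.X 0).basicOpen_le _).trans (lvU_zero h𝔜 V).le
    have hW : IsAffineOpen W := (FSchAff.isAffineOpen_lvU 𝔜 h𝔜 hV 0).basicOpen _
    have htu : IsUnit (rs hWV t : OA 𝔜 h𝔜 W) := by
      refine isUnit_of_projR_zero h𝔜 (isUnit_of_basicOpen_eq _ ?_)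
      rw [projR_rs, Scheme.basicOpen_res]
      exact le_inf le_rfl (lvU_zero h𝔜 _).le
    have hjW : W ≤ (b : FSch.Hom 𝔜 𝔛).app 0 ⁻¹ᵁ U := hWV.trans j
    have hfiW : shPb h h𝔜 b hjW (f i) = rs hWV t * rs hWV (shPb h h𝔜 b j (f l)) := by
      rw [← map_mul, ← ht]
      exact (pb_rs _ _ j hWV (f i)).symm
    have hinvW := hinv.res hWV
    have hWΩ : W ≤ Ω := by
      refine le_locus h h𝔜 b J (f i) hjW ?_
      obtain ⟨w, hw⟩ := htu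
      rw [hfiW, ← hw]
      refine ⟨Ideal.mul_mem_left _ _ hinvW.1, fun V' q x hx => ?_, fun V' x hx => ?_⟩
      · refine hinvW.2.1 V' q x ?_
        rw [map_mul, ← mul_assoc, mul_comm x, mul_assoc] at hx
        exact (w.isUnit.map (rs q)).mul_right_eq_zero.1 hx
      · refine relGen_le_of_mem (le_refl W)
          (h := fun _ : Unit => (w : OA 𝔜 h𝔜 W) * rs hWV (shPb h h𝔜 b j (f l))) (fun _ => ?_) V' (hinvW.2.2 V' hx)
        have h1 : (w : OA 𝔜 h𝔜 W) * rs hWV (shPb h h𝔜 b j (f l)) ∈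
            (relGen W fun _ : Unit => (w : OA 𝔜 h𝔜 W) * rs hWV (shPb h h𝔜 b j (f l))).sect W :=
          mem_relGen_self (fun _ : Unit => (w : OA 𝔜 h𝔜 W) * rs hWV (shPb h h𝔜 b j (f l))) ()
        have h2 := Ideal.mul_mem_left _ (↑w⁻¹ : OA 𝔜 h𝔜 W) h1
        rw [Units.inv_mul_cancel_left] at h2
        rwa [rs_self]
    have huW : rs hWV u = rs hWΩ r * rs hWV t ^ k := by
      have h1 : rs hWV u * rs hWV (shPb h h𝔜 b j (f l)) ^ k =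
          rs hWΩ r * rs hWV t ^ k * rs hWV (shPb h h𝔜 b j (f l)) ^ k := by
        rw [mul_assoc, ← mul_pow, ← hfiW, ← map_pow, ← map_mul, ← hu]
        rw [show rs hWV (shPb h h𝔜 b j a) = rs hWΩ (shPb h h𝔜 b (locus_le h h𝔜 b J (f i)) a) from
          (pb_rs _ _ j hWV a).trans (pb_rs _ _ _ hWΩ a).symm, ← hra, map_mul, map_pow,
          show rs hWΩ (shPb h h𝔜 b (locus_le h h𝔜 b J (f i)) (f i)) = shPb h h𝔜 b hjW (f i) from pb_rs _ _ _ hWΩ (f i)]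
      have h2 : ∀ (q : ℕ) (x : OA 𝔜 h𝔜 W), x * rs hWV (shPb h h𝔜 b j (f l)) ^ q = 0 → x = 0 := by
        intro q
        induction q with
        | zero => intro x hx; rwa [pow_zero, mul_one] at hx
        | succ q ih =>
          intro x hx
          exact ih x (hinvW.2.1 W le_rfl _ (by rwa [rs_self, mul_assoc, ← pow_succ]))
      exact sub_eq_zero.1 (h2 k _ (by rw [sub_mul, h1, sub_self]))
    obtain ⟨m, hm⟩ : ∃ m, u * t ^ m ∈ J'.sect V := by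
      have hu' : rs hWV u ∈ J'.sect W := by
        rw [huW]
        exact Ideal.mul_mem_right _ _ (rs_mem J' hWΩ hr)
      rw [hN W (hWV.trans i₂), mem_ofLevel_affine_iff h𝔜 N 𝒜 hW, projR_rs] at hu'
      have key : ∀ (D : (𝔜.X N).affineOpens) (q : D.1 ≤ 𝔜.lvU h𝔜 N V),
          D.1 = (𝔜.X N).basicOpen (projR 𝔜 h𝔜 V N t) →
          (𝔜.X N).presheaf.map (homOfLE q).op (projR 𝔜 h𝔜 V N u) ∈ 𝒜.ideal D →
          ∃ m : ℕ, projR 𝔜 h𝔜 V N u * projR 𝔜 h𝔜 V N t ^ m ∈ 𝒜.ideal (lvA h𝔜 hV N) := by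
        rintro ⟨D, hD⟩ q (rfl : D = _) hmem
        rw [← 𝒜.map_ideal (U := ⟨_, hD⟩) (V := lvA h𝔜 hV N) q] at hmem
        haveI := (FSchAff.isAffineOpen_lvU 𝔜 h𝔜 hV N).isLocalization_basicOpen (projR 𝔜 h𝔜 V N t)
        obtain ⟨_, ⟨m, rfl⟩, hm⟩ := (IsLocalization.algebraMap_mem_map_algebraMap_iff
          (Submonoid.powers (projR 𝔜 h𝔜 V N t)) Γ(𝔜.X N, (𝔜.X N).basicOpen (projR 𝔜 h𝔜 V N t))
          (𝒜.ideal (lvA h𝔜 hV N)) (projR 𝔜 h𝔜 V N u)).1 hmem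
        exact ⟨m, by rwa [mul_comm]⟩
      obtain ⟨m, hm⟩ := key (lvA h𝔜 hW N) (lvU_mono h𝔜 hWV N) (basicOpen_projR h𝔜 V t N).symm hu'
      refine ⟨m, ?_⟩
      rw [hN V i₂, mem_ofLevel_affine_iff h𝔜 N 𝒜 hV, map_mul, map_pow]
      exact hm
    exact ⟨V, j, l, t, u, m, hyV, ht, hu, hm⟩
  choose V j l t u m hyV ht hu hm using hloc
  obtain ⟨T, hT⟩ := (isCompact_preimage_good h h𝔜 b p hp hI hb hgood).elim_finite_subcover
    (fun y => (V y : Set (𝔜.X 0))) (fun y => (V y).2) (fun y hy => Set.mem_iUnion.2 ⟨⟨y, hy⟩, hyV _⟩)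
  refine ⟨k + T.sup m, fun M hM => ⟨by omega, IdealSh.mem_of_local _ fun x hx => ?_⟩⟩
  obtain ⟨y, hy, hxy⟩ := Set.mem_iUnion₂.1 (hT hx)
  refine ⟨V y, j y, hxy, ?_⟩
  show rs (j y) _ ∈ _
  rw [show rs (j y) (shPb h h𝔜 b (le_refl ((b : FSch.Hom 𝔜 𝔛).app 0 ⁻¹ᵁ U)) (a * f i ^ (M + 1 - k))) =
      shPb h h𝔜 b (j y) (a * f i ^ (M + 1 - k)) from pb_rs _ _ _ (j y) _, map_mul, map_pow, hu, ht]
  have hmy : m y ≤ M + 1 - k := by
    have := Finset.le_sup (f := m) hy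
    omega
  obtain ⟨d, hd⟩ := Nat.exists_eq_add_of_le hmy
  have e : u y * shPb h h𝔜 b (j y) (f (l y)) ^ k * (t y * shPb h h𝔜 b (j y) (f (l y))) ^ (M + 1 - k) =
      (u y * t y ^ m y * t y ^ d) * shPb h h𝔜 b (j y) (f (l y) ^ (M + 1)) := by
    rw [show M + 1 = k + (m y + d) by omega, show k + (m y + d) - k = m y + d by omega, map_pow]
    ring
  rw [e]
  exact mul_mem_mul (Ideal.mul_mem_right _ _ (hm y)) (mem_idealMap h h𝔜 b (j y) (pow_mem_pw h (hfJ _) M))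

/-- A coherent open ideal on a blowing-up of a quasi-compact formal scheme comes from the base up to a power of the
exceptional ideal. -/
theorem exists_descend [CompactSpace (𝔛.X 0)] [QuasiSeparatedSpace (𝔛.X 0)] (hJ : IsCohOpen 𝔛 h J)
    {J' : IdealSh (𝔜.Osh h𝔜)} (hJ' : IsCohOpen 𝔜 h𝔜 J') :
    ∃ (m : ℕ) (K : IdealSh (𝔛.Osh h)), IsCohOpen 𝔛 h K ∧
      idealMap b h𝔜 h K = IdealSh.mul J' (idealMap b h𝔜 h (pw h J m)) := by
  classical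
  have hbp : FSch.IsAdicHom (b ≫ p) := isAdicHom_comp hb.1 hp
  -- finitely many good opens
  choose U hUle hxU hgood using fun x : 𝔛.X 0 => exists_goodOpen h hp hI hJ x ⊤ trivial
  obtain ⟨T, hT⟩ := isCompact_univ.elim_finite_subcover (fun x => (U x : Set (𝔛.X 0))) (fun x => (U x).2)
    (fun x _ => Set.mem_iUnion.2 ⟨x, hxU x⟩)
  have hgood' := hgood
  choose hUaff s c f hfJ hJf hpow using hgood
  choose n r k a hr hrgen ha hra using fun (x : 𝔛.X 0) (i : Fin (s x)) =>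
    exists_chart_generators h h𝔜 b p hp hI hb hJ' (hUaff x) (f x) (hfJ x) (hJf x) (hpow x) i
  choose m₀ hm₀ using fun (x : 𝔛.X 0) (i : Fin (s x)) (q : Fin (n x i)) =>
    exists_bound h h𝔜 b p hp hI hb hJ' (hgood' x) (f x) (hfJ x) (hJf x) i (hr x i q) (ha x i q) (hra x i q)
  let m := T.sup fun x => Finset.univ.sup fun i => Finset.univ.sup fun q => m₀ x i q
  have hm : ∀ x ∈ T, ∀ i q, m₀ x i q ≤ m := fun x hx i q =>
    (Finset.le_sup (f := m₀ x i) (Finset.mem_univ q)).trans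
      ((Finset.le_sup (f := fun i => Finset.univ.sup fun q => m₀ x i q) (Finset.mem_univ i)).trans
        (Finset.le_sup (f := fun x => Finset.univ.sup fun i => Finset.univ.sup fun q => m₀ x i q) hx))
  let Q := IdealSh.mul J' (idealMap b h𝔜 h (pw h J m))
  have hpwcoh : ∀ m, IsCohOpen 𝔛 h (pw h J m) := fun m => by
    induction m with
    | zero => exact hJ
    | succ m ih => exact isCohOpen_mul h p hp hI ih hJ
  have hQ : IsCohOpen 𝔜 h𝔜 Q :=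
    isCohOpen_mul h𝔜 (b ≫ p) hbp hI hJ' (isCohOpen_idealMap h h𝔜 p hp hI b hb.1 (hpwcoh m))
  -- pieces of the source
  have hloc : ∀ y : 𝔜.X 0, ∃ (L : (𝔜.X 0).Opens) (N : ℕ) (𝒬 : (𝔜.X N).IdealSheafData),
      y ∈ L ∧ IsAffineOpen L ∧ FSch.IdealFT 𝒬 ∧ ∀ V ≤ L, Q.sect V = (ofLevel 𝔜 h𝔜 N 𝒬).sect V := by
    intro y
    obtain ⟨L₀, hyL₀, N, 𝒬, hft, he⟩ := hQ y
    obtain ⟨L, hL, hyL, hLle⟩ := exists_isAffineOpen_mem_and_subset hyL₀
    exact ⟨L, N, 𝒬, hyL, hL, hft, fun V hV => he V (hV.trans hLle)⟩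
  choose L N₁ 𝒬₁ hyL hL h𝒬₁ he₁ using hloc
  have hYc : IsCompact (Set.univ : Set (𝔜.X 0)) := by
    have e : (Set.univ : Set (𝔜.X 0)) = ⋃ x ∈ T, ((b : FSch.Hom 𝔜 𝔛).app 0 ⁻¹ᵁ U x : Set (𝔜.X 0)) := by
      refine subset_antisymm (fun y _ => ?_) (Set.subset_univ _)
      obtain ⟨x, hx, hyx⟩ := Set.mem_iUnion₂.1 (hT (Set.mem_univ ((b : FSch.Hom 𝔜 𝔛).app 0 y)))
      exact Set.mem_iUnion₂.2 ⟨x, hx, hyx⟩
    rw [e]
    exact T.finite_toSet.isCompact_biUnion fun x _ => isCompact_preimage_good h h𝔜 b p hp hI hb (hgood' x)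
  obtain ⟨A, hA⟩ := hYc.elim_finite_subcover (fun y => (L y : Set (𝔜.X 0))) (fun y => (L y).2)
    (fun y _ => Set.mem_iUnion.2 ⟨y, hyL y⟩)
  let N := A.sup N₁
  choose 𝒬 h𝒬 h𝒬e using fun y : A => exists_raise h𝔜 (b ≫ p) hbp hI (Finset.le_sup (f := N₁) y.2) (h𝒬₁ y.1)
  have heQ : ∀ (y : A), ∀ V ≤ L y.1, Q.sect V = (ofLevel 𝔜 h𝔜 N (𝒬 y)).sect V := fun y V hV => by
    rw [h𝒬e y]; exact he₁ y.1 V hV
  haveI := quasiSeparatedSpace_level h N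
  haveI := compactSpace_level h N
  let bN := (b : FSch.Hom 𝔜 𝔛).app N
  let Lv : A → (𝔜.X N).Opens := fun y => 𝔜.lvU h𝔜 N (L y.1)
  haveI hqc : ∀ y, QuasiCompact ((Lv y).ι ≫ bN) := fun y => by
    haveI : IsAffine (Lv y).toScheme := FSchAff.isAffineOpen_lvU 𝔜 h𝔜 (hL y.1) N
    exact quasiCompact_of_compactSpace _
  let P := ⨅ y : A, ((𝒬 y).comap (Lv y).ι).map ((Lv y).ι ≫ bN)
  -- the candidates lie in `P`
  have hP : ∀ (x : 𝔛.X 0), x ∈ T → ∀ (i : Fin (s x)) (q : Fin (n x i)),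
      projR 𝔛 h (U x) N (a x i q * f x i ^ (m + 1 - k x i q)) ∈ P.ideal (lvA h (hUaff x) N) := by
    intro x hx i q
    simp only [P, Scheme.IdealSheafData.ideal_iInf, iInf_apply, Ideal.mem_iInf]
    intro y
    refine RZExt.mem_map_ideal _ (lvA h (hUaff x) N) _ fun z hz => ?_
    have hz' : 𝔜.gInv h𝔜 N ((Lv y).ι z) ∈ (b : FSch.Hom 𝔜 𝔛).app 0 ⁻¹ᵁ U x ⊓ L y.1 :=
      ⟨(FSch.Hom.lvU_preimage b h𝔜 h N (U x)).le hz, z.2⟩
    obtain ⟨W, hW, hzW, hWle⟩ := exists_isAffineOpen_mem_and_subset hz'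
    have jW : W ≤ (b : FSch.Hom 𝔜 𝔛).app 0 ⁻¹ᵁ U x := fun w hw => (hWle hw).1
    have iW : W ≤ L y.1 := fun w hw => (hWle hw).2
    have hG : IsAffineOpen ((Lv y).ι ⁻¹ᵁ 𝔜.lvU h𝔜 N W) :=
      (lvA h𝔜 hW N).2.preimage_of_isOpenImmersion _ (by
        rw [Scheme.Opens.opensRange_ι]; exact lvU_mono h𝔜 iW N)
    have hGle : (Lv y).ι ⁻¹ᵁ 𝔜.lvU h𝔜 N W ≤ ((Lv y).ι ≫ bN) ⁻¹ᵁ 𝔛.lvU h N (U x) := fun w hw =>
      lvU_le_preimage h h𝔜 b jW N hw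
    refine ⟨⟨_, hG⟩, hGle, hzW, ?_⟩
    have h1 := (hm₀ x i q m (hm x hx i q)).2
    have h2 := rs_mem _ jW h1
    rw [show rs jW (shPb h h𝔜 b (le_refl _) (a x i q * f x i ^ (m + 1 - k x i q))) =
      shPb h h𝔜 b jW (a x i q * f x i ^ (m + 1 - k x i q)) from pb_rs _ _ _ jW _] at h2
    have h3 := (mem_ofLevel_affine_iff h𝔜 N (𝒬 y) hW _).1 ((heQ y W iW).le h2)
    rw [projR_shPb] at h3
    rw [FpqcDescent.ideal_comap_appLE (𝒬 y) (Lv y).ι (lvA h𝔜 hW N) ⟨_, hG⟩ le_rfl]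
    refine Eq.subst (motive := (· ∈ _)) ?_ (Ideal.mem_map_of_mem ((Lv y).ι.appLE _ _ le_rfl).hom h3)
    show (bN.appLE _ _ (lvU_le_preimage h h𝔜 b jW N) ≫ (Lv y).ι.appLE _ _ le_rfl) _ = _
    rw [Scheme.Hom.appLE_comp_appLE]
  choose Lft hLP hLft hLmem using fun (x : T) (i : Fin (s x.1)) (q : Fin (n x.1 i)) =>
    LimClosed.exists_ft_le P (lvA h (hUaff x.1) N) _ (hP x.1 x.2 i q)
  let M := Finset.univ.sup fun z : Σ x : T, Σ i : Fin (s x.1), Fin (n x.1 i) => Lft z.1 z.2.1 z.2.2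
  have hMft : FSch.IdealFT M := Finset.sup_induction
    (fun D => by rw [Scheme.IdealSheafData.ideal_bot]; exact Submodule.fg_bot)
    (fun M₁ hM₁ M₂ hM₂ D => by
      rw [Scheme.IdealSheafData.ideal_sup, Pi.sup_apply]
      exact Submodule.FG.sup (hM₁ D) (hM₂ D)) (fun z _ => hLft z.1 z.2.1 z.2.2)
  have hMP : M ≤ P := Finset.sup_le fun z _ => hLP z.1 z.2.1 z.2.2
  refine ⟨m, ofLevel 𝔛 h N M, isCohOpen_ofLevel h hMft, idealSh_antisymm (fun V w hw => ?_) ?_⟩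
  · -- the inverse image lies in the product
    rw [idealMap_ofLevel h h𝔜 p hp hI b hb.1 N M] at hw
    refine Q.mem_of_local fun y hy => ?_
    obtain ⟨y', hy', hyy⟩ := Set.mem_iUnion₂.1 (hA (Set.mem_univ y))
    obtain ⟨W, hW, hyW, hWle⟩ := exists_isAffineOpen_mem_and_subset (show y ∈ V ⊓ L y' from ⟨hy, hyy⟩)
    have iV : W ≤ V := fun z hz => (hWle hz).1
    have iL : W ≤ L y' := fun z hz => (hWle hz).2
    refine ⟨W, iV, hyW, (heQ ⟨y', hy'⟩ W iL).ge ((mem_ofLevel_affine_iff h𝔜 N _ hW _).2 ?_)⟩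
    have h1 := (mem_ofLevel_affine_iff h𝔜 N (M.comap bN) hW _).1 (rs_mem _ iV hw)
    have hle : (M.comap bN).comap (Lv ⟨y', hy'⟩).ι ≤ (𝒬 ⟨y', hy'⟩).comap (Lv ⟨y', hy'⟩).ι := by
      rw [← Scheme.IdealSheafData.comap_comp]
      exact Scheme.IdealSheafData.le_map_iff_comap_le.1 (hMP.trans (iInf_le _ _))
    have hlW : 𝔜.lvU h𝔜 N W ≤ Lv ⟨y', hy'⟩ := lvU_mono h𝔜 iL N
    have hG : IsAffineOpen ((Lv ⟨y', hy'⟩).ι ⁻¹ᵁ 𝔜.lvU h𝔜 N W) :=
      (lvA h𝔜 hW N).2.preimage_of_isOpenImmersion _ (by rwa [Scheme.Opens.opensRange_ι])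
    have hbij : Function.Bijective ((Lv ⟨y', hy'⟩).ι.appLE (𝔜.lvU h𝔜 N W)
        ((Lv ⟨y', hy'⟩).ι ⁻¹ᵁ 𝔜.lvU h𝔜 N W) le_rfl) := by
      rw [← Scheme.Hom.app_eq_appLE]
      haveI : IsIso ((Lv ⟨y', hy'⟩).ι.app (𝔜.lvU h𝔜 N W)) :=
        Scheme.Hom.isIso_app _ _ (by rwa [Scheme.Opens.opensRange_ι])
      exact ConcreteCategory.bijective_of_isIso _
    have h2 := hle ⟨_, hG⟩
    rw [FpqcDescent.ideal_comap_appLE (M.comap bN) _ (lvA h𝔜 hW N) ⟨_, hG⟩ le_rfl,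
      FpqcDescent.ideal_comap_appLE (𝒬 ⟨y', hy'⟩) _ (lvA h𝔜 hW N) ⟨_, hG⟩ le_rfl] at h2
    obtain ⟨d, hd, hde⟩ := (Ideal.mem_map_iff_of_surjective _ hbij.2).1 (h2 (Ideal.mem_map_of_mem _ h1))
    exact hbij.1 hde ▸ hd
  · -- the product lies in the inverse image
    intro V w hw
    refine IdealSh.mem_of_local _ fun y hy => ?_
    obtain ⟨x, hx, hyx⟩ := Set.mem_iUnion₂.1 (hT (Set.mem_univ ((b : FSch.Hom 𝔜 𝔛).app 0 y)))
    obtain ⟨V', jV', i, hyV', hinv'⟩ := exists_generator_nhd h h𝔜 (f x) (hfJ x) (hJf x) b hb.2.1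
      (show (b : FSch.Hom 𝔜 𝔛).app 0 y ∈ U x from hyx)
    have hyΩ := le_locus h h𝔜 b J (f x i) jV' hinv' hyV'
    refine ⟨V ⊓ locus h h𝔜 b J (f x i), inf_le_left, ⟨hy, hyΩ⟩, ?_⟩
    have hφ := pw_le_relGen h h𝔜 b (invOn_locus h h𝔜 b J (f x i)).2.2 m
    have h1 := mul_le_relGen (hrgen x i) hφ (V ⊓ locus h h𝔜 b J (f x i)) (rs_mem _ inf_le_left hw)
    refine mem_of_mem_relGen _ inf_le_right (fun z => ?_) h1
    have hmem : a x i z.1 * f x i ^ (m + 1 - k x i z.1) ∈ (ofLevel 𝔛 h N M).sect (U x) := by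
      refine (mem_ofLevel_affine_iff h N M (hUaff x) _).2 ?_
      exact (Finset.le_sup (f := fun z : Σ x : T, Σ i : Fin (s x.1), Fin (n x.1 i) => Lft z.1 z.2.1 z.2.2)
        (Finset.mem_univ ⟨⟨x, hx⟩, i, z.1⟩) : Lft ⟨x, hx⟩ i z.1 ≤ M) _ (hLmem ⟨x, hx⟩ i z.1)
    refine Eq.subst (motive := (· ∈ _)) ?_ (mem_idealMap h h𝔜 b (locus_le h h𝔜 b J (f x i)) hmem)
    show shPb h h𝔜 b (locus_le h h𝔜 b J (f x i)) _ = r x i z.1 * _
    rw [map_mul, map_pow, ← hra x i z.1, mul_assoc, ← pow_add]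
    congr 2
    have := (hm₀ x i z.1 m (hm x hx i z.1)).1
    omega

/-- Blowing up an ideal and blowing up its product with an invertible coherent open ideal agree. -/
theorem isAdmBlowUp_mul_invertible {E J' : IdealSh (𝔜.Osh h𝔜)} (hE : IsCohOpen 𝔜 h𝔜 E) (hEi : E.IsInvertible)
    (hJ' : IsCohOpen 𝔜 h𝔜 J') {ℨ : FSch.Sys.{u}} (hℨ : ℨ.IsFormal) (b' : ℨ ⟶ 𝔜)
    (hb' : IsAdmBlowUp b' hℨ h𝔜 J') : IsAdmBlowUp b' hℨ h𝔜 (IdealSh.mul J' E) := by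
  have hbp : FSch.IsAdicHom (b ≫ p) := isAdicHom_comp hb.1 hp
  refine ⟨hb'.1, ?_, fun 𝔚 h𝔚 g hg hinv => ?_⟩
  · rw [idealMap_mul h𝔜 hℨ]
    refine isInvertible_mul hb'.2.1 (isInvertible_iff.2 fun x => ?_)
    set x' := (b' : FSch.Hom ℨ 𝔜).app 0 x
    obtain ⟨U₀, hxU₀, g, hg⟩ := isInvertible_iff.1 hEi x'
    obtain ⟨U₁, hU₁le, hxU₁, hU₁⟩ := exists_goodOpen h𝔜 hbp hI hJ' x' U₀ hxU₀
    obtain ⟨U, hUle, hxU, hUE⟩ := exists_goodOpen h𝔜 hbp hI hE x' U₁ hxU₁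
    obtain ⟨hU, r, c, f, hf, hJf, hpow⟩ := GoodOpen.res h𝔜 hU₁ hUle hUE.1
    obtain ⟨-, r', c', f', hf', -, hpow'⟩ := hUE
    have hUU₀ : U ≤ U₀ := hUle.trans hU₁le
    have hgU := hg.res hUU₀
    have hdvd : ∀ a ∈ I ^ (c' + 1), rs hUU₀ g ∣ rho h𝔜 (b ≫ p) U a := fun a ha => by
      obtain ⟨t, ht⟩ := hgU.exists_eq le_rfl
        ((Ideal.span_le.2 (by rintro _ ⟨q, rfl⟩; exact hf' q) : Ideal.span (Set.range f') ≤ E.sect U) (hpow' a ha))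
      exact ⟨t, ht.trans (by rw [rs_self, mul_comm])⟩
    obtain ⟨V, jV, i, hxV, hinvV⟩ := exists_generator_nhd h𝔜 hℨ f hf hJf b' hb'.2.1 hxU
    refine ⟨V, hxV, shPb h𝔜 hℨ b' jV (rs hUU₀ g), mem_idealMap h𝔜 hℨ b' jV hgU.1, ?_,
      idealMap_le_relGen h𝔜 hℨ b' hgU.2.2 jV⟩
    exact nzdOn_chart h𝔜 hℨ (b ≫ p) hbp hI hU J' b' hb' f hf hJf hpow i jV hinvV
      (fun a ha => hgU.2.1 U le_rfl a (by rw [rs_self, mul_comm]; exact ha)) hdvd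
  · rw [idealMap_mul h𝔜 h𝔚] at hinv
    exact hb'.2.2 𝔚 h𝔚 g hg (isInvertible_of_mul (hasLocalUnits h𝔚) hinv)

end Groth.Agent.FormBlow
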