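/-
Gluing admissible formal blowing-ups given over the members of a basis of opens.
-/
import Groth.Agent.FormBlow.ExistBasic
import Groth.Agent.FormBlow.BlowLift
import Groth.Agent.FormBlow.ExistLocal
import Mathlib.AlgebraicGeometry.RelativeGluing

set_option autoImplicit false
set_option backward.isDefEq.respectTransparency false
set_option linter.style.haveILetI false

universe u

open CategoryTheory CategoryTheory.Limits AlgebraicGeometry TopologicalSpace Opposite FBlow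
open Groth.Agent.FSchCoh (OA RA projR transR transR_projR OA_ext OA_lift projR_surjective)

noncomputable section

namespace Groth.Agent.FormBlow

variable {𝔛 : FSch.Sys.{u}} {h : 𝔛.IsFormal} {J : IdealSh (𝔛.Osh h)}

/-- Blowing-ups over the members of a basis, each member carrying generators. -/
structure LocalBlows (h : 𝔛.IsFormal) (J : IdealSh (𝔛.Osh h)) where
  good : (𝔛.X 0).Opens → Prop
  basis : ∀ (x : 𝔛.X 0) (O : (𝔛.X 0).Opens), x ∈ O → ∃ V ≤ O, x ∈ V ∧ good V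
  gens : ∀ U, good U → ∃ (s : ℕ) (f : Fin s → OA 𝔛 h U), (∀ k, f k ∈ J.sect U) ∧ J ≤ relGen U f
  exists_loc : ∀ U, good U → ∃ (𝔏 : FSch.Sys.{u}) (h𝔏 : 𝔏.IsFormal) (b : 𝔏 ⟶ 𝔛), IsBlowOver h J U h𝔏 b

variable (D : LocalBlows h J)

/-- the index set -/
def LocalBlows.Idx : Type u := {U : (𝔛.X 0).Opens // D.good U}

instance : Preorder D.Idx := inferInstanceAs (Preorder {U : (𝔛.X 0).Opens // D.good U})

theorem LocalBlows.le_of_hom {i j : D.Idx} (e : i ⟶ j) : i.1 ≤ j.1 := e.le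

/-- the local blowing-up -/
def locSys (U : D.Idx) : FSch.Sys.{u} := (D.exists_loc U.1 U.2).choose

theorem locFormal (U : D.Idx) : (locSys D U).IsFormal := (D.exists_loc U.1 U.2).choose_spec.choose

/-- its structure map -/
def locB (U : D.Idx) : locSys D U ⟶ 𝔛 := (D.exists_loc U.1 U.2).choose_spec.choose_spec.choose

theorem locB_spec (U : D.Idx) : IsBlowOver h J U.1 (locFormal D U) (locB D U) :=
  (D.exists_loc U.1 U.2).choose_spec.choose_spec.choose_spec

theorem exists_trans {U V : D.Idx} (e : U.1 ≤ V.1) : ∃! k : locSys D U ⟶ locSys D V, k ≫ locB D V = locB D U :=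
  (locB_spec D V).lift _ (locFormal D U) _ (locB_spec D U).adic
    (fun y hy => e ((locB_spec D U).lands hy)) (locB_spec D U).inv

/-- transition map -/
def locT {U V : D.Idx} (e : U.1 ≤ V.1) : locSys D U ⟶ locSys D V := (exists_trans D e).choose

theorem locT_locB {U V : D.Idx} (e : U.1 ≤ V.1) : locT D e ≫ locB D V = locB D U :=
  (exists_trans D e).choose_spec.1

theorem eq_locT {U V : D.Idx} (e : U.1 ≤ V.1) (k : locSys D U ⟶ locSys D V) (hk : k ≫ locB D V = locB D U) :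
    k = locT D e :=
  (exists_trans D e).choose_spec.2 k hk

/-- structure map into the open piece -/
def locBar (U : D.Idx) : locSys D U ⟶ 𝔛.restrictOpen h U.1 := toOpen h (locFormal D U) (locB D U) U.1 (locB_spec D U).lands

theorem locBar_ι (U : D.Idx) : locBar D U ≫ 𝔛.restrictOpenι h U.1 = locB D U := toOpen_ι _ _ _ _ _

theorem locBar_app_ι (U : D.Idx) (n : ℕ) :
    (locBar D U : FSch.Hom _ _).app n ≫ (𝔛.lvU h n U.1).ι = (locB D U : FSch.Hom _ _).app n :=
  congrArg (fun φ : locSys D U ⟶ 𝔛 => (φ : FSch.Hom _ 𝔛).app n) (locBar_ι D U)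

/-- the transition identifies the smaller blowing-up with a preimage -/
theorem isPullback_locT {U V : D.Idx} (e : U.1 ≤ V.1) (n : ℕ) :
    IsPullback ((locT D e : FSch.Hom _ _).app n) ((locBar D U : FSch.Hom _ _).app n)
      ((locBar D V : FSch.Hom _ _).app n) ((𝔛.X n).homOfLE (lvU_mono h e n)) := by
  let hU := locFormal D U
  let hV := locFormal D V
  let W := (locB D V : FSch.Hom _ _).app 0 ⁻¹ᵁ U.1
  have hTW : ⊤ ≤ (locT D e : FSch.Hom _ _).app 0 ⁻¹ᵁ W := by
    intro y hy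
    show ((locT D e ≫ locB D V : FSch.Hom _ _).app 0) y ∈ U.1
    rw [locT_locB]
    exact (locB_spec D U).lands hy
  let e₁ := toOpen hV hU (locT D e) W hTW
  let hW := isFormal_restrictOpen hV W
  let ιW := (locSys D V).restrictOpenι hV W
  obtain ⟨k, hk, -⟩ := (locB_spec D U).lift _ hW (ιW ≫ locB D V)
    (isAdicHom_comp (isAdicHom_restrictOpenι hV W) (locB_spec D V).adic)
    (fun y _ => top_le_restrictOpenι hV W (show y ∈ ⊤ from trivial))
    (by
      rw [← idealMap_comp h hV (locB D V) hW ιW J]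
      exact isInvertible_restrictOpen hV W (locB_spec D V).inv)
  have hkT : k ≫ locT D e = ιW := ((locB_spec D V).lift _ hW (ιW ≫ locB D V)
    (isAdicHom_comp (isAdicHom_restrictOpenι hV W) (locB_spec D V).adic)
    (fun y _ => e (top_le_restrictOpenι hV W (show y ∈ ⊤ from trivial)))
    (by
      rw [← idealMap_comp h hV (locB D V) hW ιW J]
      exact isInvertible_restrictOpen hV W (locB_spec D V).inv)).unique
    (by rw [Category.assoc, locT_locB, hk]) rfl
  have h1 : e₁ ≫ k = 𝟙 _ := ((locB_spec D U).lift _ hU (locB D U) (locB_spec D U).adic (locB_spec D U).lands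
    (locB_spec D U).inv).unique (by rw [Category.assoc, hk, ← Category.assoc, toOpen_ι, locT_locB]) (Category.id_comp _)
  have h2 : k ≫ e₁ = 𝟙 _ := hom_eq_of_restrictOpenι hV W (by rw [Category.assoc, toOpen_ι, hkT, Category.id_comp])
  haveI : IsIso ((e₁ : FSch.Hom _ _).app n) :=
    ⟨(k : FSch.Hom _ _).app n, congrArg (fun φ : locSys D U ⟶ locSys D U => (φ : FSch.Hom _ _).app n) h1,
      congrArg (fun φ : (locSys D V).restrictOpen hV W ⟶ (locSys D V).restrictOpen hV W =>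
        (φ : FSch.Hom _ _).app n) h2⟩
  have hfac : (e₁ : FSch.Hom _ _).app n ≫ ((locSys D V).lvU hV n W).ι = (locT D e : FSch.Hom _ _).app n :=
    congrArg (fun φ : locSys D U ⟶ locSys D V => (φ : FSch.Hom _ _).app n) (toOpen_ι hV hU (locT D e) W hTW)
  haveI : IsOpenImmersion ((locT D e : FSch.Hom _ _).app n) := hfac ▸ inferInstanceAs
    (IsOpenImmersion ((e₁ : FSch.Hom _ _).app n ≫ ((locSys D V).lvU hV n W).ι))
  refine (IsOpenImmersion.isPullback _ _ _ _ ?_ ?_).flip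
  · haveI : Mono (𝔛.lvU h n V.1).ι := inferInstance
    refine (cancel_mono (𝔛.lvU h n V.1).ι).1 ?_
    refine ((Category.assoc _ _ _).trans ((congrArg (_ ≫ ·) (locBar_app_ι D V n)).trans ?_)).trans
      ((Category.assoc _ _ _).trans (congrArg (_ ≫ ·) (Scheme.homOfLE_ι _ _))).symm
    exact (congrArg (fun φ : locSys D U ⟶ 𝔛 => (φ : FSch.Hom _ _).app n) (locT_locB D e)).trans
      (locBar_app_ι D U n).symm
  · refine TopologicalSpace.Opens.ext (Set.ext fun y => ?_)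
    have hy : (((locBar D V : FSch.Hom _ _).app n) y).1 = (locB D V : FSch.Hom _ _).app n y :=
      congrArg (fun φ : (locSys D V).X n ⟶ 𝔛.X n => φ y) (locBar_app_ι D V n)
    constructor
    · rintro ⟨z, hz⟩
      have hz' : (locB D V : FSch.Hom _ _).app n y ∈ 𝔛.lvU h n U.1 := by
        rw [← hy, ← hz]
        show ((𝔛.X n).homOfLE (lvU_mono h e n) ≫ (𝔛.lvU h n V.1).ι) z ∈ _
        rw [Scheme.homOfLE_ι]
        exact z.2
      have hyW : y ∈ (locSys D V).lvU hV n W := (FSch.Hom.lvU_preimage (locB D V) hV h n U.1).le hz'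
      refine ⟨(k : FSch.Hom _ _).app n ⟨y, hyW⟩, ?_⟩
      exact congrArg (fun φ : (locSys D V).restrictOpen hV W ⟶ locSys D V => (φ : FSch.Hom _ _).app n ⟨y, hyW⟩) hkT
    · rintro ⟨z, rfl⟩
      refine ⟨(locBar D U : FSch.Hom _ _).app n z, Subtype.ext ?_⟩
      rw [hy]
      show ((locBar D U : FSch.Hom _ _).app n ≫ (𝔛.X n).homOfLE (lvU_mono h e n) ≫ (𝔛.lvU h n V.1).ι) z = _
      rw [Scheme.homOfLE_ι, locBar_app_ι D U n, ← congrArg (fun φ : locSys D U ⟶ 𝔛 => (φ : FSch.Hom _ _).app n)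
        (locT_locB D e)]
      rfl

/-- the cover of a level -/
def levelCover (n : ℕ) : (𝔛.X n).OpenCover :=
  (𝔛.X n).openCoverOfIsOpenCover (fun U : D.Idx => 𝔛.lvU h n U.1) (IsOpenCover.mk (eq_top_iff.2 fun y _ => by
    obtain ⟨V, -, hy, hV⟩ := D.basis (𝔛.gInv h n y) ⊤ trivial
    exact Opens.mem_iSup.2 ⟨⟨V, hV⟩, hy⟩))

instance (n : ℕ) : Category (levelCover D n).I₀ := inferInstanceAs (Category D.Idx)

instance (n : ℕ) : Small.{u} (levelCover D n).I₀ := inferInstanceAs (Small.{u} D.Idx)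

instance (n : ℕ) : Quiver.IsThin (levelCover D n).I₀ := fun _ _ => inferInstanceAs (Subsingleton ((_ : D.Idx) ⟶ _))

instance (n : ℕ) : (levelCover D n).LocallyDirected where
  trans {i j} e := (𝔛.X n).homOfLE (lvU_mono h (D.le_of_hom e) n)
  trans_id i := Scheme.homOfLE_rfl _ _
  trans_comp _ _ := (Scheme.homOfLE_homOfLE _ _ _).symm
  w e := Scheme.homOfLE_ι _ _
  directed {i j} x := by
    have hx : ((pullback.fst ((levelCover D n).f i) ((levelCover D n).f j)) x).1 =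
        ((pullback.snd ((levelCover D n).f i) ((levelCover D n).f j)) x).1 :=
      congrArg (fun φ : pullback ((levelCover D n).f i) ((levelCover D n).f j) ⟶ 𝔛.X n => φ x) pullback.condition
    obtain ⟨V, hV, hxV, hVgood⟩ := D.basis (𝔛.gInv h n ((pullback.fst ((levelCover D n).f i) _ x).1))
      (i.1 ⊓ j.1) ⟨(pullback.fst ((levelCover D n).f i) _ x).2,
        hx ▸ (pullback.snd ((levelCover D n).f i) ((levelCover D n).f j) x).2⟩
    let k : D.Idx := ⟨V, hVgood⟩
    refine ⟨k, (homOfLE (X := D.Idx) (y := i) (hV.trans inf_le_left) : k ⟶ i), (homOfLE (X := D.Idx) (y := j) (hV.trans inf_le_right) : k ⟶ j),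
      ⟨_, hxV⟩, ?_⟩
    apply (pullback.fst ((levelCover D n).f i) ((levelCover D n).f j)).injective
    rw [← Scheme.Hom.comp_apply, pullback.lift_fst]
    refine Subtype.ext ?_
    show ((𝔛.X n).homOfLE _ ≫ (𝔛.lvU h n i.1).ι) _ = _
    rw [Scheme.homOfLE_ι]
    rfl
  property_trans e := inferInstanceAs (IsOpenImmersion ((𝔛.X n).homOfLE (lvU_mono h (D.le_of_hom e) n)))

/-- gluing datum of a level -/
def levelData (n : ℕ) : (levelCover D n).RelativeGluingData where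
  functor :=
    { obj := fun U => (locSys D U).X n
      map := fun e => (locT D (D.le_of_hom e) : FSch.Hom _ _).app n
      map_id := fun U => congrArg (fun φ : locSys D U ⟶ locSys D U => (φ : FSch.Hom _ _).app n)
        (eq_locT D (D.le_of_hom (𝟙 U)) (𝟙 _) (Category.id_comp _)).symm
      map_comp := fun {U V W} e e' => congrArg (fun φ : locSys D U ⟶ locSys D W => (φ : FSch.Hom _ _).app n)
        (eq_locT D (D.le_of_hom (e ≫ e')) (locT D (D.le_of_hom e) ≫ locT D (D.le_of_hom e'))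
          (by rw [Category.assoc, locT_locB, locT_locB])).symm }
  natTrans :=
    { app := fun U => (locBar D U : FSch.Hom _ _).app n
      naturality := fun {U V} e => (isPullback_locT D (D.le_of_hom e) n).w }
  equifibered := fun {U V} e => isPullback_locT D (D.le_of_hom e) n

instance (n : ℕ) : ((levelData D n).functor ⋙ Scheme.forget).IsLocallyDirected :=
  Scheme.Cover.RelativeGluingData.instIsLocallyDirectedI₀CompFunctorForgetOfIsThin ..

instance (n : ℕ) {i j : (levelCover D n).I₀} (e : i ⟶ j) : IsOpenImmersion ((levelData D n).functor.map e) :=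
  Scheme.Cover.RelativeGluingData.instIsOpenImmersionMapI₀Functor (levelData D n) e

instance (n : ℕ) : HasColimit (levelData D n).functor := Scheme.IsLocallyDirected.instHasColimit _

/-- a glued level -/
def gluedX (n : ℕ) : Scheme.{u} := (levelData D n).glued

/-- chart -/
def embX (U : D.Idx) (n : ℕ) : (locSys D U).X n ⟶ gluedX D n := (levelData D n).cover.f U

instance (U : D.Idx) (n : ℕ) : IsOpenImmersion (embX D U n) := (levelData D n).cover.map_prop _

/-- structure map -/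
def projX (n : ℕ) : gluedX D n ⟶ 𝔛.X n := (levelData D n).toBase

theorem embX_projX (U : D.Idx) (n : ℕ) : embX D U n ≫ projX D n = (locB D U : FSch.Hom _ _).app n :=
  ((levelData D n).ι_toBase U).trans (locBar_app_ι D U n)

theorem range_embX (U : D.Idx) (n : ℕ) : projX D n ⁻¹ᵁ 𝔛.lvU h n U.1 = (embX D U n).opensRange := by
  have := (levelData D n).toBase_preimage_eq_opensRange_ι U
  rwa [show ((levelCover D n).f U).opensRange = 𝔛.lvU h n U.1 from Scheme.Opens.opensRange_ι _] at this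

theorem locT_embX {U V : D.Idx} (e : U.1 ≤ V.1) (n : ℕ) :
    (locT D e : FSch.Hom _ _).app n ≫ embX D V n = embX D U n :=
  colimit.w (levelData D n).functor (homOfLE (X := D.Idx) e : U ⟶ V)

/-- the cocone defining the transition of the glued levels -/
def gluedCocone (n : ℕ) : Cocone (levelData D n).functor where
  pt := gluedX D (n + 1)
  ι :=
    { app := fun U => (locSys D U).ι n ≫ embX D U (n + 1)
      naturality := fun {U V} e => by
        show (locT D (D.le_of_hom e) : FSch.Hom _ _).app n ≫ (locSys D V).ι n ≫ embX D V (n + 1) =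
          ((locSys D U).ι n ≫ embX D U (n + 1)) ≫ 𝟙 _
        rw [Category.comp_id, ← locT_embX D (D.le_of_hom e) (n + 1), ← Category.assoc, ← Category.assoc,
          (locT D (D.le_of_hom e) : FSch.Hom _ _).comm n] }

/-- transition of the glued levels -/
def gluedι (n : ℕ) : gluedX D n ⟶ gluedX D (n + 1) :=
  colimit.desc (levelData D n).functor (gluedCocone D n)

theorem embX_gluedι (U : D.Idx) (n : ℕ) : embX D U n ≫ gluedι D n = (locSys D U).ι n ≫ embX D U (n + 1) :=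
  colimit.ι_desc (gluedCocone D n) U

/-- the glued system -/
def gluedSys : FSch.Sys.{u} where
  X := gluedX D
  ι := gluedι D

/-- its structure map -/
def gluedB : gluedSys D ⟶ 𝔛 :=
  ⟨projX D, fun n => colimit.hom_ext (F := (levelData D n).functor) fun U => by
    show embX D U n ≫ projX D n ≫ 𝔛.ι n = embX D U n ≫ gluedι D n ≫ projX D (n + 1)
    rw [← Category.assoc, embX_projX, ← Category.assoc, embX_gluedι, Category.assoc, embX_projX]
    exact (locB D U : FSch.Hom _ _).comm n⟩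

theorem isAdicHom_gluedB : FSch.IsAdicHom (gluedB D) := fun n => by
  show IsPullback (gluedι D n) (projX D n) (projX D (n + 1)) (𝔛.ι n)
  refine Scheme.isPullback_of_openCover _ _ _ _ (levelData D (n + 1)).cover fun (U : D.Idx) => ?_
  have sq : IsPullback (embX D U n) ((locSys D U).ι n) (gluedι D n) (embX D U (n + 1)) := by
    refine (IsOpenImmersion.isPullback _ _ _ _ (embX_gluedι D U n) ?_).flip
    rw [← range_embX, ← range_embX, ← 𝔛.lvU_succ h n U.1, ← Scheme.Hom.comp_preimage, ← Scheme.Hom.comp_preimage]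
    exact congrArg (· ⁻¹ᵁ _) ((gluedB D : FSch.Hom _ _).comm n).symm
  refine IsPullback.of_iso ((locB_spec D U).adic n) sq.isoPullback (Iso.refl _) (Iso.refl _) (Iso.refl _) ?_ ?_ ?_ ?_
  · exact (Category.comp_id _).trans (sq.isoPullback_hom_snd).symm
  · refine (Category.comp_id _).trans ?_
    refine (embX_projX D U n).symm.trans ?_
    exact (congrArg (· ≫ projX D n) sq.isoPullback_hom_fst.symm).trans (Category.assoc _ _ _)
  · exact ((Category.comp_id _).trans (embX_projX D U (n + 1)).symm).trans (Category.id_comp _).symm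
  · exact (Category.comp_id _).trans (Category.id_comp _).symm

theorem gluedFormal : (gluedSys D).IsFormal := ThickSys.isFormal_of_isAdicHom _ h (isAdicHom_gluedB D)

/-- chart as a morphism of systems -/
def embHom (U : D.Idx) : locSys D U ⟶ gluedSys D :=
  ⟨fun n => embX D U n, fun n => embX_gluedι D U n⟩

theorem embHom_gluedB (U : D.Idx) : embHom D U ≫ gluedB D = locB D U :=
  FSch.Hom.ext (funext fun n => embX_projX D U n)

variable {𝔜 : FSch.Sys.{u}} (hY : 𝔜.IsFormal)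

include hY in
theorem exists_liftEmb (U : D.Idx) (g : 𝔜 ⟶ gluedSys D)
    (e : ⊤ ≤ (g ≫ gluedB D : FSch.Hom _ _).app 0 ⁻¹ᵁ U.1) : ∃ k : 𝔜 ⟶ locSys D U, k ≫ embHom D U = g := by
  have hr : ∀ n, Set.range ((g : FSch.Hom _ _).app n) ⊆ Set.range (embX D U n) := by
    rintro n _ ⟨y, rfl⟩
    have h1 := lvU_le_preimage h hY (g ≫ gluedB D) e n (show y ∈ 𝔜.lvU hY n ⊤ from trivial)
    exact (range_embX D U n).le h1
  refine ⟨⟨fun n => IsOpenImmersion.lift (embX D U n) ((g : FSch.Hom _ _).app n) (hr n), fun n => ?_⟩,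
    FSch.Hom.ext (funext fun n => IsOpenImmersion.lift_fac _ _ _)⟩
  refine (cancel_mono (embX D U (n + 1))).1 ?_
  rw [Category.assoc, Category.assoc, IsOpenImmersion.lift_fac, ← embX_gluedι, ← Category.assoc,
    IsOpenImmersion.lift_fac]
  exact (g : FSch.Hom _ _).comm n

theorem embHom_cancel (U : D.Idx) {k k' : 𝔜 ⟶ locSys D U} (e : k ≫ embHom D U = k' ≫ embHom D U) : k = k' :=
  FSch.Hom.ext (funext fun n => (cancel_mono (embX D U n)).1
    (congrArg (fun φ : 𝔜 ⟶ gluedSys D => (φ : FSch.Hom _ _).app n) e))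

theorem invOn_of_chart {𝔏 𝔊 : FSch.Sys.{u}} (hL : 𝔏.IsFormal) (h' : 𝔊.IsFormal) (B : 𝔊 ⟶ 𝔛) (bL : 𝔏 ⟶ 𝔛)
    (ℓ : 𝔏 ⟶ 𝔊) (hℓ : ℓ ≫ B = bL) {U : (𝔛.X 0).Opens} {s : ℕ} (f : Fin s → OA 𝔛 h U)
    (hfJ : ∀ k, f k ∈ J.sect U) (hJf : J ≤ relGen U f) {V : (𝔏.X 0).Opens}
    (jV : V ≤ (bL : FSch.Hom 𝔏 𝔛).app 0 ⁻¹ᵁ U) (i : Fin s)
    (hV : InvOn (idealMap bL hL h J) V (shPb h hL bL jV (f i))) {Ω : (𝔊.X 0).Opens}
    (hpre : (ℓ : FSch.Hom 𝔏 𝔊).app 0 ⁻¹ᵁ Ω = V) (jΩ : Ω ≤ (B : FSch.Hom 𝔊 𝔛).app 0 ⁻¹ᵁ U)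
    (Φ : 𝔊.restrictOpen h' Ω ⟶ 𝔏) (hΦ : Φ ≫ ℓ = 𝔊.restrictOpenι h' Ω) :
    InvOn (idealMap B h' h J) Ω (shPb h h' B jΩ (f i)) := by
  let hΩ := isFormal_restrictOpen h' Ω
  refine ⟨mem_idealMap h h' B jΩ (hfJ i), ?_, ?_⟩
  · refine nzdOn_of_factor h' hL ℓ Φ hΦ ?_
    rw [← shPb_comp h h' B hL ℓ jΩ (le_refl _) (fun z hz => jΩ hz),
      shPb_congr h hL hℓ (fun z hz => jΩ hz) (hpre.le.trans jV),
      show shPb h hL bL (hpre.le.trans jV) (f i) = rs hpre.le (shPb h hL bL jV (f i)) from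
        (pb_rs _ _ jV hpre.le (f i)).symm]
    exact hV.2.1.res hpre.le
  · intro W a ha
    refine relGen_le_of_mem (le_refl Ω) (fun j => ?_) W (idealMap_le_relGen h h' B hJf jΩ W ha)
    rw [rs_self]
    obtain ⟨t, ht⟩ := hV.exists_eq le_rfl (mem_idealMap h hL bL jV (hfJ j))
    rw [rs_self] at ht
    have hΦtop : ⊤ ≤ (Φ : FSch.Hom _ _).app 0 ⁻¹ᵁ V := by
      intro z hz
      have h1 : (ℓ : FSch.Hom _ _).app 0 ((Φ : FSch.Hom _ _).app 0 z) ∈ Ω := by
        show ((Φ ≫ ℓ : FSch.Hom _ _).app 0) z ∈ Ω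
        rw [hΦ]
        exact top_le_restrictOpenι h' Ω hz
      exact hpre.le h1
    obtain ⟨t', ht'⟩ := surjective_shPb_restrictOpenι h' Ω (le_refl Ω)
      (rs (le_top : _ ≤ ⊤) (shPb hL hΩ Φ hΦtop t))
    have key : shPb h h' B jΩ (f j) = t' * shPb h h' B jΩ (f i) := by
      refine sub_eq_zero.1 (eq_zero_of_shPb_restrictOpenι h' Ω (le_refl Ω) ?_)
      have hB : ∀ b, shPb h' hΩ (𝔊.restrictOpenι h' Ω) (le_refl _) (shPb h h' B jΩ b) =
          rs (le_top : _ ≤ ⊤) (shPb hL hΩ Φ hΦtop (shPb h hL bL jV b)) := fun b => by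
        rw [← shPb_comp h h' B hΩ _ jΩ (le_refl _) (fun z hz => jΩ hz),
          ← shPb_comp h hL bL hΩ Φ jV hΦtop (fun z hz => jV (hΦtop hz))]
        refine Eq.trans ?_ (pb_rs _ _ _ _ _).symm
        exact shPb_congr h hΩ (by rw [← hΦ, Category.assoc, hℓ]) _ _ b
      rw [map_sub, map_mul, ht', hB, hB, ht, map_mul, map_mul, sub_self]
    rw [key]
    exact Ideal.mul_mem_left _ _ (mem_relGen_self (fun _ : Unit => shPb h h' B jΩ (f i)) ())

theorem isInvertible_gluedB : (idealMap (gluedB D) (gluedFormal D) h J).IsInvertible := by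
  rw [isInvertible_iff]
  intro x
  let h' := gluedFormal D
  obtain ⟨U₀, -, hxU, hU₀⟩ := D.basis ((gluedB D : FSch.Hom _ _).app 0 x) ⊤ trivial
  let U : D.Idx := ⟨U₀, hU₀⟩
  obtain ⟨y, rfl⟩ : x ∈ (embX D U 0).opensRange := by
    rw [← range_embX]
    exact (lvU_zero h U.1).ge hxU
  obtain ⟨s, f, hfJ, hJf⟩ := D.gens U.1 U.2
  let hL := locFormal D U
  let ℓ := embHom D U
  haveI : IsOpenImmersion ((ℓ : FSch.Hom _ _).app 0) := inferInstanceAs (IsOpenImmersion (embX D U 0))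
  obtain ⟨V, jV, i, hyV, hV⟩ := exists_generator_nhd h hL f hfJ hJf (locB D U) (locB_spec D U).inv
    ((locB_spec D U).lands (show y ∈ ⊤ from trivial))
  let Ω : ((gluedSys D).X 0).Opens := (ℓ : FSch.Hom _ _).app 0 ''ᵁ V
  have hpre : (ℓ : FSch.Hom _ _).app 0 ⁻¹ᵁ Ω = V := ((ℓ : FSch.Hom _ _).app 0).preimage_image_eq V
  have jΩ : Ω ≤ (gluedB D : FSch.Hom _ _).app 0 ⁻¹ᵁ U.1 := by
    rintro _ ⟨z, hz, rfl⟩
    show ((ℓ ≫ gluedB D : FSch.Hom _ _).app 0) z ∈ U.1
    rw [embHom_gluedB]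
    exact jV hz
  let hΩ := isFormal_restrictOpen h' Ω
  obtain ⟨Φ, hΦ⟩ := exists_liftEmb D hΩ U ((gluedSys D).restrictOpenι h' Ω)
    (fun z hz => jΩ (top_le_restrictOpenι h' Ω hz))
  exact ⟨Ω, ⟨y, hyV, rfl⟩, _,
    invOn_of_chart hL h' (gluedB D) (locB D U) ℓ (embHom_gluedB D U) f hfJ hJf jV i hV hpre jΩ Φ hΦ⟩

include hY in
theorem existsUnique_lift_glued (g : 𝔜 ⟶ 𝔛) (hg : FSch.IsAdicHom g) (hinv : (idealMap g hY h J).IsInvertible) :
    ∃! k : 𝔜 ⟶ gluedSys D, k ≫ gluedB D = g := by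
  let W : D.Idx → (𝔜.X 0).Opens := fun U => (g : FSch.Hom _ _).app 0 ⁻¹ᵁ U.1
  let ιW := fun U => 𝔜.restrictOpenι hY (W U)
  have hland : ∀ U, ⊤ ≤ (ιW U ≫ g : FSch.Hom _ _).app 0 ⁻¹ᵁ U.1 := fun U y hy => top_le_restrictOpenι hY (W U) hy
  have hloc : ∀ U, ∃! k : 𝔜.restrictOpen hY (W U) ⟶ locSys D U, k ≫ locB D U = ιW U ≫ g := fun U =>
    (locB_spec D U).lift _ (isFormal_restrictOpen hY (W U)) _ (isAdicHom_comp (isAdicHom_restrictOpenι hY (W U)) hg)
      (hland U) (by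
        rw [← idealMap_comp h hY g (isFormal_restrictOpen hY (W U)) (ιW U) J]
        exact isInvertible_restrictOpen hY (W U) hinv)
  choose kl hkl hklu using hloc
  have hcov : ∀ n (y : 𝔜.X n), ∃ U, y ∈ 𝔜.lvU hY n (W U) := fun n y => by
    obtain ⟨V, -, hy, hV⟩ := D.basis ((g : FSch.Hom _ _).app 0 (𝔜.gInv hY n y)) ⊤ trivial
    exact ⟨⟨V, hV⟩, hy⟩
  have hres : ∀ (U Z : D.Idx) (e : Z.1 ≤ U.1) (n : ℕ) (e' : 𝔜.lvU hY n (W Z) ≤ 𝔜.lvU hY n (W U)),
      (𝔜.X n).homOfLE e' ≫ (kl U : FSch.Hom _ _).app n ≫ embX D U n = (kl Z : FSch.Hom _ _).app n ≫ embX D Z n := by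
    intro U Z e n e'
    have hZU : ⊤ ≤ (ιW Z : FSch.Hom _ _).app 0 ⁻¹ᵁ W U := fun y hy => e (hland Z hy)
    let r := toOpen hY (isFormal_restrictOpen hY (W Z)) (ιW Z) (W U) hZU
    have h1 : r ≫ kl U = kl Z ≫ locT D e := by
      have hinvZ : (idealMap (ιW Z ≫ g) (isFormal_restrictOpen hY (W Z)) h J).IsInvertible := by
        rw [← idealMap_comp h hY g (isFormal_restrictOpen hY (W Z)) (ιW Z) J]
        exact isInvertible_restrictOpen hY (W Z) hinv
      exact ((locB_spec D U).lift _ (isFormal_restrictOpen hY (W Z)) (ιW Z ≫ g)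
        (isAdicHom_comp (isAdicHom_restrictOpenι hY (W Z)) hg) (fun y hy => e (hland Z hy)) hinvZ).unique
        (by rw [Category.assoc, hkl, ← Category.assoc, toOpen_ι]) (by rw [Category.assoc, locT_locB, hkl])
    have h2 : (r : FSch.Hom _ _).app n = (𝔜.X n).homOfLE e' :=
      (cancel_mono (𝔜.lvU hY n (W U)).ι).1
        ((congrArg (fun φ : 𝔜.restrictOpen hY (W Z) ⟶ 𝔜 => (φ : FSch.Hom _ _).app n)
          (toOpen_ι hY (isFormal_restrictOpen hY (W Z)) (ιW Z) (W U) hZU)).trans (Scheme.homOfLE_ι _ _).symm)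
    rw [← h2, ← Category.assoc]
    refine (congrArg (fun φ : 𝔜.restrictOpen hY (W Z) ⟶ locSys D U => (φ : FSch.Hom _ _).app n ≫ embX D U n) h1).trans ?_
    exact (Category.assoc _ _ _).trans (congrArg (_ ≫ ·) (locT_embX D e n))
  have hglue : ∀ n, ∃ k : 𝔜.X n ⟶ gluedX D n, ∀ U, (𝔜.lvU hY n (W U)).ι ≫ k = (kl U : FSch.Hom _ _).app n ≫ embX D U n := by
    intro n
    refine exists_glue (fun U => 𝔜.lvU hY n (W U)) (hcov n) (fun U => (kl U : FSch.Hom _ _).app n ≫ embX D U n)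
      fun U V => ?_
    let O := 𝔜.lvU hY n (W U) ⊓ 𝔜.lvU hY n (W V)
    refine Scheme.Cover.hom_ext (Scheme.openCoverOfIsOpenCover (O : Scheme.{u})
      (fun Z : {Z : D.Idx // Z.1 ≤ U.1 ⊓ V.1} => O.ι ⁻¹ᵁ 𝔜.lvU hY n (W Z.1))
      (IsOpenCover.mk (eq_top_iff.2 fun z _ => ?_))) _ _ fun Z => ?_
    · obtain ⟨Z, hZ, hzZ, hZg⟩ := D.basis ((g : FSch.Hom _ _).app 0 (𝔜.gInv hY n (O.ι z))) (U.1 ⊓ V.1) ⟨z.2.1, z.2.2⟩
      exact Opens.mem_iSup.2 ⟨⟨⟨Z, hZg⟩, hZ⟩, hzZ⟩
    · have key : ∀ (T : D.Idx) (e : Z.1.1 ≤ T.1) (e' : O ≤ 𝔜.lvU hY n (W T)),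
          (O.ι ⁻¹ᵁ 𝔜.lvU hY n (W Z.1)).ι ≫ (𝔜.X n).homOfLE e' ≫ (kl T : FSch.Hom _ _).app n ≫ embX D T n =
            (O.ι ∣_ 𝔜.lvU hY n (W Z.1)) ≫ (kl Z.1 : FSch.Hom _ _).app n ≫ embX D Z.1 n := by
        intro T e e'
        rw [← hres T Z.1 e n (fun y hy => e hy), ← Category.assoc, ← Category.assoc (_ ∣_ _)]
        congr 1
        rw [← cancel_mono (𝔜.lvU hY n (W T)).ι, Category.assoc, Category.assoc, Scheme.homOfLE_ι, Scheme.homOfLE_ι,
          morphismRestrict_ι]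
      exact (key U (Z.2.trans inf_le_left) inf_le_left).trans (key V (Z.2.trans inf_le_right) inf_le_right).symm
  choose k hk using hglue
  have hcover : ∀ n, IsOpenCover fun U : D.Idx => 𝔜.lvU hY n (W U) := fun n =>
    IsOpenCover.mk (eq_top_iff.2 fun y _ => Opens.mem_iSup.2 (hcov n y))
  refine ⟨⟨k, fun n => ?_⟩, ?_, fun k' hk' => ?_⟩
  · refine Scheme.Cover.hom_ext ((𝔜.X n).openCoverOfIsOpenCover _ (hcover n)) _ _ fun U => ?_
    show (𝔜.lvU hY n (W U)).ι ≫ k n ≫ gluedι D n = (𝔜.lvU hY n (W U)).ι ≫ 𝔜.ι n ≫ k (n + 1)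
    rw [← Category.assoc, hk, Category.assoc, embX_gluedι, ← Category.assoc (Scheme.Opens.ι _) (𝔜.ι n),
      ← Scheme.Hom.resLE_comp_ι (𝔜.ι n) (𝔜.lvU_le hY n (W U)), Category.assoc, hk, ← Category.assoc, ← Category.assoc]
    exact congrArg (· ≫ embX D U (n + 1)) ((kl U : FSch.Hom _ _).comm n)
  · refine FSch.Hom.ext (funext fun n => Scheme.Cover.hom_ext ((𝔜.X n).openCoverOfIsOpenCover _ (hcover n)) _ _ fun U => ?_)
    show (𝔜.lvU hY n (W U)).ι ≫ k n ≫ projX D n = (𝔜.lvU hY n (W U)).ι ≫ (g : FSch.Hom _ _).app n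
    rw [← Category.assoc, hk, Category.assoc, embX_projX]
    exact congrArg (fun φ : 𝔜.restrictOpen hY (W U) ⟶ 𝔛 => (φ : FSch.Hom _ _).app n) (hkl U)
  · refine FSch.Hom.ext (funext fun n => Scheme.Cover.hom_ext ((𝔜.X n).openCoverOfIsOpenCover _ (hcover n)) _ _ fun U => ?_)
    show (𝔜.lvU hY n (W U)).ι ≫ (k' : FSch.Hom _ _).app n = (𝔜.lvU hY n (W U)).ι ≫ k n
    rw [hk]
    have hk'' : (ιW U ≫ k') ≫ gluedB D = ιW U ≫ g := (Category.assoc _ _ _).trans (congrArg (ιW U ≫ ·) hk')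
    obtain ⟨m, hm⟩ := exists_liftEmb D (isFormal_restrictOpen hY (W U)) U (ιW U ≫ k') (by rw [hk'']; exact hland U)
    obtain rfl : m = kl U := hklu U m (by
      show m ≫ locB D U = ιW U ≫ g
      rw [← embHom_gluedB, ← Category.assoc, hm, hk''])
    exact (congrArg (fun φ : 𝔜.restrictOpen hY (W U) ⟶ gluedSys D => (φ : FSch.Hom _ _).app n) hm).symm

/-- The glued system is the admissible formal blowing-up. -/
theorem isAdmBlowUp_gluedB : IsAdmBlowUp (gluedB D) (gluedFormal D) h J :=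
  ⟨isAdicHom_gluedB D, isInvertible_gluedB D, fun _ hY g hg hinv => existsUnique_lift_glued D hY g hg hinv⟩

end Groth.Agent.FormBlow
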