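/-
Extension of ideals of finite type from quasi-compact opens; noetherian underlying spaces of admissible formal schemes.
-/
import Groth.Agent.FormBlow.LevelOps
import Groth.Agent.FormBlow.AffineRing

set_option autoImplicit false
set_option backward.isDefEq.respectTransparency false
set_option linter.style.haveILetI false

universe u

open CategoryTheory CategoryTheory.Limits AlgebraicGeometry TopologicalSpace Opposite FBlow
open Groth.Agent.FSchCoh (OA RA projR transR transR_projR OA_ext OA_lift projR_surjective transR_surjective)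

noncomputable section

namespace Groth.Agent.FormBlow

/-- A finite type ideal on a quasi-compact open extends, with the unit ideal away from that open. -/
theorem exists_extend_ideal {X : Scheme.{u}} [QuasiSeparatedSpace X] (U W : X.Opens)
    (hU : IsCompact (U : Set X)) (hW : IsCompact (W : Set X)) (hUW : closure (U : Set X) ⊆ W)
    (hc : IsCompact ((W : Set X) \ closure (U : Set X))) (𝓘 : U.toScheme.IdealSheafData)
    (hft : FSch.IdealFT 𝓘) :
    ∃ 𝓙 : X.IdealSheafData, FSch.IdealFT 𝓙 ∧ 𝓙.comap U.ι = 𝓘 ∧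
      ∀ D : X.affineOpens, Disjoint (D.1 : Set X) U → 𝓙.ideal D = ⊤ := by
  haveI : CompactSpace W.toScheme := isCompact_iff_compactSpace.1 hW
  haveI : QuasiSeparatedSpace W.toScheme := QuasiSeparatedSpace.of_isOpenEmbedding W.ι.isOpenEmbedding
  haveI : QuasiCompact W.ι := quasiCompact_of_compactSpace _
  let UW : W.toScheme.Opens := W.ι ⁻¹ᵁ U
  let e : UW.toScheme ⟶ U.toScheme := W.ι ∣_ U
  have hUsub : (U : Set X) ⊆ W := subset_closure.trans hUW
  haveI : IsIso e := by
    haveI : Epi e.base := (TopCat.epi_iff_surjective _).2 fun z =>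
      ⟨⟨⟨z.1, hUsub z.2⟩, z.2⟩, Subtype.ext (morphismRestrict_base_coe W.ι U _)⟩
    exact IsOpenImmersion.isIso e
  let O : X.Opens := ⟨(closure (U : Set X))ᶜ, isClosed_closure.isOpen_compl⟩
  have hUWc : IsCompact (UW : Set W.toScheme) := by
    rw [Topology.IsEmbedding.isCompact_iff W.ι.isOpenEmbedding.isEmbedding]
    convert hU using 1
    refine Set.image_preimage_eq_iff.2 ?_
    rw [Scheme.Opens.range_ι]
    exact hUsub
  have hOc : IsCompact ((W.ι ⁻¹ᵁ O : W.toScheme.Opens) : Set W.toScheme) := by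
    rw [Topology.IsEmbedding.isCompact_iff W.ι.isOpenEmbedding.isEmbedding]
    convert hc using 1
    show W.ι '' (W.ι ⁻¹' (closure (U : Set X))ᶜ) = _
    rw [Set.image_preimage_eq_inter_range, Scheme.Opens.range_ι, Set.inter_comm]
    rfl
  have hft' : BlowUp.IsFiniteTypeIdeal (𝓘.comap e) := RZExt.isFiniteType_comap e hft
  obtain ⟨P, hPft, hPd, hPU⟩ := RZExt.exists_extend_centre (W.ι ⁻¹ᵁ O) UW hOc hUWc (𝓘.comap e) hft'
    (Set.disjoint_left.2 fun z _ hz => hz (subset_closure (show W.ι (UW.ι z) ∈ U from z.2)))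
  let 𝓙 := P.map W.ι
  have hpre : ∀ D : X.affineOpens, D.1 ≤ W → IsAffineOpen (W.ι ⁻¹ᵁ D.1) := fun D hD =>
    D.2.preimage_of_isOpenImmersion _ (by rwa [Scheme.Opens.opensRange_ι])
  have hbij : ∀ (D : X.affineOpens), D.1 ≤ W → Function.Bijective (W.ι.appLE D.1 (W.ι ⁻¹ᵁ D.1) le_rfl) := by
    intro D hD
    rw [← Scheme.Hom.app_eq_appLE]
    haveI : IsIso (W.ι.app D.1) := Scheme.Hom.isIso_app W.ι _ (by rwa [Scheme.Opens.opensRange_ι])
    exact ConcreteCategory.bijective_of_isIso _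
  have hideal : ∀ (D : X.affineOpens) (hD : D.1 ≤ W),
      (𝓙.ideal D).map (W.ι.appLE D.1 (W.ι ⁻¹ᵁ D.1) le_rfl).hom = P.ideal ⟨_, hpre D hD⟩ := by
    intro D hD
    refine le_antisymm (Ideal.map_le_iff_le_comap.2 fun c hc => ?_) fun z hz => ?_
    · exact (mem_map_ideal_iff W.ι P D ⟨_, hpre D hD⟩ rfl c).1 hc
    · obtain ⟨c, rfl⟩ := (hbij D hD).2 z
      exact Ideal.mem_map_of_mem _ ((mem_map_ideal_iff W.ι P D ⟨_, hpre D hD⟩ rfl c).2 hz)
  have hcomap : 𝓙.comap W.ι = P := by
    refine Scheme.IdealSheafData.ext_of_iSup_eq_top (fun D : {D : X.affineOpens // D.1 ≤ W} =>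
      (⟨_, hpre D.1 D.2⟩ : W.toScheme.affineOpens)) (top_le_iff.1 fun z _ => ?_) fun D => ?_
    · obtain ⟨D, hD, hzD, hDW⟩ := exists_isAffineOpen_mem_and_subset (X := X) (U := W) (x := W.ι z) z.2
      exact Opens.mem_iSup.2 ⟨⟨⟨D, hD⟩, hDW⟩, hzD⟩
    · rw [FpqcDescent.ideal_comap_appLE 𝓙 W.ι D.1 ⟨_, hpre D.1 D.2⟩ le_rfl]
      exact hideal D.1 D.2
  have htop : ∀ D : X.affineOpens, Disjoint (D.1 : Set X) U → 𝓙.ideal D = ⊤ := by
    intro D hD
    rw [Ideal.eq_top_iff_one]
    refine RZExt.mem_map_ideal _ D _ fun z hz => ?_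
    obtain ⟨G, hG, hzG, hGD⟩ := exists_isAffineOpen_mem_and_subset (X := W.toScheme) (U := W.ι ⁻¹ᵁ D.1) (x := z) hz
    refine ⟨⟨G, hG⟩, hGD, hzG, ?_⟩
    rw [RZExt.ideal_eq_top P ⟨G, hG⟩ fun y hy hy' => Set.disjoint_left.1 hPd hy'
      (show W.ι y ∈ (closure (U : Set X))ᶜ from
        Set.disjoint_left.1 (hD.closure_right D.1.2) (hGD hy))]
    exact Submodule.mem_top
  refine ⟨𝓙, RZExt.isFiniteType_of_cover fun x => ?_, ?_, htop⟩
  · by_cases hx : x ∈ W
    · obtain ⟨D, hD, hxD, hDW⟩ := exists_isAffineOpen_mem_and_subset hx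
      refine ⟨⟨D, hD⟩, hxD, ?_⟩
      haveI : IsIso (W.ι.app D) := Scheme.Hom.isIso_app W.ι _ (by rwa [Scheme.Opens.opensRange_ι])
      have e1 := hideal ⟨D, hD⟩ hDW
      let E := (asIso (W.ι.app D)).commRingCatIsoToRingEquiv
      have e2 : 𝓙.ideal ⟨D, hD⟩ = (P.ideal ⟨_, hpre ⟨D, hD⟩ hDW⟩).map E.symm.toRingHom := by
        rw [← e1, Ideal.map_map, ← Scheme.Hom.app_eq_appLE]
        rw [show E.symm.toRingHom.comp (W.ι.app D).hom = RingHom.id _ from RingHom.ext fun c => E.symm_apply_apply c,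
          Ideal.map_id]
      rw [e2]
      exact (hPft _).map _
    · obtain ⟨D, hD, hxD, hDO⟩ := exists_isAffineOpen_mem_and_subset (X := X) (U := O) (x := x)
        (show x ∈ (closure (U : Set X))ᶜ from fun h => hx (hUW h))
      refine ⟨⟨D, hD⟩, hxD, ?_⟩
      rw [htop ⟨D, hD⟩ (Set.disjoint_left.2 fun y hy hy' => hDO hy (subset_closure hy'))]
      exact ⟨{1}, by simp⟩
  · have h1 : (𝓙.comap U.ι).comap e = 𝓘.comap e := by
      rw [← Scheme.IdealSheafData.comap_comp, show e ≫ U.ι = UW.ι ≫ W.ι from morphismRestrict_ι W.ι U,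
        Scheme.IdealSheafData.comap_comp, hcomap, hPU]
    have h2 := congrArg (fun K => Scheme.IdealSheafData.comap K (inv e)) h1
    simp only [← Scheme.IdealSheafData.comap_comp, IsIso.inv_hom_id, Category.comp_id,
      Category.id_comp, IsIso.inv_hom_id_assoc] at h2
    simpa using h2

/-- A finite type algebra over a base ring, killing the ideal of definition, has noetherian spectrum. -/
theorem noetherianSpace_spec_of_isBase {R : Type u} [CommRing R] {I : Ideal R} (hR : AdicRing.IsBase R I)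
    {B : Type u} [CommRing B] (φ : R →+* B) (hφ : φ.FiniteType) (hI : ∀ r ∈ I, φ r = 0) :
    NoetherianSpace (PrimeSpectrum B) := by
  obtain ⟨hcomp, (⟨hN, -⟩ | ⟨hdom, hval, hdim, t, ht, rfl⟩)⟩ := hR
  · algebraize [φ]
    haveI := Algebra.FiniteType.isNoetherianRing R B
    infer_instance
  · haveI := hcomp
    haveI := hdom
    haveI := hdim
    haveI : ValuationRing R := { }
    let m := IsLocalRing.maximalIdeal R
    let N := m.map φ
    have hnil : N ≤ nilradical B := Ideal.map_le_iff_le_comap.2 fun a ha => by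
      obtain ⟨k, c, hc⟩ := AdicRingLib.exists_pow_dvd_of_mem_maximalIdeal ht ha
      refine ⟨k, ?_⟩
      rw [← map_pow, hI _ (Ideal.mem_span_singleton.2 ⟨c, hc⟩)]
      exact Ideal.zero_mem _
    let ψ : R ⧸ m →+* B ⧸ N := Ideal.quotientMap N φ Ideal.le_comap_map
    have hψ : ψ.FiniteType := by
      refine RingHom.FiniteType.of_comp_finiteType (f := Ideal.Quotient.mk m) ?_
      rw [show ψ.comp (Ideal.Quotient.mk m) = (Ideal.Quotient.mk N).comp φ from RingHom.ext fun _ => rfl]
      exact (RingHom.FiniteType.of_surjective _ Ideal.Quotient.mk_surjective).comp hφ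
    haveI : IsNoetherianRing (R ⧸ m) := by
      letI := Ideal.Quotient.field m
      infer_instance
    haveI : IsNoetherianRing (B ⧸ N) := by
      algebraize [ψ]
      exact Algebra.FiniteType.isNoetherianRing (R ⧸ m) (B ⧸ N)
    refine noetherianSpace_of_surjective (PrimeSpectrum.comap (Ideal.Quotient.mk N))
      (PrimeSpectrum.continuous_comap _) fun q => ?_
    have hq : q ∈ PrimeSpectrum.zeroLocus (N : Set B) :=
      (PrimeSpectrum.mem_zeroLocus _ _).2 (hnil.trans (nilradical_le_prime q.asIdeal))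
    rw [← Ideal.mk_ker (I := N)] at hq
    rw [← range_comap_of_surjective _ _ Ideal.Quotient.mk_surjective] at hq
    exact hq

variable {R : Type u} [CommRing R] {I : Ideal R} {𝔛 : FSch.Sys.{u}} (h : 𝔛.IsFormal) (p : 𝔛 ⟶ FSch.spf R I)

include h in
/-- Subsets of a quasi-compact open of an admissible formal scheme are quasi-compact. -/
theorem isCompact_of_subset_compact (hR : AdicRing.IsBase R I) (hp : FSch.IsAdicHom p)
    (hfp : ∀ n, LocallyOfFinitePresentation ((p : FSch.Hom 𝔛 (FSch.spf R I)).app n))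
    {W S : Set (𝔛.X 0)} (hW : IsCompact W) (hS : S ⊆ W) : IsCompact S := by
  classical
  have hI : I.FG := AdicRingLib.fg_of_isBase hR
  have hloc : ∀ x : 𝔛.X 0, ∃ U : (𝔛.X 0).Opens, x ∈ U ∧ ∀ T : Set (𝔛.X 0), T ⊆ U → IsCompact T := by
    intro x
    obtain ⟨U, hU, hxU, -⟩ := exists_isAffineOpen_mem_and_subset (X := 𝔛.X 0) (U := ⊤) (x := x) trivial
    refine ⟨U, hxU, fun T hT => ?_⟩
    letI := secAlgebra h p U
    have hfp0 := finitePresentation_level h p hp hI hfp hU 0
    have hft0 := RingHom.FiniteType.of_finitePresentation (RingHom.finitePresentation_algebraMap.2 hfp0)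
    let π := projR 𝔛 h U 0
    have hπ := projR_surjective 𝔛 h hU 0
    have hker := ker_projR_eq h p hp hI hU 0
    let ψ : (OA 𝔛 h U ⧸ (I ^ (0 + 1)).map (algebraMap R (OA 𝔛 h U))) →+* RA 𝔛 h U 0 :=
      Ideal.Quotient.lift _ π fun a ha => RingHom.mem_ker.1 (hker.ge ha)
    have hψ : Function.Surjective ψ := Ideal.Quotient.lift_surjective_of_surjective _ _ hπ
    haveI := noetherianSpace_spec_of_isBase hR (π.comp (rho h p U))
      ((RingHom.FiniteType.of_surjective ψ hψ).comp hft0)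
      (fun r hr => projR_rho_eq_zero h p U 0 (by rwa [zero_add, pow_one]))
    have hU0 := FSchAff.isAffineOpen_lvU 𝔛 h hU 0
    have e : T = hU0.fromSpec '' (hU0.fromSpec ⁻¹' T) := by
      rw [Set.image_preimage_eq_inter_range, hU0.range_fromSpec]
      refine (Set.inter_eq_left.2 ?_).symm
      rw [lvU_zero h U]
      exact hT
    rw [e]
    haveI : NoetherianSpace ↥(Spec Γ(𝔛.X 0, 𝔛.lvU h 0 U)) :=
      inferInstanceAs (NoetherianSpace (PrimeSpectrum (RA 𝔛 h U 0)))
    exact (NoetherianSpace.isCompact _).image hU0.fromSpec.base.hom.continuous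
  choose U hxU hUc using hloc
  obtain ⟨t, ht⟩ := hW.elim_finite_subcover (fun x => (U x : Set (𝔛.X 0))) (fun x => (U x).2)
    (fun x _ => Set.mem_iUnion.2 ⟨x, hxU x⟩)
  have hS' : S = ⋃ x ∈ t, S ∩ U x := by
    rw [← Set.inter_iUnion₂]
    exact (Set.inter_eq_left.2 (hS.trans ht)).symm
  rw [hS']
  exact t.finite_toSet.isCompact_biUnion fun x _ => hUc x _ Set.inter_subset_right

end Groth.Agent.FormBlow
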