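/-
Restrictions of admissible formal blowing-ups to opens; gluing of morphisms of formal systems.
-/
import Groth.Agent.FormBlow.ExistBasic
import Groth.Agent.FormBlow.BlowLift
import Groth.Agent.FormBlow.Descend

set_option autoImplicit false
set_option backward.isDefEq.respectTransparency false
set_option linter.style.haveILetI false

universe u

open CategoryTheory CategoryTheory.Limits AlgebraicGeometry TopologicalSpace Opposite FBlow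
open Groth.Agent.FSchCoh (OA RA projR)

noncomputable section

namespace Groth.Agent.FormBlow

variable {𝔛 𝔜 : FSch.Sys.{u}} (h : 𝔛.IsFormal)

/-- An admissible formal blowing-up restricts to one over every open. -/
theorem isAdmBlowUp_restrict {J : IdealSh (𝔛.Osh h)} (h𝔜 : 𝔜.IsFormal) (b : 𝔜 ⟶ 𝔛)
    (hb : IsAdmBlowUp b h𝔜 h J) (U : (𝔛.X 0).Opens) :
    IsAdmBlowUp (FSch.Hom.restrictOpen b h𝔜 h U)
      (isFormal_restrictOpen h𝔜 ((b : FSch.Hom 𝔜 𝔛).app 0 ⁻¹ᵁ U)) (isFormal_restrictOpen h U)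
      (idealMap (𝔛.restrictOpenι h U) (isFormal_restrictOpen h U) h J) := by
  let Ω := (b : FSch.Hom 𝔜 𝔛).app 0 ⁻¹ᵁ U
  let hΩ := isFormal_restrictOpen h𝔜 Ω
  let hU := isFormal_restrictOpen h U
  let r := FSch.Hom.restrictOpen b h𝔜 h U
  have e : r ≫ 𝔛.restrictOpenι h U = 𝔜.restrictOpenι h𝔜 Ω ≫ b := FSch.Hom.restrictOpen_ι _ _ _ _
  refine ⟨isAdicHom_of_comp (g := 𝔛.restrictOpenι h U) ?_ (isAdicHom_restrictOpenι h U), ?_, ?_⟩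
  · rw [e]
    exact isAdicHom_comp (isAdicHom_restrictOpenι h𝔜 Ω) hb.1
  · rw [idealMap_comp h hU (𝔛.restrictOpenι h U) hΩ r, e, ← idealMap_comp h h𝔜 b hΩ (𝔜.restrictOpenι h𝔜 Ω) J]
    exact isInvertible_restrictOpen h𝔜 Ω hb.2.1
  · intro ℨ hℨ g hg hinv
    rw [idealMap_comp h hU (𝔛.restrictOpenι h U) hℨ g] at hinv
    obtain ⟨k, hk, huniq⟩ := hb.2.2 ℨ hℨ (g ≫ 𝔛.restrictOpenι h U)
      (isAdicHom_comp hg (isAdicHom_restrictOpenι h U)) hinv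
    have hland : ⊤ ≤ (k : FSch.Hom ℨ 𝔜).app 0 ⁻¹ᵁ Ω := by
      intro z _
      show ((k ≫ b : FSch.Hom ℨ 𝔛).app 0) z ∈ U
      rw [hk]
      exact range_restrictOpenι h U _
    refine ⟨toOpen h𝔜 hℨ k Ω hland, hom_eq_of_restrictOpenι h U ?_, fun k' hk' => hom_eq_of_restrictOpenι h𝔜 Ω ?_⟩
    · show (toOpen h𝔜 hℨ k Ω hland ≫ r) ≫ 𝔛.restrictOpenι h U = g ≫ 𝔛.restrictOpenι h U
      rw [Category.assoc, e, ← Category.assoc, toOpen_ι]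
      exact hk
    · rw [toOpen_ι]
      refine huniq _ ?_
      show (k' ≫ 𝔜.restrictOpenι h𝔜 Ω) ≫ b = _
      rw [Category.assoc, ← e, ← Category.assoc]
      exact congrArg (· ≫ 𝔛.restrictOpenι h U) hk'

/-- No torsion passes to opens. -/
theorem noTorsion_restrictOpen (U : (𝔛.X 0).Opens)
    (htf : ∀ (V : (𝔛.X 0).Opens) (s : OA 𝔛 h V),
      (∀ a ∈ (IdealSh.ker (𝔛.OshProj h 0)).sect V, a * s = 0) → s = 0) :
    ∀ (V : ((𝔛.restrictOpen h U).X 0).Opens) (s : OA (𝔛.restrictOpen h U) (isFormal_restrictOpen h U) V),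
      (∀ a ∈ (IdealSh.ker ((𝔛.restrictOpen h U).OshProj (isFormal_restrictOpen h U) 0)).sect V, a * s = 0) →
        s = 0 := by
  intro V s hs
  set ιU : FSch.Hom (𝔛.restrictOpen h U) 𝔛 := 𝔛.restrictOpenι h U
  haveI : IsOpenImmersion (ιU.app 0) := inferInstanceAs (IsOpenImmersion (𝔛.lvU h 0 U).ι)
  obtain ⟨W, hWU, rfl⟩ : ∃ W, W ≤ U ∧ V = ιU.app 0 ⁻¹ᵁ W :=
    ⟨ιU.app 0 ''ᵁ V, fun _ ⟨y, _, e⟩ => e ▸ range_restrictOpenι h U y, ((ιU.app 0).preimage_image_eq V).symm⟩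
  obtain ⟨t, rfl⟩ := surjective_shPb_restrictOpenι h U hWU s
  rw [htf W t fun a ha => eq_zero_of_shPb_restrictOpenι h U hWU ?_, map_zero]
  rw [map_mul]
  refine hs _ (RingHom.mem_ker.2 ?_)
  show projR _ (isFormal_restrictOpen h U) _ 0 (shPb h (isFormal_restrictOpen h U) (𝔛.restrictOpenι h U) _ a) = 0
  rw [projR_shPb, show projR 𝔛 h W 0 a = 0 from RingHom.mem_ker.1 ha, map_zero]

/-- Morphisms of formal systems glue. -/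
theorem exists_glue_sys (h𝔜 : 𝔜.IsFormal) {ι : Type u} (W : ι → (𝔜.X 0).Opens) (hW : (⨆ i, W i) = ⊤)
    (k : ∀ i, 𝔜.restrictOpen h𝔜 (W i) ⟶ 𝔛)
    (hk : ∀ i j, ∃ (ℨ : FSch.Sys.{u}) (l : ℨ ⟶ 𝔜.restrictOpen h𝔜 (W i)) (l' : ℨ ⟶ 𝔜.restrictOpen h𝔜 (W j)),
      l ≫ k i = l' ≫ k j ∧ l ≫ 𝔜.restrictOpenι h𝔜 (W i) = l' ≫ 𝔜.restrictOpenι h𝔜 (W j) ∧
      ∀ n, IsOpenImmersion ((l ≫ 𝔜.restrictOpenι h𝔜 (W i) : FSch.Hom _ _).app n) ∧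
        (𝔜.lvU h𝔜 n (W i) ⊓ 𝔜.lvU h𝔜 n (W j) : (𝔜.X n).Opens).1 ⊆
          Set.range ((l ≫ 𝔜.restrictOpenι h𝔜 (W i) : FSch.Hom _ _).app n)) :
    ∃ g : 𝔜 ⟶ 𝔛, ∀ i, 𝔜.restrictOpenι h𝔜 (W i) ≫ g = k i := by
  have hcov : ∀ n (y : 𝔜.X n), ∃ i, y ∈ 𝔜.lvU h𝔜 n (W i) := fun n y => by
    obtain ⟨i, hi⟩ := Opens.mem_iSup.1 (hW.ge (Opens.mem_top (𝔜.gInv h𝔜 n y)))
    exact ⟨i, hi⟩
  have hglue : ∀ n, ∃ g : 𝔜.X n ⟶ 𝔛.X n, ∀ i, (𝔜.lvU h𝔜 n (W i)).ι ≫ g = (k i : FSch.Hom _ _).app n := by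
    intro n
    refine exists_glue _ (hcov n) _ fun i j => ?_
    obtain ⟨ℨ, l, l', e, e', hl⟩ := hk i j
    haveI := (hl n).1
    let O := 𝔜.lvU h𝔜 n (W i) ⊓ 𝔜.lvU h𝔜 n (W j)
    let m : (O : Scheme.{u}) ⟶ ℨ.X n := IsOpenImmersion.lift ((l ≫ 𝔜.restrictOpenι h𝔜 (W i) : FSch.Hom _ _).app n)
      O.ι (by rw [Scheme.Opens.range_ι]; exact (hl n).2)
    have hm : m ≫ ((l ≫ 𝔜.restrictOpenι h𝔜 (W i) : FSch.Hom _ _).app n) = O.ι := IsOpenImmersion.lift_fac _ _ _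
    have h1 : (𝔜.X n).homOfLE (inf_le_left : O ≤ _) = m ≫ (l : FSch.Hom _ _).app n := by
      rw [← cancel_mono (𝔜.lvU h𝔜 n (W i)).ι, Scheme.homOfLE_ι, Category.assoc]
      exact hm.symm
    have h2 : (𝔜.X n).homOfLE (inf_le_right : O ≤ _) = m ≫ (l' : FSch.Hom _ _).app n := by
      rw [← cancel_mono (𝔜.lvU h𝔜 n (W j)).ι, Scheme.homOfLE_ι, Category.assoc]
      exact hm.symm.trans (congrArg (fun φ : ℨ ⟶ 𝔜 => m ≫ (φ : FSch.Hom _ _).app n) e')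
    rw [h1, h2, Category.assoc, Category.assoc]
    exact congrArg (fun φ : ℨ ⟶ 𝔛 => m ≫ (φ : FSch.Hom _ _).app n) e
  choose g hg using hglue
  refine ⟨⟨g, fun n => ?_⟩, fun i => FSch.Hom.ext (funext fun n => hg n i)⟩
  refine Scheme.Cover.hom_ext ((𝔜.X n).openCoverOfIsOpenCover _
    (IsOpenCover.mk (eq_top_iff.2 fun y _ => Opens.mem_iSup.2 (hcov n y)))) _ _ fun i => ?_
  show (𝔜.lvU h𝔜 n (W i)).ι ≫ g n ≫ 𝔛.ι n = (𝔜.lvU h𝔜 n (W i)).ι ≫ 𝔜.ι n ≫ g (n + 1)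
  rw [← Category.assoc, hg, ← Category.assoc (Scheme.Opens.ι _) (𝔜.ι n),
    ← Scheme.Hom.resLE_comp_ι (𝔜.ι n) (𝔜.lvU_le h𝔜 n (W i)), Category.assoc, hg]
  exact (k i : FSch.Hom _ _).comm n

end Groth.Agent.FormBlow
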